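import Cfsg.Agent.Lib.Recog.SporHe.Bound
import Cfsg.Agent.Lib.Recog.SporHe.OrbitData
import Cfsg.Agent.Lib.Recog.SporBound.HeCollapse.Valid

set_option autoImplicit false
set_option maxRecDepth 20000

/-!
The presented Held group has order 4030387200, is faithful on 2058 points, and is simple (owner: lead).
-/

namespace CfsgLib.Recog.SporHe

open Cfsg CfsgLib.Recog.SporBound
open CfsgLib.ThreeTrans.CosetIndex (He2058.data He2058.valid relWords Data forallFrom)

instance : Finite Spor.He := card_le.1

theorem wperm_eq (w : List ℕ) : wperm He2058.valid w = act ((w.reverse.map el).prod) := by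
  rw [wperm, map_list_prod, List.map_map]
  congr 1
  exact List.map_congr_left fun x _ => (act_el x).symm

theorem card_range : 4030387200 ≤ Nat.card act.range := by
  have h := chain_card He2058.valid (Ls := levels) (prev := []) act.range
    (fun w _ => ⟨_, (wperm_eq w).symm⟩) (by decide +kernel)
  exact le_of_eq_of_le (by decide +kernel) h

theorem card_range_le : Nat.card act.range ≤ Nat.card Spor.He :=
  Nat.card_le_card_of_surjective act.rangeRestrict act.rangeRestrict_surjective

/-- The order of the presented Held group. -/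
theorem card_eq : Nat.card Spor.He = 4030387200 :=
  le_antisymm card_le.2 (card_range.trans card_range_le)

theorem act_injective : Function.Injective act := by
  have h := card_le.2.trans card_range
  have : Function.Injective act.rangeRestrict :=
    ((Nat.bijective_iff_surjective_and_card _).2
      ⟨act.rangeRestrict_surjective, le_antisymm h card_range_le⟩).1
  exact fun x y hxy => this (Subtype.ext hxy)

theorem transitive (c : Fin He2058.data.n) : ∃ g : Spor.He, act g ⟨0, by decide +kernel⟩ = c := by
  obtain ⟨m', hm'⟩ : ∃ m', grow He2058.data level0.2.1 level0.2.2 (Nat.shiftLeft 1 0) = some m' :=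
    Option.isSome_iff_exists.1 (by decide +kernel)
  have hall : ∀ i < He2058.data.n, m'.testBit i = true := by
    have h : forallFrom (fun i => ((grow He2058.data level0.2.1 level0.2.2 (Nat.shiftLeft 1 0)).getD 0).testBit i) 0
        He2058.data.n = true := by decide +kernel
    intro i hi
    have := CfsgLib.ThreeTrans.CosetIndex.forallFrom_elim h (i := i) (Nat.zero_le i) (by omega)
    rw [hm', Option.getD_some] at this
    exact this
  obtain ⟨_, h⟩ := grow_forward He2058.valid (fun d => ∃ g, act g ⟨0, by decide +kernel⟩ = d)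
    (fun k _ d ⟨g, hg⟩ => ⟨_ * g, by rw [map_mul, Equiv.Perm.mul_apply, hg, wperm_eq]⟩)
    (fun i hi => by
      rw [testBit_shift_one, decide_eq_true_eq] at hi
      subst hi
      exact ⟨by decide +kernel, 1, by simp⟩) hm' c (hall c c.2)
  exact h

/-- The origin. -/
noncomputable def o : Fin He2058.data.n := ⟨0, by decide +kernel⟩

theorem subs_fix {k : ℕ} (hk : k < He2058.data.subs.length) :
    wperm He2058.valid (He2058.data.subs.getD k []) o = o := by
  apply Fin.ext
  rw [wperm_apply, List.getD_eq_getElem _ _ hk]
  have h := He2058.valid.fixes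
  exact Nat.eq_of_beq_eq_true (List.all_eq_true.1 h _ (List.getElem_mem hk))

theorem getD_concat (L : List (List ℕ)) (w : List ℕ) {k : ℕ} (hk : k < (L ++ [w]).length) :
    (k < L.length ∧ (L ++ [w]).getD k [] = L.getD k []) ∨ (L ++ [w]).getD k [] = w := by
  rcases Nat.lt_or_ge k L.length with h | h
  · exact Or.inl ⟨h, by rw [List.getD_eq_getElem _ _ hk, List.getD_eq_getElem _ _ h, List.getElem_append_left h]⟩
  · refine Or.inr ?_
    rw [List.length_append, List.length_singleton] at hk
    obtain rfl : k = L.length := by omega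
    rw [List.getD_eq_getElem _ _ (by simp)]
    simp

/-- The certified suborbit and the move to its representative. -/
noncomputable def blocks : List ((ℕ × List (ℕ × ℕ)) × List ℕ × List (ℕ × ℕ)) :=
  [(suborbit0, moves0), (suborbit1, moves1), (suborbit2, moves2), (suborbit3, moves3)]

/-- The union of the suborbits. -/
noncomputable def covered (i : ℕ) : Bool :=
  blocks.any fun b => ((grow He2058.data He2058.data.subs b.1.2 (Nat.shiftLeft 1 b.1.1)).getD 0).testBit i

theorem blocks_ok : (blocks.all fun b =>
    (grow He2058.data He2058.data.subs b.1.2 (Nat.shiftLeft 1 b.1.1)).isSome &&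
    (Nat.beq (He2058.data.trace 0 b.2.1) b.1.1 && (Nat.blt b.1.1 He2058.data.n &&
    (Option.rec false (fun m => forallFrom (fun i => m.testBit i) 0 He2058.data.n)
      (grow He2058.data (He2058.data.subs ++ [b.2.1]) b.2.2 (Nat.shiftLeft 1 0)))))) = true := by
  decide +kernel

theorem covered_all : forallFrom covered 1 2057 = true := by decide +kernel

theorem normal_top (N : Subgroup Spor.He) [hN : N.Normal] (hne : N ≠ ⊥) (c : Fin He2058.data.n) :
    ∃ x ∈ N, act x o = c := by
  set P : Fin He2058.data.n → Prop := fun c => ∃ x ∈ N, act x o = c with hP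
  have stable : ∀ g : Spor.He, P (act g o) → ∀ d, P d → P (act g d) := by
    rintro g ⟨y, hy, hyo⟩ d ⟨x, hx, rfl⟩
    refine ⟨g * x * g⁻¹ * y, mul_mem (hN.conj_mem x hx g) hy, ?_⟩
    rw [map_mul, Equiv.Perm.mul_apply, hyo, map_mul, map_mul, map_inv]
    simp
  have hPo : P o := ⟨1, one_mem N, by simp⟩
  -- some element of N moves the origin
  obtain ⟨x, hx, hxo⟩ : ∃ x ∈ N, act x o ≠ o := by
    by_contra hcon
    push Not at hcon
    obtain ⟨⟨x, hx⟩, hx1'⟩ := N.ne_bot_iff_exists_ne_one.1 hne
    have hx1 : x ≠ 1 := fun e => hx1' (Subtype.ext e)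
    refine hx1 (act_injective (Equiv.ext fun d => ?_))
    obtain ⟨g, rfl⟩ := transitive d
    have := hcon _ (hN.conj_mem x hx g⁻¹)
    rw [inv_inv, map_mul, map_mul, map_inv, Equiv.Perm.mul_apply, Equiv.Perm.mul_apply] at this
    rw [map_one, Equiv.Perm.one_apply]
    exact (Equiv.Perm.inv_eq_iff_eq.1 this)
  set d₀ := act x o
  have hn : He2058.data.n = 2058 := by decide +kernel
  have hcov : covered d₀.1 = true := CfsgLib.ThreeTrans.CosetIndex.forallFrom_elim covered_all
    (Nat.one_le_iff_ne_zero.2 fun h => hxo (Fin.ext h))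
    (show d₀.1 < 1 + 2057 from by have := d₀.2; omega)
  obtain ⟨b, hb, hbit⟩ := List.any_eq_true.1 hcov
  have hok := List.all_eq_true.1 blocks_ok b hb
  simp only [Bool.and_eq_true, Option.isSome_iff_exists] at hok
  obtain ⟨⟨m1, hm1⟩, hw, hr, hfull⟩ := hok
  have hr' : b.1.1 < He2058.data.n := by simpa using hr
  rw [hm1, Option.getD_some] at hbit
  have invSub : ∀ k < He2058.data.subs.length, ∀ d,
      P (wperm He2058.valid (He2058.data.subs.getD k []) d) → P d := by
    intro k hk d hd
    have hfix := subs_fix hk
    rw [wperm_eq] at hd hfix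
    set g := (List.map el (List.reverse (He2058.data.subs.getD k []))).prod
    have hg : act g⁻¹ o = o := by rw [map_inv, Equiv.Perm.inv_eq_iff_eq]; exact hfix.symm
    have := stable g⁻¹ (hg.symm ▸ hPo) _ hd
    simpa using this
  obtain ⟨j, hj, hjm, hPj⟩ := grow_backward He2058.valid P invSub
    (fun i hi => by rw [testBit_shift_one, decide_eq_true_eq] at hi; exact hi ▸ hr') hm1
    d₀.1 d₀.2 hbit ⟨x, hx, rfl⟩
  rw [testBit_shift_one, decide_eq_true_eq] at hjm
  subst hjm
  cases hg2 : grow He2058.data (He2058.data.subs ++ [b.2.1]) b.2.2 (Nat.shiftLeft 1 0) with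
  | none => rw [hg2] at hfull; simp at hfull
  | some m2 =>
    rw [hg2] at hfull
    obtain ⟨_, hc⟩ := grow_forward He2058.valid P (ws := He2058.data.subs ++ [b.2.1])
      (fun k hk d hd => by
        rcases getD_concat _ _ hk with ⟨hk', e⟩ | e <;> rw [e, wperm_eq]
        · refine stable _ ?_ d hd
          rw [← wperm_eq, subs_fix hk']
          exact hPo
        · refine stable _ ?_ d hd
          rw [← wperm_eq]
          convert hPj
          rw [wperm_apply]
          first | exact hw | exact hw.symm | exact Nat.eq_of_beq_eq_true hw)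
      (fun i hi => by
        rw [testBit_shift_one, decide_eq_true_eq] at hi
        subst hi
        exact ⟨by decide +kernel, hPo⟩)
      hg2 c (CfsgLib.ThreeTrans.CosetIndex.forallFrom_elim (i := c.1) hfull (Nat.zero_le _) (by simp))
    exact hc

/-- The element `(bcde)^3`, of order seven. -/
noncomputable def seven : Spor.He := ([1, 2, 3, 4, 1, 2, 3, 4, 1, 2, 3, 4].map el).prod

theorem seven_pow : seven ^ 7 = 1 := by
  apply act_injective
  apply Equiv.ext
  intro c
  rw [map_one, Equiv.Perm.one_apply]
  have h : forallFrom (fun i => Nat.beq (He2058.data.trace i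
      ((List.replicate 7 [1, 2, 3, 4, 1, 2, 3, 4, 1, 2, 3, 4]).flatten.reverse)) i) 0 He2058.data.n = true := by
    decide +kernel
  have := Nat.eq_of_beq_eq_true (CfsgLib.ThreeTrans.CosetIndex.forallFrom_elim h (i := c.1) (Nat.zero_le c.1) (by simp))
  rw [← wperm_apply He2058.valid, wperm_eq, List.reverse_reverse, List.map_flatten, List.prod_flatten,
    List.map_replicate, List.map_replicate, List.prod_replicate] at this
  exact Fin.ext this

theorem top_of_seven (N : Subgroup Spor.He) [N.Normal] (h : seven ∈ N) : N = ⊤ := by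
  let π := QuotientGroup.mk' N
  have hinv : ∀ x, π (el x) * π (el x) = 1 := fun x => by rw [← map_mul, gen_inv nodes, map_one]
  have he : π (el CfsgLib.ThreeTrans.CosetIndex.eqLetter) = 1 := by rw [el, gen_eq nodes, map_one]
  have hrel : ∀ w ∈ HeCollapse.cert.rels, (w.map fun x => π (el x)).prod = 1 := by
    intro w hw
    rw [show (w.map fun x => π (el x)) = (w.map el).map π by rw [List.map_map]; rfl, ← map_list_prod]
    have hsplit : HeCollapse.cert.rels.all (fun v => (relWords Spor.He.edges Spor.He.extra gens).contains v ||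
        v == [1, 2, 3, 4, 1, 2, 3, 4, 1, 2, 3, 4]) = true := by decide +kernel
    have := List.all_eq_true.1 hsplit w hw
    simp only [Bool.or_eq_true, List.contains_iff_mem, beq_iff_eq] at this
    rcases this with h' | rfl
    · rw [relWord_one nodes h', map_one]
    · exact (QuotientGroup.eq_one_iff _).2 h
  obtain ⟨hfin, hle⟩ := Cert.card_le (a := fun x => π (el x)) hinv he HeCollapse.ok ⊥ ⊤ hrel
    (fun w hw => by simp [HeCollapse.cert] at hw) (by
      intro z _
      obtain ⟨y, rfl⟩ := QuotientGroup.mk'_surjective N z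
      have hy : y ∈ letterSub Spor.He.edges Spor.He.extra gens (List.range gens.length) := by
        rw [letterSub_range nodes]; trivial
      have := Subgroup.mem_map_of_mem π hy
      rw [letterSub, MonoidHom.map_closure] at this
      refine Subgroup.closure_mono ?_ this
      rintro _ ⟨g, ⟨x, hx, rfl⟩, rfl⟩
      exact ⟨x, hx, rfl⟩)
  have h1 : Nat.card (Spor.He ⧸ N) ≤ 1 := by
    rw [← Subgroup.card_top (G := Spor.He ⧸ N)]
    exact hle.trans (by simp [show HeCollapse.cert.n = 1 by decide +kernel])
  refine Subgroup.index_eq_one.1 ?_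
  have := Nat.card_pos (α := Spor.He ⧸ N)
  rw [Subgroup.index_eq_card]
  omega

/-- The presented Held group is simple. -/
theorem isSimple : IsSimpleGroup Spor.He := by
  haveI : Nontrivial Spor.He := by
    rw [← Finite.one_lt_card_iff_nontrivial, card_eq]
    norm_num
  refine ⟨fun N hN => ?_⟩
  rw [or_iff_not_imp_left]
  intro hne
  haveI := hN
  have hdvd : 2058 ∣ Nat.card N := by
    have htr : MulAction.orbit (N.map act : Subgroup (Equiv.Perm (Fin He2058.data.n))) o = Set.univ := by
      rw [Set.eq_univ_iff_forall]
      intro c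
      obtain ⟨x, hx, rfl⟩ := normal_top N hne c
      exact ⟨⟨act x, Subgroup.mem_map_of_mem act hx⟩, rfl⟩
    have := MulAction.index_stabilizer (N.map act : Subgroup (Equiv.Perm (Fin He2058.data.n))) o
    rw [htr, Set.ncard_univ, Nat.card_fin] at this
    rw [Nat.card_congr (Subgroup.equivMapOfInjective N act act_injective).toEquiv]
    have hd := Subgroup.index_dvd_card (MulAction.stabilizer (N.map act : Subgroup (Equiv.Perm (Fin He2058.data.n))) o)
    have h2058 : He2058.data.n = 2058 := by decide +kernel
    exact (this.trans h2058) ▸ hd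
  have hidx : N.index ∣ 1958400 := by
    obtain ⟨k, hk⟩ := hdvd
    have := N.card_mul_index
    rw [card_eq, hk] at this
    exact ⟨k, by rw [Nat.mul_comm]; exact (Nat.mul_left_cancel (by norm_num : 0 < 2058) (by rw [← Nat.mul_assoc, this])).symm⟩
  refine top_of_seven N ((QuotientGroup.eq_one_iff _).1 ?_)
  have hord : orderOf (QuotientGroup.mk' N seven) ∣ 7 :=
    orderOf_dvd_of_pow_eq_one (by rw [← map_pow, seven_pow, map_one])
  have hcard : orderOf (QuotientGroup.mk' N seven) ∣ 1958400 :=
    (orderOf_dvd_natCard _).trans (by rw [← Subgroup.index_eq_card]; exact hidx)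
  have h1 := Nat.dvd_gcd hord hcard
  rw [show Nat.gcd 7 1958400 = 1 by decide +kernel, Nat.dvd_one, orderOf_eq_one_iff] at h1
  exact h1

end CfsgLib.Recog.SporHe
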