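import Cfsg.Agent.Lib.Recog.SporHe.Flags

set_option autoImplicit false
set_option maxRecDepth 20000

/-!
An index-two subgroup of the point stabiliser of the Held group is the symplectic group of dimension four
over four elements (owner: lead).
-/

namespace CfsgLib.Recog.SporHe.Flags

open Cfsg CfsgLib.Recog.SporBound
open CfsgLib.ThreeTrans.CosetIndex (He2058.data He2058.valid fld forallFrom forallFrom_elim)
open CfsgLib.Classical.UFourTwo (FieldFour)

/-- The element of a word acting as `wperm`. -/
noncomputable def elem (w : List ℕ) : Spor.He := (w.reverse.map el).prod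

/-- The even elements. -/
noncomputable def evenSub : Subgroup Spor.He :=
  Subgroup.closure {g | ∃ e ∈ genList, g = elem e.1}

theorem mats_ok : (genList.all fun e => decide (mat e.2.1 * Matrix.J (Fin 2) FieldFour * Matrix.transpose (mat e.2.1) =
    Matrix.J (Fin 2) FieldFour) && Nat.beq (He2058.data.trace 0 e.1) 0) = true := by decide +kernel

theorem pts_ok : (genList.all fun e => decide (∀ p : Fin 85, ∃ c : FieldFour, c ≠ 0 ∧
    (mat e.2.1).mulVec (vec p) = c • vec (cap (fld e.2.2.1 p.1)))) = true := by decide +kernel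

theorem flags_ok : (genList.all fun e => forallFrom (fun j =>
    Nat.blt (fld e.2.2.2.2 j) 425 && (Nat.beq (He2058.data.trace (fld orbitData j) e.1) (fld orbitData (fld e.2.2.2.2 j)) &&
      (Nat.beq (fld e.2.2.1 (fld pointData j)) (fld pointData (fld e.2.2.2.2 j)) &&
        Nat.beq (fld e.2.2.2.1 (fld lineData j)) (fld lineData (fld e.2.2.2.2 j))))) 0 425) = true := by decide +kernel

theorem data_small : forallFrom (fun j => Nat.blt (fld pointData j) 85 &&
    (Nat.blt (fld lineData j) 85 && Nat.blt (fld orbitData j) He2058.data.n)) 0 425 = true := by decide +kernel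

theorem rel_gen {e : List ℕ × ℕ × ℕ × ℕ × ℕ} (he : e ∈ genList) :
    elem e.1 ∈ stabO ∧ ∃ M, Rel (elem e.1) M := by
  have h1 := List.all_eq_true.1 mats_ok e he
  simp only [Bool.and_eq_true, decide_eq_true_eq, Nat.beq_eq] at h1
  refine ⟨?_, ⟨mat e.2.1, SymplecticGroup.mem_iff.2 h1.1⟩, fun p => cap (fld e.2.2.1 p.1), fun l => cap (fld e.2.2.2.1 l.1), ?_, ?_⟩
  · show act (elem e.1) o = o
    rw [elem, ← wperm_eq]
    apply Fin.ext
    rw [wperm_apply]
    exact h1.2
  · exact of_decide_eq_true (List.all_eq_true.1 pts_ok e he)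
  · intro j
    have h := forallFrom_elim (List.all_eq_true.1 flags_ok e he) (i := j.1) (Nat.zero_le _) (by omega)
    simp only [Bool.and_eq_true, Nat.beq_eq, Nat.blt_eq] at h
    obtain ⟨hj', ht, hp, hl⟩ := h
    have hs := forallFrom_elim data_small (i := j.1) (Nat.zero_le _) (by omega)
    have hs' := forallFrom_elim data_small (i := fld e.2.2.2.2 j.1) (Nat.zero_le _) (by omega)
    simp only [Bool.and_eq_true, Nat.blt_eq] at hs hs'
    refine ⟨⟨_, hj'⟩, ?_, ?_, ?_⟩
    · rw [elem, ← wperm_eq]
      apply Fin.ext
      rw [wperm_apply]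
      show He2058.data.trace (fld orbitData j.1 % He2058.data.n) e.1 = fld orbitData (fld e.2.2.2.2 j.1) % He2058.data.n
      rw [Nat.mod_eq_of_lt hs.2.2, Nat.mod_eq_of_lt hs'.2.2, ht]
    · apply Fin.ext
      show fld pointData _ % 85 = fld e.2.2.1 (fld pointData j.1 % 85) % 85
      rw [Nat.mod_eq_of_lt hs.1, hp]
    · apply Fin.ext
      show fld lineData _ % 85 = fld e.2.2.2.1 (fld lineData j.1 % 85) % 85
      rw [Nat.mod_eq_of_lt hs.2.1, hl]

theorem mem_even {h : Spor.He} (hh : h ∈ evenSub) : h ∈ stabO ∧ ∃ M, Rel h M := by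
  induction hh using Subgroup.closure_induction with
  | mem g hg => obtain ⟨e, he, rfl⟩ := hg; exact rel_gen he
  | one => exact ⟨one_mem _, 1, rel_one⟩
  | mul a b _ _ ha hb =>
    obtain ⟨ha1, M, hM⟩ := ha
    obtain ⟨hb1, N, hN⟩ := hb
    exact ⟨mul_mem ha1 hb1, M * N, rel_mul hM hN⟩
  | inv a _ ha =>
    obtain ⟨ha1, M, hM⟩ := ha
    refine ⟨inv_mem ha1, ?_⟩
    have hpow : ∀ k : ℕ, ∃ N, Rel (a ^ k) N := by
      intro k
      induction k with
      | zero => exact ⟨1, by rw [pow_zero]; exact rel_one⟩
      | succ k ih =>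
        obtain ⟨N, hN⟩ := ih
        exact ⟨N * M, by rw [pow_succ]; exact rel_mul hN hM⟩
    obtain ⟨N, hN⟩ := hpow (orderOf a - 1)
    refine ⟨N, ?_⟩
    have : a ^ (orderOf a - 1) = a⁻¹ := by
      refine (inv_eq_of_mul_eq_one_right ?_).symm
      rw [← pow_succ', Nat.sub_add_cancel (orderOf_pos a), pow_orderOf_eq_one]
    rwa [this] at hN

theorem rel_unique {h : Spor.He} (hh : h ∈ evenSub) {M M' : Matrix.symplecticGroup (Fin 2) FieldFour}
    (hM : Rel h M) (hM' : Rel h M') : M = M' := by
  obtain ⟨-, N, hN⟩ := mem_even (inv_mem hh)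
  have h1 : N * M = 1 := rel_one_left (by have := rel_mul hN hM; rwa [inv_mul_cancel] at this)
  have h2 : N * M' = 1 := rel_one_left (by have := rel_mul hN hM'; rwa [inv_mul_cancel] at this)
  exact mul_left_cancel (h1.trans h2.symm)

/-- The matrices. -/
noncomputable def toSp : evenSub →* Matrix.symplecticGroup (Fin 2) FieldFour where
  toFun h := Classical.choose (mem_even h.2).2
  map_one' := rel_unique (one_mem _) (Classical.choose_spec (mem_even (1 : evenSub).2).2) rel_one
  map_mul' a b := rel_unique (a * b).2 (Classical.choose_spec (mem_even (a * b).2).2)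
    (rel_mul (Classical.choose_spec (mem_even a.2).2) (Classical.choose_spec (mem_even b.2).2))

theorem toSp_injective : Function.Injective toSp := by
  rw [injective_iff_map_eq_one]
  intro h hh
  have hr : Rel (h : Spor.He) (toSp h) := Classical.choose_spec (mem_even h.2).2
  rw [hh] at hr
  exact Subtype.ext (rel_one_right (mem_even h.2).1 hr)

/-- Cancelling adjacent equal letters. -/
def reduceWord (w : List ℕ) : List ℕ :=
  w.foldr (fun x acc => match acc with
    | [] => [x]
    | y :: t => if x = y then t else x :: y :: t) []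

theorem reduceWord_prod (w : List ℕ) : ((reduceWord w).map el).prod = (w.map el).prod := by
  induction w with
  | nil => rfl
  | cons x w ih =>
    rw [List.map_cons, List.prod_cons, ← ih, reduceWord, List.foldr_cons, ← reduceWord]
    cases reduceWord w with
    | nil => simp
    | cons y t =>
      dsimp only
      split_ifs with hxy
      · subst hxy
        rw [List.map_cons, List.prod_cons, ← mul_assoc, gen_inv nodes, one_mul]
      · simp

/-- Spelling out a product of generators and inverses. -/
noncomputable def spell (d : List (ℕ × Bool)) : List ℕ :=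
  d.flatMap fun i => cond i.2 ((genList.map Prod.fst).getD i.1 []).reverse ((genList.map Prod.fst).getD i.1 [])

/-- Membership of a word in the list of spelled words. -/
noncomputable def evenWords (w : List ℕ) : Bool :=
  evenDecs.any fun p => p.1 == w && reduceWord (spell p.2) == w

theorem evenLevels_ok : evenLevels.all (fun L => L.2.1.all fun w => evenWords w) = true := by decide +kernel

theorem prod_reverse (w : List ℕ) : ((w.reverse).map el).prod = ((w.map el).prod)⁻¹ :=
  CfsgLib.ThreeTrans.CosetIndex.prod_reverse_eq_inv el (gen_inv nodes) w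

theorem evenWords_sound {w : List ℕ} (h : evenWords w = true) : elem w ∈ evenSub := by
  obtain ⟨p, -, hp⟩ := List.any_eq_true.1 h
  simp only [Bool.and_eq_true, beq_iff_eq] at hp
  obtain ⟨-, hp⟩ := hp
  rw [elem, prod_reverse, ← hp, reduceWord_prod]
  refine inv_mem ?_
  have key : ∀ d : List (ℕ × Bool), ((spell d).map el).prod ∈ evenSub := by
    intro d
    induction d with
    | nil => simpa [spell] using one_mem evenSub
    | cons i d ih =>
      rw [spell, List.flatMap_cons, ← spell, List.map_append, List.prod_append]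
      refine mul_mem ?_ ih
      have hv : ∀ v ∈ genList.map Prod.fst, ((v.reverse).map el).prod ∈ evenSub ∧ (v.map el).prod ∈ evenSub := by
        intro v hv
        obtain ⟨e, he, rfl⟩ := List.mem_map.1 hv
        have hm : elem e.1 ∈ evenSub := Subgroup.subset_closure ⟨e, he, rfl⟩
        refine ⟨hm, ?_⟩
        rw [elem, prod_reverse] at hm
        simpa using inv_mem hm
      by_cases hi : i.1 < (genList.map Prod.fst).length
      · rw [List.getD_eq_getElem _ _ hi]
        cases i.2
        · exact (hv _ (List.getElem_mem hi)).2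
        · exact (hv _ (List.getElem_mem hi)).1
      · rw [List.getD_eq_default _ _ (by omega)]
        cases i.2 <;> simp
  exact key p.2

theorem card_sp : Nat.card (Matrix.symplecticGroup (Fin 2) FieldFour) = 979200 := by
  rw [CfsgLib.Classical.Symp.card_symplecticGroup, FieldFour.card_fieldFour]
  simp [Finset.prod_range_succ]

theorem card_even : Nat.card evenSub = 979200 := by
  refine le_antisymm ((Nat.card_le_card_of_injective _ toSp_injective).trans card_sp.le) ?_
  have hR : ∀ L ∈ evenLevels, ∀ w ∈ L.2.1, wperm He2058.valid w ∈ evenSub.map act := by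
    have hall : evenLevels.all (fun L => L.2.1.all fun w => evenWords w) = true := evenLevels_ok
    intro L hL w hw
    refine ⟨elem w, evenWords_sound (List.all_eq_true.1 (List.all_eq_true.1 hall L hL) w hw), ?_⟩
    rw [elem, ← wperm_eq]
  have hc := chain_card_words (evenSub.map act) hR (prev := []) (by decide +kernel)
  rw [show (evenLevels.map fun L => L.2.2.length + 1).prod = 979200 by decide +kernel,
    Subgroup.card_map_of_injective act_injective] at hc
  refine le_trans ?_ hc
  refine Nat.le_mul_of_pos_right _ ?_
  haveI : Nonempty {g : evenSub.map act // ∀ b ∈ evenLevels.map Prod.fst, ∀ c : Pt, (c : ℕ) = b → (g : Equiv.Perm Pt) c = c} :=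
    ⟨⟨1, fun b _ c _ => rfl⟩⟩
  exact Nat.card_pos

end CfsgLib.Recog.SporHe.Flags
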