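import Cfsg.Prelude.Def_Sporadic
import Cfsg.Agent.Lib.Recog.SporHe.Iso

set_option autoImplicit false
set_option maxRecDepth 20000

/-! Conclusions about the point stabiliser (owner: lead). -/

namespace CfsgLib.Recog.SporHe.Flags

open Cfsg
open CfsgLib.ThreeTrans.CosetIndex (He2058.data He2058.valid)
open CfsgLib.Classical.UFourTwo (FieldFour)

theorem evenSub_le : evenSub ≤ sub := by
  rw [sub_eq]
  exact fun h hh => (mem_even hh).1

theorem index_even : (evenSub.subgroupOf sub).index = 2 := by
  have hc : Nat.card sub = 1958400 := by rw [sub_eq, card_stabO]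
  have h := (evenSub.subgroupOf sub).card_mul_index
  rw [Nat.card_congr (Subgroup.subgroupOfEquivOfLe evenSub_le).toEquiv, card_even, hc] at h
  omega

/-- The isomorphism. -/
noncomputable def evenEquiv : evenSub ≃* Matrix.symplecticGroup (Fin 2) FieldFour :=
  MulEquiv.ofBijective toSp ((Nat.bijective_iff_injective_and_card _).2
    ⟨toSp_injective, by rw [card_even, card_sp]⟩)

/-- The image acting on `Fin n` for `n = 2058`. -/
noncomputable def relabel : Spor.He →* Equiv.Perm (Fin 2058) :=
  (finCongr data_n).permCongrHom.toMonoidHom.comp act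

theorem relabel_injective : Function.Injective relabel :=
  (finCongr data_n).permCongrHom.injective.comp act_injective

theorem relabel_apply (g : Spor.He) (c : Fin 2058) :
    relabel g c = finCongr data_n (act g ((finCongr data_n).symm c)) := rfl

theorem realisation : ∃ H : Subgroup (Equiv.Perm (Fin 2058)), Cfsg.IsHe H ∧ MulAction.IsPretransitive H (Fin 2058) ∧
    ∃ (F : Type) (_ : Field F) (_ : Fintype F), Fintype.card F = 4 ∧
      ∃ N : Subgroup (MulAction.stabilizer H (0 : Fin 2058)), N.index = 2 ∧
        Nonempty (N ≃* Matrix.symplecticGroup (Fin 2) F) := by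
  set e : Spor.He ≃* relabel.range := MonoidHom.ofInjective relabel_injective
  refine ⟨relabel.range, ⟨?_, ?_⟩, ?_, FieldFour, inferInstance, inferInstance, FieldFour.card_fieldFour, ?_⟩
  · haveI := isSimple
    exact MulEquiv.isSimpleGroup e.symm
  · rw [← Nat.card_congr e.toEquiv, card_eq]
  · refine ⟨fun x y => ?_⟩
    obtain ⟨g, hg⟩ := transitive ((finCongr data_n).symm x)
    obtain ⟨g', hg'⟩ := transitive ((finCongr data_n).symm y)
    refine ⟨e (g' * g⁻¹), ?_⟩
    show relabel (g' * g⁻¹) x = y
    rw [relabel_apply, map_mul, map_inv, Equiv.Perm.mul_apply, Equiv.Perm.inv_eq_iff_eq.2 hg.symm, hg',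
      Equiv.apply_symm_apply]
  · have hmem : ∀ g : Spor.He, e g ∈ MulAction.stabilizer relabel.range (0 : Fin 2058) ↔ g ∈ sub := by
      intro g
      rw [sub_eq, MulAction.mem_stabilizer_iff]
      show relabel g 0 = 0 ↔ act g o = o
      rw [relabel_apply]
      have h0 : (finCongr data_n).symm (0 : Fin 2058) = o := Fin.ext rfl
      rw [h0, ← Equiv.eq_symm_apply, h0]
    let f : sub ≃* MulAction.stabilizer relabel.range (0 : Fin 2058) :=
      { toFun := fun g => ⟨e g, (hmem g).2 g.2⟩
        invFun := fun h => ⟨e.symm h.1, (hmem _).1 (by rw [MulEquiv.apply_symm_apply]; exact h.2)⟩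
        left_inv := fun g => Subtype.ext (e.symm_apply_apply g.1)
        right_inv := fun h => Subtype.ext (e.apply_symm_apply h.1)
        map_mul' := fun g g' => Subtype.ext (map_mul e g.1 g'.1) }
    refine ⟨(evenSub.subgroupOf sub).map f.toMonoidHom, ?_, ?_⟩
    · rw [Subgroup.index_map_of_bijective (f := f.toMonoidHom) f.bijective]
      exact index_even
    · exact ⟨((Subgroup.equivMapOfInjective _ _ f.injective).symm.trans
        (Subgroup.subgroupOfEquivOfLe evenSub_le)).trans evenEquiv⟩

end CfsgLib.Recog.SporHe.Flags
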