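import Cfsg.Agent.Lib.Recog.SporHe.MultBasic

set_option autoImplicit false
set_option maxRecDepth 20000

/-!
Equality of words in the Held group from the images of five base points (owner: helper22).
-/

namespace CfsgLib.Recog.SporHe.Base

open Cfsg CfsgLib.Recog.SporBound CfsgLib.Recog.SporHe.Mult
open CfsgLib.ThreeTrans.CosetIndex (He2058.data He2058.valid)

/-- The base points. -/
noncomputable def points : List ℕ := levels.map fun L => L.1

/-- The pointwise stabiliser of some points. -/
def fixer (S : List ℕ) : Subgroup (Equiv.Perm (Fin He2058.data.n)) where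
  carrier := {g | ∀ c : Fin He2058.data.n, (c : ℕ) ∈ S → g c = c}
  one_mem' := fun _ _ => rfl
  mul_mem' := fun hg hh c hc => by rw [Equiv.Perm.mul_apply, hh c hc, hg c hc]
  inv_mem' := fun hg c hc => Equiv.Perm.inv_eq_iff_eq.2 (hg c hc).symm

/-- A chain bounds the order together with what fixes all its base points. -/
theorem chain_mul : ∀ {Ls : List SporBound.Level} {prev : List ℕ} (R : Subgroup (Equiv.Perm (Fin He2058.data.n))),
    (∀ w : List ℕ, (∀ p ∈ prev, He2058.data.trace p w = p) → wperm He2058.valid w ∈ R) →
    chainOK He2058.data prev Ls = true →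
    (Ls.map fun L => L.2.2.length + 1).prod * Nat.card ↥(R ⊓ fixer (Ls.map fun L => L.1)) ≤ Nat.card R
  | [], prev, R, _, _ => by
    rw [List.map_nil, List.map_nil, List.prod_nil, one_mul]
    exact Subgroup.card_le_of_le inf_le_left
  | L :: Ls, prev, R, hR, h => by
    have h' : (Nat.blt L.1 He2058.data.n && (L.2.1.all (fun w => prev.all fun p => Nat.beq (He2058.data.trace p w) p) &&
      ((grow He2058.data L.2.1 L.2.2 (Nat.shiftLeft 1 L.1)).isSome && chainOK He2058.data (L.1 :: prev) Ls))) = true := h
    simp only [Bool.and_eq_true, List.all_eq_true, Nat.beq_eq, Option.isSome_iff_exists] at h'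
    obtain ⟨hb, hfix, ⟨m', hg⟩, hrest⟩ := h'
    have hb' : L.1 < He2058.data.n := by simpa using hb
    set b : Fin He2058.data.n := ⟨L.1, hb'⟩
    have horb := grow_forward He2058.valid (fun c => c ∈ MulAction.orbit R b) (ws := L.2.1) (fun k hk c hc => by
        have hw : wperm He2058.valid (L.2.1.getD k []) ∈ R := hR _ fun p hp => by
          rw [List.getD_eq_getElem _ _ hk]; exact hfix _ (List.getElem_mem hk) p hp
        obtain ⟨g, rfl⟩ := hc
        exact ⟨⟨_, hw⟩ * g, rfl⟩)
      (fun i hi => by
        rw [testBit_shift_one, decide_eq_true_eq] at hi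
        subst hi
        exact ⟨hb', MulAction.mem_orbit_self _⟩) hg
    obtain ⟨S, hS, hcard⟩ := grow_card (S := {L.1})
      (fun i => by rw [Finset.mem_singleton, testBit_shift_one, decide_eq_true_eq, eq_comm]) hg
    have h1 : L.2.2.length + 1 ≤ Nat.card (MulAction.orbit R b) := by
      rw [Finset.card_singleton, Nat.add_comm] at hcard
      rw [← hcard]
      let f : S → MulAction.orbit R b := fun i => ⟨⟨i.1, (horb _ ((hS _).1 i.2)).1⟩, (horb _ ((hS _).1 i.2)).2⟩
      rw [← Nat.card_eq_finsetCard]
      exact Nat.card_le_card_of_injective f fun i j hij =>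
        Subtype.ext (Fin.val_eq_of_eq (congrArg Subtype.val hij))
    have h2 := chain_mul ((MulAction.stabilizer R b).map R.subtype) (prev := L.1 :: prev) (Ls := Ls)
      (fun w hw => ⟨⟨_, hR w fun p hp => hw p (List.mem_cons_of_mem _ hp)⟩,
        Fin.ext (by
          rw [show ((⟨wperm He2058.valid w, _⟩ : R) • b) = wperm He2058.valid w b from rfl, wperm_apply]
          exact hw _ List.mem_cons_self),
        rfl⟩) hrest
    have hsub : R ⊓ fixer ((L :: Ls).map fun L => L.1) ≤
        ((MulAction.stabilizer R b).map R.subtype) ⊓ fixer (Ls.map fun L => L.1) := by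
      rintro g ⟨hgR, hgF⟩
      exact ⟨⟨⟨g, hgR⟩, hgF b List.mem_cons_self, rfl⟩, fun c hc => hgF c (List.mem_cons_of_mem _ hc)⟩
    rw [Subgroup.card_map_of_injective Subtype.val_injective] at h2
    rw [List.map_cons, List.prod_cons, Nat.card_congr (MulAction.orbitProdStabilizerEquivGroup R b).symm, Nat.card_prod,
      mul_assoc]
    exact le_trans (Nat.mul_le_mul h1 (le_trans (Nat.mul_le_mul_left _ (Subgroup.card_le_of_le hsub)) h2)) le_rfl

theorem chain_levels : chainOK He2058.data [] levels = true := by decide +kernel

theorem fixer_eq_bot : act.range ⊓ fixer points = ⊥ := by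
  have h := chain_mul act.range (prev := []) (Ls := levels) (fun w _ => ⟨_, (wperm_eq w).symm⟩) chain_levels
  have hp : (levels.map fun L => L.2.2.length + 1).prod = 4030387200 := by decide +kernel
  rw [hp] at h
  have h' := h.trans (card_range_le.trans card_eq.le)
  refine Subgroup.eq_bot_of_card_le _ ?_
  rw [points]
  refine Nat.le_of_mul_le_mul_left ?_ (show 0 < 4030387200 by norm_num)
  rw [mul_one]
  exact h'

/-- Two words move the base points in the same way. -/
noncomputable def fast (u w : List ℕ) : Bool :=
  points.all fun c => Nat.beq (He2058.data.trace c u) (He2058.data.trace c w)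

theorem points_small : (points.all fun c => Nat.blt c He2058.data.n) = true := by decide +kernel

theorem eq_of_fast {u w : List ℕ} (h : fast u w = true) : val u = val w := by
  have key : (act (val u)⁻¹)⁻¹ * act (val w)⁻¹ ∈ act.range ⊓ fixer points := by
    have hR : ∀ g, act g ∈ act.range := fun g => ⟨g, rfl⟩
    refine ⟨act.range.mul_mem (act.range.inv_mem (hR _)) (hR _), fun c hc => ?_⟩
    rw [Equiv.Perm.mul_apply, Equiv.Perm.inv_eq_iff_eq]
    apply Fin.ext
    have e := Nat.eq_of_beq_eq_true (List.all_eq_true.1 h c hc)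
    rw [act_word u c, act_word w c] at e
    exact e.symm
  rw [fixer_eq_bot, Subgroup.mem_bot, inv_mul_eq_one] at key
  exact inv_injective (act_injective key)

end CfsgLib.Recog.SporHe.Base
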