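import Cfsg.Agent.Lib.Recog.SporHe.Simple
import Cfsg.Agent.Lib.Recog.SporHe.FlagData
import Cfsg.Agent.Lib.Classical.SmallOrtho.UFourTwoData
import Cfsg.Agent.Lib.Classical.Symplectic.Matrix

set_option autoImplicit false
set_option maxRecDepth 20000

/-!
The stabiliser of a point in the Held group contains, with index 2, a copy of the symplectic group of
dimension four over four elements: its action on 425 flags of the symplectic quadrangle (owner: lead).
-/

namespace CfsgLib.Recog.SporHe.Flags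

open Cfsg CfsgLib.Recog.SporBound
open CfsgLib.ThreeTrans.CosetIndex (He2058.data He2058.valid fld forallFrom forallFrom_elim)
open CfsgLib.Classical.UFourTwo (FieldFour)

/-- Points. -/
abbrev Pt := Fin He2058.data.n

theorem data_n : He2058.data.n = 2058 := by decide +kernel

/-- The stabiliser of the origin. -/
noncomputable def stabO : Subgroup Spor.He where
  carrier := {x | act x o = o}
  one_mem' := by simp
  mul_mem' := fun {x y} hx hy => by
    show act (x * y) o = o
    rw [map_mul, Equiv.Perm.mul_apply, hy, hx]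
  inv_mem' := fun {x} hx => by
    show act x⁻¹ o = o
    rw [map_inv, Equiv.Perm.inv_eq_iff_eq]
    exact (hx : act x o = o).symm

theorem card_stabO : Nat.card stabO = 1958400 := by
  letI : MulAction Spor.He Pt := MulAction.compHom Pt act
  have hs : stabO = MulAction.stabilizer Spor.He o := by
    ext x; exact Iff.rfl
  haveI : MulAction.IsPretransitive Spor.He Pt := ⟨fun x y => by
    obtain ⟨g, hg⟩ := transitive x
    obtain ⟨g', hg'⟩ := transitive y
    refine ⟨g' * g⁻¹, ?_⟩
    show act (g' * g⁻¹) x = y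
    rw [map_mul, map_inv, Equiv.Perm.mul_apply, Equiv.Perm.inv_eq_iff_eq.2 hg.symm, hg']⟩
  have h := MulAction.index_stabilizer_of_transitive Spor.He o
  rw [Nat.card_fin] at h
  have hm := (MulAction.stabilizer Spor.He o).card_mul_index
  rw [card_eq, h.trans data_n] at hm
  rw [hs]
  omega

/-- The subgroup of the statement. -/
abbrev sub : Subgroup Spor.He :=
  (Subgroup.closure {r | r ∈ words}).map (PresentedGroup.mk (Spor.coxRelators Spor.He.edges ∪ {r | r ∈ Spor.He.extra}))

theorem sub_eq : sub = stabO := by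
  have hidx : sub.index = He2058.data.n :=
    CfsgLib.ThreeTrans.CosetIndex.presented_index He2058.valid fits
  have hle : sub ≤ stabO := by
    rw [sub, CfsgLib.ThreeTrans.CosetIndex.map_closure_eq fits, Subgroup.closure_le]
    rintro _ ⟨w, hw, rfl⟩
    have hinv : act ((w.map el).prod)⁻¹ o = o := by
      apply Fin.ext
      rw [← act_word]
      exact Nat.eq_of_beq_eq_true (List.all_eq_true.1 He2058.valid.fixes w hw)
    rw [map_inv, Equiv.Perm.inv_eq_iff_eq] at hinv
    exact hinv.symm
  refine Subgroup.eq_of_le_of_card_ge hle ?_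
  have hm := sub.card_mul_index
  rw [card_eq, hidx, data_n] at hm
  rw [card_stabO]
  omega

/-! ### the tables -/

/-- A number as a point. -/
noncomputable def cap (k : ℕ) : Fin 85 := ⟨k % 85, Nat.mod_lt _ (by norm_num)⟩

/-- The flag with a given number. -/
noncomputable def flag (j : Fin 425) : Pt := ⟨fld orbitData j.1 % He2058.data.n, Nat.mod_lt _ (by rw [data_n]; norm_num)⟩

/-- Its point. -/
noncomputable def pnt (j : Fin 425) : Fin 85 := cap (fld pointData j.1)

/-- Its line. -/
noncomputable def lin (j : Fin 425) : Fin 85 := cap (fld lineData j.1)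

/-- Two bits as a field element. -/
noncomputable def el4 (k : ℕ) : FieldFour :=
  cond (Nat.beq (Nat.land k 3) 0) FieldFour.o
    (cond (Nat.beq (Nat.land k 3) 1) FieldFour.i (cond (Nat.beq (Nat.land k 3) 2) FieldFour.w FieldFour.v))

/-- The position of a coordinate. -/
def pos : Fin 2 ⊕ Fin 2 → ℕ
  | .inl i => i.1
  | .inr i => 2 + i.1

/-- The representative vector of a point. -/
noncomputable def vec (p : Fin 85) (r : Fin 2 ⊕ Fin 2) : FieldFour :=
  el4 (Nat.shiftRight (fld vecData p.1) (2 * pos r))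

/-- The matrix with a given code. -/
noncomputable def mat (code : ℕ) : Matrix (Fin 2 ⊕ Fin 2) (Fin 2 ⊕ Fin 2) FieldFour :=
  fun r c => el4 (Nat.shiftRight code (2 * (4 * pos r + pos c)))

/-- A matrix moves the flags as the element does. -/
def Rel (h : Spor.He) (M : Matrix.symplecticGroup (Fin 2) FieldFour) : Prop :=
  ∃ π σ : Fin 85 → Fin 85,
    (∀ p, ∃ c : FieldFour, c ≠ 0 ∧ (M : Matrix (Fin 2 ⊕ Fin 2) (Fin 2 ⊕ Fin 2) FieldFour).mulVec (vec p) = c • vec (π p)) ∧
    ∀ j, ∃ j', act h (flag j) = flag j' ∧ pnt j' = π (pnt j) ∧ lin j' = σ (lin j)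

theorem rel_one : Rel 1 1 :=
  ⟨id, id, fun p => ⟨1, one_ne_zero, by simp⟩, fun j => ⟨j, by simp⟩⟩

theorem rel_mul {a b : Spor.He} {M N : Matrix.symplecticGroup (Fin 2) FieldFour} (ha : Rel a M) (hb : Rel b N) :
    Rel (a * b) (M * N) := by
  obtain ⟨π, σ, hπ, hσ⟩ := ha
  obtain ⟨π', σ', hπ', hσ'⟩ := hb
  refine ⟨π ∘ π', σ ∘ σ', fun p => ?_, fun j => ?_⟩
  · obtain ⟨c, hc, hcv⟩ := hπ' p
    obtain ⟨d, hd, hdv⟩ := hπ (π' p)
    refine ⟨c * d, mul_ne_zero hc hd, ?_⟩
    rw [Submonoid.coe_mul, ← Matrix.mulVec_mulVec, hcv, Matrix.mulVec_smul, hdv, smul_smul]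
    rfl
  · obtain ⟨j', e1, e2, e3⟩ := hσ' j
    obtain ⟨j'', f1, f2, f3⟩ := hσ j'
    exact ⟨j'', by rw [map_mul, Equiv.Perm.mul_apply, e1, f1], by rw [f2, e2]; rfl, by rw [f3, e3]; rfl⟩

theorem orbit_distinct : forallFrom (fun j => Nat.beq (fld flagIndex (pnt ⟨j % 425, Nat.mod_lt _ (by norm_num)⟩ * 85 +
    lin ⟨j % 425, Nat.mod_lt _ (by norm_num)⟩)) j && (flagMask.testBit (pnt ⟨j % 425, Nat.mod_lt _ (by norm_num)⟩ * 85 +
    lin ⟨j % 425, Nat.mod_lt _ (by norm_num)⟩))) 0 425 = true := by decide +kernel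

theorem flag_ext {j k : Fin 425} (h1 : pnt j = pnt k) (h2 : lin j = lin k) : j = k := by
  have hj := forallFrom_elim orbit_distinct (i := j.1) (Nat.zero_le _) (by omega)
  have hk := forallFrom_elim orbit_distinct (i := k.1) (Nat.zero_le _) (by omega)
  simp only [Nat.mod_eq_of_lt j.2, Nat.mod_eq_of_lt k.2, Fin.eta, Bool.and_eq_true, Nat.beq_eq] at hj hk
  rw [h1, h2] at hj
  exact Fin.ext (hj.1.symm.trans hk.1)

theorem mask_flag (j : Fin 425) : flagMask.testBit (pnt j * 85 + lin j) = true := by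
  have hj := forallFrom_elim orbit_distinct (i := j.1) (Nat.zero_le _) (by omega)
  simp only [Nat.mod_eq_of_lt j.2, Fin.eta, Bool.and_eq_true] at hj
  exact hj.2

theorem lines_check : ∀ l l' : Fin 85,
    flagMask.testBit (cap (fld lineFirst l.1) * 85 + l') = true →
    flagMask.testBit (cap (fld lineLast l.1) * 85 + l') = true → l = l' := by decide +kernel

theorem line_points : ∀ l : Fin 85,
    (∃ j : Fin 425, lin j = l ∧ pnt j = cap (fld lineFirst l.1)) ∧
    (∃ j : Fin 425, lin j = l ∧ pnt j = cap (fld lineLast l.1)) := by decide +kernel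

theorem pnt_surj : ∀ p : Fin 85, ∃ j : Fin 425, pnt j = p := by decide +kernel

theorem vec_inj : ∀ (p q : Fin 85) (c : FieldFour), c ≠ 0 → vec p = c • vec q → p = q := by decide +kernel

theorem base_in_orbit : (stabLevels.map Prod.fst).all (fun b => (List.range 425).any fun j => Nat.beq (fld orbitData j) b) = true := by
  decide +kernel

theorem chain_card_words : ∀ {Ls : List Level} {prev : List ℕ} (R : Subgroup (Equiv.Perm Pt)),
    (∀ L ∈ Ls, ∀ w ∈ L.2.1, wperm He2058.valid w ∈ R) → chainOK He2058.data prev Ls = true →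
    (Ls.map fun L => L.2.2.length + 1).prod *
      Nat.card {g : R // ∀ b ∈ Ls.map Prod.fst, ∀ c : Pt, (c : ℕ) = b → (g : Equiv.Perm Pt) c = c} ≤ Nat.card R
  | [], prev, R, _, _ => by
    simp
  | L :: Ls, prev, R, hR, h => by
    have h' : (Nat.blt L.1 He2058.data.n && (L.2.1.all (fun w => prev.all fun p => Nat.beq (He2058.data.trace p w) p) &&
      ((grow He2058.data L.2.1 L.2.2 (Nat.shiftLeft 1 L.1)).isSome && chainOK He2058.data (L.1 :: prev) Ls))) = true := h
    simp only [Bool.and_eq_true, Option.isSome_iff_exists] at h'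
    obtain ⟨hb, -, ⟨m', hg⟩, hrest⟩ := h'
    have hb' : L.1 < He2058.data.n := by simpa using hb
    set b : Pt := ⟨L.1, hb'⟩
    have horb := grow_forward He2058.valid (fun c => c ∈ MulAction.orbit R b) (ws := L.2.1) (fun k hk c hc => by
        have hw : wperm He2058.valid (L.2.1.getD k []) ∈ R := by
          rw [List.getD_eq_getElem _ _ hk]
          exact hR L List.mem_cons_self _ (List.getElem_mem hk)
        obtain ⟨g, rfl⟩ := hc
        exact ⟨⟨_, hw⟩ * g, rfl⟩)
      (fun i hi => by
        rw [testBit_shift_one, decide_eq_true_eq] at hi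
        subst hi
        exact ⟨hb', MulAction.mem_orbit_self _⟩) hg
    obtain ⟨S, hS, hcard⟩ := grow_card (S := {L.1})
      (fun i => by rw [Finset.mem_singleton, testBit_shift_one, decide_eq_true_eq, eq_comm]) hg
    have h1 : L.2.2.length + 1 ≤ Nat.card (MulAction.orbit R b) := by
      rw [Finset.card_singleton, Nat.add_comm] at hcard
      rw [← hcard]
      let f : S → MulAction.orbit R b := fun i => ⟨⟨i.1, (horb _ ((hS _).1 i.2)).1⟩, (horb _ ((hS _).1 i.2)).2⟩
      rw [← Nat.card_eq_finsetCard]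
      exact Nat.card_le_card_of_injective f fun i j hij =>
        Subtype.ext (Fin.val_eq_of_eq (congrArg Subtype.val hij))
    set R' := (MulAction.stabilizer R b).map R.subtype
    have hfix : ∀ M ∈ Ls, ∀ w ∈ M.2.1, He2058.data.trace L.1 w = L.1 := by
      intro M hM w hw
      have key : ∀ (Ks : List Level) (pv : List ℕ), chainOK He2058.data pv Ks = true →
          ∀ K ∈ Ks, ∀ v ∈ K.2.1, ∀ p ∈ pv, He2058.data.trace p v = p := by
        intro Ks
        induction Ks with
        | nil => intro _ _ K hK; exact absurd hK List.not_mem_nil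
        | cons K₀ Ks ih =>
          intro pv hpv K hK v hv p hp
          have hpv' : (Nat.blt K₀.1 He2058.data.n && (K₀.2.1.all (fun u => pv.all fun q => Nat.beq (He2058.data.trace q u) q) &&
            ((grow He2058.data K₀.2.1 K₀.2.2 (Nat.shiftLeft 1 K₀.1)).isSome && chainOK He2058.data (K₀.1 :: pv) Ks))) = true := hpv
          simp only [Bool.and_eq_true, List.all_eq_true, Nat.beq_eq] at hpv'
          rcases List.mem_cons.1 hK with rfl | hK'
          · exact hpv'.2.1 v hv p hp
          · exact ih _ hpv'.2.2.2 K hK' v hv p (List.mem_cons_of_mem _ hp)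
      exact key Ls (L.1 :: prev) hrest M hM w hw L.1 List.mem_cons_self
    have hR' : ∀ M ∈ Ls, ∀ w ∈ M.2.1, wperm He2058.valid w ∈ R' := fun M hM w hw =>
      ⟨⟨_, hR M (List.mem_cons_of_mem _ hM) w hw⟩,
        Fin.ext (by rw [show ((⟨wperm He2058.valid w, _⟩ : R) • b) = wperm He2058.valid w b from rfl, wperm_apply]; exact hfix M hM w hw),
        rfl⟩
    have h2 := chain_card_words R' hR' hrest
    have h3 : Nat.card {g : R // ∀ x ∈ (L :: Ls).map Prod.fst, ∀ c : Pt, (c : ℕ) = x → (g : Equiv.Perm Pt) c = c} ≤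
        Nat.card {g : R' // ∀ x ∈ Ls.map Prod.fst, ∀ c : Pt, (c : ℕ) = x → (g : Equiv.Perm Pt) c = c} := by
      refine Nat.card_le_card_of_injective (fun g => ⟨⟨g.1.1, g.1, ?_, rfl⟩, fun x hx c hc => g.2 x (List.mem_cons_of_mem _ hx) c hc⟩) ?_
      · exact g.2 L.1 List.mem_cons_self b rfl
      · intro g g' e
        exact Subtype.ext (Subtype.ext (congrArg (fun z => (z.1 : Equiv.Perm Pt)) e))
    have h4 : Nat.card R' = Nat.card (MulAction.stabilizer R b) :=
      Subgroup.card_map_of_injective Subtype.val_injective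
    rw [List.map_cons, List.prod_cons, Nat.card_congr (MulAction.orbitProdStabilizerEquivGroup R b).symm, Nat.card_prod, mul_assoc]
    exact Nat.mul_le_mul h1 ((Nat.mul_le_mul_left _ h3).trans (h4 ▸ h2))

theorem eq_one_of_flags {h : Spor.He} (hs : h ∈ stabO) (hfl : ∀ j, act h (flag j) = flag j) : h = 1 := by
  set R : Subgroup (Equiv.Perm Pt) := stabO.map act
  have hR : ∀ L ∈ stabLevels, ∀ w ∈ L.2.1, wperm He2058.valid w ∈ R := by
    intro L hL w hw
    refine ⟨(w.reverse.map el).prod, ?_, (wperm_eq w).symm⟩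
    show act _ o = o
    rw [← wperm_eq]
    apply Fin.ext
    rw [wperm_apply]
    have hall : stabLevels.all (fun L => L.2.1.all fun w => Nat.beq (He2058.data.trace 0 w) 0) = true := by decide +kernel
    exact Nat.eq_of_beq_eq_true (List.all_eq_true.1 (List.all_eq_true.1 hall L hL) w hw)
  have hc := chain_card_words R hR (prev := []) (by decide +kernel)
  have hR2 : Nat.card R = 1958400 := (Subgroup.card_map_of_injective act_injective).trans card_stabO
  rw [show (stabLevels.map fun L => L.2.2.length + 1).prod = 1958400 by decide +kernel, hR2] at hc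
  have hsub : Nat.card {g : R // ∀ b ∈ stabLevels.map Prod.fst, ∀ c : Pt, (c : ℕ) = b → (g : Equiv.Perm Pt) c = c} ≤ 1 := by
    omega
  rw [Finite.card_le_one_iff_subsingleton] at hsub
  have e := @Subsingleton.elim _ hsub ⟨⟨act h, Subgroup.mem_map_of_mem act hs⟩, ?_⟩ ⟨1, fun b _ c _ => rfl⟩
  · apply act_injective
    rw [map_one]
    exact congrArg (fun z => (z.1 : Equiv.Perm Pt)) e
  · intro b hb c hc
    obtain ⟨j, hj, hjb⟩ := List.any_eq_true.1 (List.all_eq_true.1 base_in_orbit b hb)
    rw [List.mem_range] at hj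
    have : c = flag ⟨j, hj⟩ := by
      refine Fin.ext ?_
      show (c : ℕ) = fld orbitData j % He2058.data.n
      rw [hc, Nat.eq_of_beq_eq_true hjb, Nat.mod_eq_of_lt (hc ▸ c.2)]
    rw [this]
    exact hfl _

theorem rel_one_left {M : Matrix.symplecticGroup (Fin 2) FieldFour} (h : Rel 1 M) : M = 1 := by
  obtain ⟨π, σ, hπ, hσ⟩ := h
  have hid : ∀ p, π p = p := by
    intro p
    obtain ⟨j, rfl⟩ := pnt_surj p
    obtain ⟨j', e1, e2, -⟩ := hσ j
    have hinj : ∀ a b : Fin 425, flag a = flag b → a = b := by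
      have hk : forallFrom (fun a => forallFrom (fun b => Nat.ble a b && Nat.ble b a || !Nat.beq (fld orbitData a) (fld orbitData b)) 0 425) 0 425 = true := by
        decide +kernel
      have hlt : forallFrom (fun a => Nat.blt (fld orbitData a) He2058.data.n) 0 425 = true := by decide +kernel
      intro a b hab
      have hv : fld orbitData a.1 % He2058.data.n = fld orbitData b.1 % He2058.data.n := congrArg Fin.val hab
      have ha := forallFrom_elim hlt (i := a.1) (Nat.zero_le _) (by omega)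
      have hb := forallFrom_elim hlt (i := b.1) (Nat.zero_le _) (by omega)
      rw [Nat.mod_eq_of_lt (by simpa using ha), Nat.mod_eq_of_lt (by simpa using hb)] at hv
      have h1 := forallFrom_elim (forallFrom_elim hk (i := a.1) (Nat.zero_le _) (by omega)) (i := b.1) (Nat.zero_le _) (by omega)
      rw [hv, Nat.beq_refl] at h1
      simp only [Bool.not_true, Bool.or_false, Bool.and_eq_true, Nat.ble_eq] at h1
      exact Fin.ext (le_antisymm h1.1 h1.2)
    rw [map_one, Equiv.Perm.one_apply] at e1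
    obtain rfl := hinj _ _ e1
    exact e2.symm
  have hev : ∀ p, ∃ c : FieldFour, c ≠ 0 ∧ (M : Matrix (Fin 2 ⊕ Fin 2) (Fin 2 ⊕ Fin 2) FieldFour).mulVec (vec p) = c • vec p := fun p => by
    obtain ⟨c, hc, hv⟩ := hπ p
    exact ⟨c, hc, by rwa [hid] at hv⟩
  -- the matrix is scalar
  have hpt : ∀ i k : Fin 2 ⊕ Fin 2, ∃ p : Fin 85, vec p = if i = k then Pi.single i 1 else Pi.single i 1 + Pi.single k 1 := by
    decide +kernel
  choose p hp using hpt
  have hcol : ∀ i, ∃ c : FieldFour, ∀ r, (M : Matrix (Fin 2 ⊕ Fin 2) (Fin 2 ⊕ Fin 2) FieldFour) r i = if r = i then c else 0 := by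
    intro i
    obtain ⟨c, -, hv⟩ := hev (p i i)
    rw [hp i i, if_pos rfl, Matrix.mulVec_single_one] at hv
    refine ⟨c, fun r => ?_⟩
    have hr := congrFun hv r
    simp only [Matrix.col_apply, Pi.smul_apply, Pi.single_apply, smul_eq_mul, mul_ite, mul_one, mul_zero] at hr
    exact hr
  choose c hc using hcol
  have hceq : ∀ i k, c i = c k := by
    intro i k
    by_cases hik : i = k
    · rw [hik]
    obtain ⟨d, -, hv⟩ := hev (p i k)
    rw [hp i k, if_neg hik, Matrix.mulVec_add, Matrix.mulVec_single_one, Matrix.mulVec_single_one] at hv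
    have e1 := congrFun hv i
    have e2 := congrFun hv k
    simp [hc, hik, Ne.symm hik] at e1 e2
    rw [e1, e2]
  have hM : (M : Matrix (Fin 2 ⊕ Fin 2) (Fin 2 ⊕ Fin 2) FieldFour) = c (Sum.inl 0) • 1 := by
    ext r i
    rw [hc i r, hceq i (Sum.inl 0)]
    simp [Matrix.one_apply]
  have hmem := SymplecticGroup.mem_iff.1 M.2
  rw [hM] at hmem
  have hsq : ∀ z : FieldFour, (z • (1 : Matrix (Fin 2 ⊕ Fin 2) (Fin 2 ⊕ Fin 2) FieldFour)) * Matrix.J (Fin 2) FieldFour *
      Matrix.transpose (z • 1) = Matrix.J (Fin 2) FieldFour → z = 1 := by decide +kernel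
  exact Subtype.ext (by rw [hM, hsq _ hmem, one_smul]; rfl)

theorem rel_one_right {h : Spor.He} (hs : h ∈ stabO) (hh : Rel h 1) : h = 1 := by
  obtain ⟨π, σ, hπ, hσ⟩ := hh
  have hπ1 : ∀ p, π p = p := fun p => by
    obtain ⟨c, hc, hv⟩ := hπ p
    rw [OneMemClass.coe_one, Matrix.one_mulVec] at hv
    exact (vec_inj _ _ c hc hv).symm
  have hσ1 : ∀ l, σ l = l := by
    intro l
    obtain ⟨⟨j1, hl1, hp1⟩, ⟨j2, hl2, hp2⟩⟩ := line_points l
    obtain ⟨k1, -, a1, b1⟩ := hσ j1
    obtain ⟨k2, -, a2, b2⟩ := hσ j2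
    rw [hπ1, hp1] at a1
    rw [hπ1, hp2] at a2
    rw [hl1] at b1
    rw [hl2] at b2
    have m1 := mask_flag k1
    have m2 := mask_flag k2
    rw [a1, b1] at m1
    rw [a2, b2] at m2
    exact (lines_check l (σ l) m1 m2).symm
  refine eq_one_of_flags hs fun j => ?_
  obtain ⟨j', e1, e2, e3⟩ := hσ j
  rw [hπ1] at e2
  rw [hσ1] at e3
  rw [e1, flag_ext e2 e3]

end CfsgLib.Recog.SporHe.Flags
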