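import Cfsg.Agent.Lib.Recog.SporHe.CentChecks
import Cfsg.Agent.Lib.Recog.SporHe.Flags

set_option autoImplicit false
set_option maxRecDepth 20000

/-!
An involution centraliser of the Held group has order at most 21504: it moves the origin among 42 fixed
points, and the fixed-point set has at least 3825 images under the point stabiliser (owner: helper22).
-/

namespace CfsgLib.Recog.SporHe.Centralizer

open Cfsg CfsgLib.Recog.SporBound CfsgLib.Recog.SporHe.Mult
open CfsgLib.ThreeTrans.CosetIndex (He2058.data He2058.valid forallFrom forallFrom_elim)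

/-- The centraliser of the fourth letter. -/
noncomputable abbrev cent : Subgroup Spor.He := Subgroup.centralizer ({el 3} : Set Spor.He)

theorem testBit_mask_aux (L : List ℕ) (m i : ℕ) :
    (L.foldl (fun m p => Nat.lor m (Nat.shiftLeft 1 p)) m).testBit i = (m.testBit i || decide (i ∈ L)) := by
  induction L generalizing m with
  | nil => simp
  | cons p L ih =>
    rw [List.foldl_cons, ih, testBit_lor_shift, Bool.or_assoc]
    congr 1
    by_cases h : i = p
    · subst h; simp
    · have h' : ¬p = i := Ne.symm h
      simp [h, h']

theorem testBit_mask (L : List ℕ) (i : ℕ) : (mask L).testBit i = decide (i ∈ L) := by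
  rw [mask, testBit_mask_aux, Nat.zero_testBit, Bool.false_or]

/-- The set of a node. -/
noncomputable def setOf (i : ℕ) : Set (Fin He2058.data.n) := {c | (mask (pts i)).testBit c.val = true}

theorem small_root : ∀ p ∈ pts 0, p < He2058.data.n := fun p hp => by
  have := List.all_eq_true.1 root_small p hp
  simpa [Flags.data_n] using this

theorem act_three (c : Fin He2058.data.n) : ((act (el 3) c : Fin He2058.data.n) : ℕ) = He2058.data.trace c [3] := by
  rw [act_word [3] c]
  simp [el_inv]

theorem mem_root (c : Fin He2058.data.n) : c ∈ setOf 0 ↔ act (el 3) c = c := by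
  have h : ((mask (pts 0)).testBit c.val == Nat.beq (He2058.data.trace c.val [3]) c.val) = true :=
    forallFrom_elim root_ok (i := c.val) (Nat.zero_le _)
      (by have := c.2; simpa [Flags.data_n] using this)
  rw [setOf, Set.mem_setOf_eq, beq_iff_eq.1 h, Nat.beq_eq, ← act_three]
  exact Fin.val_inj

theorem node_ok {i : ℕ} (h0 : 0 < i) (hi : i < 3825) : nodeOK i = true := by
  rcases Nat.lt_or_ge i 957 with h | h
  · exact forallFrom_elim nodes0 h0 h
  rcases Nat.lt_or_ge i 1913 with h' | h'
  · exact forallFrom_elim nodes1 h h'
  rcases Nat.lt_or_ge i 2869 with h'' | h''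
  · exact forallFrom_elim nodes2 h' h''
  · exact forallFrom_elim nodes3 h'' hi

theorem reach : ∀ i, i < 3825 → (∀ p ∈ pts i, p < He2058.data.n) ∧
    ∃ h ∈ Flags.stabO, act h '' setOf 0 = setOf i := by
  intro i
  induction i using Nat.strong_induction_on with
  | _ i ih =>
    intro hi
    rcases Nat.eq_zero_or_pos i with rfl | h0
    · exact ⟨small_root, 1, one_mem _, by simp⟩
    have hn := node_ok h0 hi
    simp only [nodeOK, Bool.and_eq_true, Nat.blt_eq, Nat.beq_eq] at hn
    obtain ⟨hp, hk, hm⟩ := hn
    obtain ⟨hsmall, g, hg, hgs⟩ := ih _ hp (by omega)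
    set w := stabWords.getD (par i % 8) []
    have key : ∀ p, p ∈ pts i ↔ p ∈ (pts (par i / 8)).map (fun q => He2058.data.trace q w) := fun p => by
      have := congrArg (Nat.testBit · p) hm
      simpa [testBit_mask] using this
    have hlen : stabWords.length = 7 := by decide
    have hwmem : w ∈ stabWords := by
      show stabWords.getD (par i % 8) [] ∈ stabWords
      rw [List.getD_eq_getElem _ _ (by omega)]
      exact List.getElem_mem _
    have hfix : (w.reverse.map el).prod ∈ Flags.stabO := by
      show act _ o = o
      rw [← wperm_eq]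
      apply Fin.ext
      rw [wperm_apply]
      exact Nat.eq_of_beq_eq_true (List.all_eq_true.1 stabWords_fix w hwmem)
    have himg : ∀ c : Fin He2058.data.n,
        ((act (w.reverse.map el).prod c : Fin He2058.data.n) : ℕ) = He2058.data.trace c w := fun c => by
      rw [← wperm_eq, wperm_apply]
    refine ⟨fun p hp' => ?_, (w.reverse.map el).prod * g, mul_mem hfix hg, ?_⟩
    · obtain ⟨q, hq, rfl⟩ := List.mem_map.1 ((key p).1 hp')
      rw [← himg ⟨q, hsmall q hq⟩]
      exact Fin.is_lt _
    · rw [map_mul, Equiv.Perm.coe_mul, Set.image_comp, hgs]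
      ext c
      simp only [setOf, Set.mem_setOf_eq, Set.mem_image, testBit_mask, decide_eq_true_eq]
      constructor
      · rintro ⟨d, hd, rfl⟩
        exact (key _).2 (List.mem_map.2 ⟨d.val, hd, (himg d).symm⟩)
      · intro hc
        obtain ⟨q, hq, e⟩ := List.mem_map.1 ((key _).1 hc)
        exact ⟨⟨q, hsmall q hq⟩, hq, Fin.ext (by rw [himg]; exact e)⟩

theorem setOf_injective {i j : ℕ} (hi : i < 3825) (hj : j < 3825) (h : setOf i = setOf j) :
    mask (pts i) = mask (pts j) := by
  refine Nat.eq_of_testBit_eq fun p => ?_
  by_cases hp : p < He2058.data.n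
  · have := Set.ext_iff.1 h ⟨p, hp⟩
    simp only [setOf, Set.mem_setOf_eq] at this
    exact Bool.eq_iff_iff.2 this
  · rw [testBit_mask, testBit_mask, decide_eq_false (fun hm => hp ((reach i hi).1 p hm)),
      decide_eq_false (fun hm => hp ((reach j hj).1 p hm))]

theorem card_le : Nat.card cent ≤ 21504 := by
  classical
  have hcomm : ∀ g ∈ cent, el 3 * g = g * el 3 := fun g hg => (Subgroup.mem_centralizer_singleton_iff.1 hg).symm
  -- the part fixing the origin
  set K : Subgroup Spor.He := cent ⊓ Flags.stabO
  have hord : ∀ i : Fin 3825, ord i.val < 3825 := by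
    intro i
    rcases Nat.lt_or_ge i.val 3824 with h | h
    · have := forallFrom_elim order_ok (i := i.val) (Nat.zero_le _) (by omega)
      simp only [ordOK, Bool.and_eq_true, Nat.blt_eq] at this
      exact this.1
    · have := forallFrom_elim order_ok (i := 3823) (Nat.zero_le _) (by omega)
      simp only [ordOK, Bool.and_eq_true, Nat.blt_eq] at this
      rw [show i.val = 3824 by have := i.2; omega]
      exact this.2.1
  have hinj : Function.Injective fun i : Fin 3825 => mask (pts (ord i.val)) := by
    refine StrictMono.injective (Fin.strictMono_iff_lt_succ.2 fun i => ?_)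
    have := forallFrom_elim order_ok (i := i.val) (Nat.zero_le _) (by omega)
    simp only [ordOK, Bool.and_eq_true, Nat.blt_eq] at this
    simpa using this.2.2
  choose h hh hset using fun i : Fin 3825 => (reach (ord i.val) (hord i)).2
  let f : Fin 3825 × K → Flags.stabO := fun p => ⟨h p.1 * p.2, mul_mem (hh p.1) p.2.2.2⟩
  have hpres : ∀ k ∈ cent, act k '' setOf 0 = setOf 0 := by
    intro k hk
    have he : act (el 3) * act k = act k * act (el 3) := by rw [← map_mul, hcomm k hk, map_mul]
    ext c
    simp only [Set.mem_image, mem_root]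
    constructor
    · rintro ⟨d, hd, rfl⟩
      rw [← Equiv.Perm.mul_apply, he, Equiv.Perm.mul_apply, hd]
    · intro hc
      refine ⟨(act k).symm c, ?_, Equiv.apply_symm_apply _ _⟩
      apply (act k).injective
      rw [← Equiv.Perm.mul_apply, ← he, Equiv.Perm.mul_apply, Equiv.apply_symm_apply, hc]
  have hf : Function.Injective f := by
    rintro ⟨i, k⟩ ⟨j, l⟩ e
    have e' : h i * (k : Spor.He) = h j * (l : Spor.He) := congrArg Subtype.val e
    have comp : ∀ x y : Spor.He, act (x * y) '' setOf 0 = act x '' (act y '' setOf 0) := fun x y => by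
      rw [map_mul, Equiv.Perm.coe_mul, Set.image_comp]
    have hs : setOf (ord i.val) = setOf (ord j.val) :=
      calc setOf (ord i.val) = act (h i) '' (act (k : Spor.He) '' setOf 0) := by rw [hpres k k.2.1, hset i]
        _ = act (h i * (k : Spor.He)) '' setOf 0 := (comp _ _).symm
        _ = act (h j * (l : Spor.He)) '' setOf 0 := by rw [e']
        _ = act (h j) '' (act (l : Spor.He) '' setOf 0) := comp _ _
        _ = setOf (ord j.val) := by rw [hpres l l.2.1, hset j]
    have hij : i = j := hinj (setOf_injective (hord i) (hord j) hs)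
    subst hij
    exact Prod.ext rfl (Subtype.ext (mul_left_cancel e'))
  have hK : Nat.card K ≤ 512 := by
    have := Nat.card_le_card_of_injective f hf
    rw [Nat.card_prod, Nat.card_fin, Flags.card_stabO] at this
    omega
  -- orbit of the origin
  letI : MulAction cent (Fin He2058.data.n) := MulAction.compHom _ (act.comp cent.subtype)
  have ho : act (el 3) o = o := by
    apply Fin.ext
    rw [act_three]
    show He2058.data.trace 0 [3] = 0
    decide +kernel
  have horb : MulAction.orbit cent o ⊆ setOf 0 := by
    rintro _ ⟨g, rfl⟩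
    rw [← hpres g g.2]
    exact ⟨o, (mem_root o).2 ho, rfl⟩
  have h42 : Nat.card (MulAction.orbit cent o) ≤ 42 := by
    refine le_trans (Nat.card_mono (Set.toFinite _) horb) ?_
    let g : setOf 0 → {p // p ∈ (pts 0).toFinset} := fun c =>
      ⟨c.1.val, List.mem_toFinset.2 (by simpa [setOf, testBit_mask] using c.2)⟩
    refine le_trans (Nat.card_le_card_of_injective g fun a b e => Subtype.ext (Fin.ext (congrArg Subtype.val e))) ?_
    rw [Nat.card_eq_finsetCard]
    exact le_trans (List.toFinset_card_le _) (by simp [pts])
  have hstab : Nat.card (MulAction.stabilizer cent o) ≤ 512 := by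
    refine le_trans (Nat.card_le_card_of_injective
      (fun s : MulAction.stabilizer cent o => (⟨(s.1 : Spor.He), s.1.2, s.2⟩ : K)) ?_) hK
    intro a b e
    exact Subtype.ext (Subtype.ext (congrArg (fun x : K => (x : Spor.He)) e))
  rw [Nat.card_congr (MulAction.orbitProdStabilizerEquivGroup cent o).symm, Nat.card_prod]
  exact le_trans (Nat.mul_le_mul h42 hstab) (by norm_num)

end CfsgLib.Recog.SporHe.Centralizer
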