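import Cfsg.Agent.Lib.Recog.SporHe.MultBasic
import Cfsg.Agent.Lib.Recog.SporHe.CentData

set_option autoImplicit false
set_option maxRecDepth 20000

/-!
Six elements generate at least 21504 elements of the Held group (owner: helper22).
-/

namespace CfsgLib.Recog.SporHe.Centralizer

open Cfsg CfsgLib.Recog.SporBound CfsgLib.Recog.SporHe.Mult
open CfsgLib.ThreeTrans.CosetIndex (He2058.data He2058.valid)

/-- The word of a letter. -/
def genWord (x : ℕ) : List ℕ := genWords.getD x []

/-- The chain in the seven letters. -/
noncomputable def levels : List SporBound.Level :=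
  chainData.map fun L => (L.1, L.2.1.map (fun w => w.flatMap fun x => (genWord x).reverse), L.2.2)

theorem chain_ok : chainOK He2058.data [] levels = true := by decide +kernel

theorem total : (levels.map fun L => L.2.2.length + 1).prod = 21504 := by decide +kernel

theorem words_ok : (chainData.all fun L => L.2.1.all fun w => w.all fun x => Nat.blt x 6) = true := by
  decide +kernel

/-- A chain bounds a subgroup from below when its words lie in it. -/
theorem chain_le_of (H : Subgroup Spor.He) : ∀ {Ls : List SporBound.Level} {prev : List ℕ}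
    (R : Subgroup (Equiv.Perm (Fin He2058.data.n))),
    (∀ w : List ℕ, val w.reverse ∈ H → (∀ p ∈ prev, He2058.data.trace p w = p) → wperm He2058.valid w ∈ R) →
    chainOK He2058.data prev Ls = true → (∀ L ∈ Ls, ∀ w ∈ L.2.1, val w.reverse ∈ H) →
    (Ls.map fun L => L.2.2.length + 1).prod ≤ Nat.card R
  | [], prev, R, _, _, _ => by simpa using Nat.one_le_iff_ne_zero.2 Nat.card_pos.ne'
  | L :: Ls, prev, R, hR, h, hmem => by
    have h' : (Nat.blt L.1 He2058.data.n && (L.2.1.all (fun w => prev.all fun p => Nat.beq (He2058.data.trace p w) p) &&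
        ((grow He2058.data L.2.1 L.2.2 (Nat.shiftLeft 1 L.1)).isSome && chainOK He2058.data (L.1 :: prev) Ls))) = true := h
    simp only [Bool.and_eq_true, List.all_eq_true, Nat.beq_eq, Option.isSome_iff_exists] at h'
    obtain ⟨hb, hfix, ⟨m', hg⟩, hrest⟩ := h'
    have hb' : L.1 < He2058.data.n := by simpa using hb
    set b : Fin He2058.data.n := ⟨L.1, hb'⟩
    have horb := grow_forward He2058.valid (fun c => c ∈ MulAction.orbit R b) (ws := L.2.1) (fun k hk c hc => by
        have hw : wperm He2058.valid (L.2.1.getD k []) ∈ R := by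
          rw [List.getD_eq_getElem _ _ hk]
          exact hR _ (hmem L List.mem_cons_self _ (List.getElem_mem hk)) fun p hp => hfix _ (List.getElem_mem hk) p hp
        obtain ⟨g, rfl⟩ := hc
        exact ⟨⟨_, hw⟩ * g, rfl⟩)
      (fun i hi => by
        rw [testBit_shift_one, decide_eq_true_eq] at hi
        subst hi
        exact ⟨hb', MulAction.mem_orbit_self _⟩) hg
    obtain ⟨S, hS, hcard⟩ := grow_card (S := {L.1})
      (fun i => by rw [Finset.mem_singleton, testBit_shift_one, decide_eq_true_eq, eq_comm]) hg
    have h1 : L.2.2.length + 1 ≤ Nat.card (MulAction.orbit R b) := by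
      rw [Finset.card_singleton, Nat.add_comm] at hcard
      rw [← hcard]
      let f : S → MulAction.orbit R b := fun i => ⟨⟨i.1, (horb _ ((hS _).1 i.2)).1⟩, (horb _ ((hS _).1 i.2)).2⟩
      rw [← Nat.card_eq_finsetCard]
      exact Nat.card_le_card_of_injective f fun i j hij =>
        Subtype.ext (Fin.val_eq_of_eq (congrArg Subtype.val hij))
    have h2 := chain_le_of H ((MulAction.stabilizer R b).map R.subtype) (prev := L.1 :: prev) (Ls := Ls)
      (fun w hw hp => ⟨⟨_, hR w hw fun p hp' => hp p (List.mem_cons_of_mem _ hp')⟩,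
        Fin.ext (by
          rw [show ((⟨wperm He2058.valid w, _⟩ : R) • b) = wperm He2058.valid w b from rfl, wperm_apply]
          exact hp _ List.mem_cons_self),
        rfl⟩) hrest (fun L' hL' => hmem L' (List.mem_cons_of_mem _ hL'))
    rw [Subgroup.card_map_of_injective Subtype.val_injective] at h2
    rw [List.map_cons, List.prod_cons, Nat.card_congr (MulAction.orbitProdStabilizerEquivGroup R b).symm, Nat.card_prod]
    exact Nat.mul_le_mul h1 h2

theorem val_flatMap_mem {H : Subgroup Spor.He} (hH : ∀ x < 6, val (genWord x) ∈ H) :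
    ∀ w : List ℕ, (∀ x ∈ w, x < 6) → val (w.flatMap fun x => (genWord x).reverse).reverse ∈ H
  | [], _ => by simp [val, one_mem]
  | x :: w, h => by
    rw [List.flatMap_cons, List.reverse_append, List.reverse_reverse, val_append]
    exact mul_mem (val_flatMap_mem hH w fun y hy => h y (List.mem_cons_of_mem _ hy)) (hH x (h x List.mem_cons_self))

theorem le_card {H : Subgroup Spor.He} (hH : ∀ x < 6, val (genWord x) ∈ H) : 21504 ≤ Nat.card H := by
  rw [Nat.card_congr (Subgroup.equivMapOfInjective H act act_injective).toEquiv, ← total]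
  refine chain_le_of H (H.map act) (fun w hw _ => ?_) chain_ok ?_
  · rw [wperm_eq]
    exact Subgroup.mem_map_of_mem act hw
  · intro L hL w hw
    obtain ⟨L', hL', rfl⟩ := List.mem_map.1 hL
    obtain ⟨w', hw', rfl⟩ := List.mem_map.1 hw
    refine val_flatMap_mem hH w' fun x hx => ?_
    simpa using List.all_eq_true.1 (List.all_eq_true.1 (List.all_eq_true.1 words_ok L' hL') w' hw') x hx

end CfsgLib.Recog.SporHe.Centralizer
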