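import Mathlib

set_option autoImplicit false
set_option maxRecDepth 20000
set_option synthInstance.maxSize 2000
set_option synthInstance.maxHeartbeats 400000

/-!
The centraliser of a transvection in SL(5, 2): it has order 21504 and is generated by six transvections
(owner: helper22).
-/

namespace CfsgLib.Recog.SporHe.Centralizer

open scoped Matrix

/-- Root positions of the six transvections. -/
def roots : List (ℕ × ℕ) := [(2, 3), (3, 2), (3, 4), (4, 3), (0, 2), (2, 1)]

/-- Row of a letter. -/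
def rowOf (x : ℕ) : Fin 5 := Fin.ofNat 5 (roots.getD x (2, 3)).1

/-- Column of a letter. -/
def colOf (x : ℕ) : Fin 5 := Fin.ofNat 5 (roots.getD x (2, 3)).2

theorem row_ne_col (x : ℕ) : rowOf x ≠ colOf x := by
  match x with
  | 0 | 1 | 2 | 3 | 4 | 5 => decide
  | _ + 6 => simp [rowOf, colOf, roots, Fin.ext_iff]

/-- The transvection of a letter. -/
noncomputable def mat (x : ℕ) : Matrix.SpecialLinearGroup (Fin 5) (ZMod 2) :=
  ⟨Matrix.transvection (rowOf x) (colOf x) 1, Matrix.det_transvection_of_ne _ _ (row_ne_col x) _⟩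

/-- Bit vectors as vectors. -/
def dec (v : ℕ) : Fin 5 → ZMod 2 := fun i => if v.testBit i then 1 else 0

/-- The action of a letter on a bit vector. -/
def step (x v : ℕ) : ℕ := if v.testBit (colOf x).val then v ^^^ 2 ^ (rowOf x).val else v

theorem dec_step (x v : ℕ) :
    Matrix.transvection (rowOf x) (colOf x) (1 : ZMod 2) *ᵥ dec v = dec (step x v) := by
  rw [Matrix.transvection, Matrix.add_mulVec, Matrix.one_mulVec, Matrix.single_mulVec]
  unfold step
  by_cases hc : v.testBit (colOf x).val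
  · rw [if_pos hc]
    funext i
    by_cases hi : i = rowOf x
    · subst hi
      cases hv : v.testBit (rowOf x).val <;>
        simp [dec, hc, hv, Nat.testBit_xor, Nat.testBit_two_pow] <;> decide
    · have hn : ¬(rowOf x).val = i.val := fun h => hi (Fin.ext h.symm)
      simp [dec, hc, hi, hn, Nat.testBit_xor, Nat.testBit_two_pow, Function.update_of_ne hi]
  · rw [if_neg hc]
    funext i
    simp [dec, hc]

/-- The product of a word. -/
noncomputable def mval (w : List ℕ) : Matrix.SpecialLinearGroup (Fin 5) (ZMod 2) := (w.map mat).prod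

theorem mval_mulVec : ∀ (w : List ℕ) (v : ℕ),
    (mval w : Matrix (Fin 5) (Fin 5) (ZMod 2)) *ᵥ dec v = dec (w.foldr step v)
  | [], v => by simp [mval]
  | x :: w, v => by
    rw [mval, List.map_cons, List.prod_cons, Matrix.SpecialLinearGroup.coe_mul, ← Matrix.mulVec_mulVec,
      ← mval, mval_mulVec w v]
    exact dec_step x _

/-- An entry of the product of a word. -/
theorem mval_apply (w : List ℕ) (i j : Fin 5) :
    (mval w : Matrix (Fin 5) (Fin 5) (ZMod 2)) i j = dec (w.foldr step (2 ^ j.val)) i := by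
  have h := congrFun (mval_mulVec w (2 ^ j.val)) i
  rw [show dec (2 ^ j.val) = Pi.single j 1 by
    funext k
    by_cases hk : k = j
    · subst hk; simp [dec, Nat.testBit_two_pow]
    · have hn : ¬j.val = k.val := fun h => hk (Fin.ext h.symm)
      simp [dec, Nat.testBit_two_pow, hk, hn]] at h
  rwa [Matrix.mulVec_single_one] at h

/-- Fast test that a word gives the identity. -/
def isOne (w : List ℕ) : Bool := (List.range 5).all fun j => Nat.beq (w.foldr step (2 ^ j)) (2 ^ j)

theorem mval_eq_one {w : List ℕ} (h : isOne w = true) : mval w = 1 := by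
  apply Subtype.ext
  ext i j
  rw [mval_apply, Nat.eq_of_beq_eq_true (List.all_eq_true.1 h j.val (List.mem_range.2 j.2))]
  rw [Matrix.SpecialLinearGroup.coe_one, Matrix.one_apply]
  simp [dec, Nat.testBit_two_pow, Fin.ext_iff, eq_comm]

theorem mval_mem (w : List ℕ) (hw : ∀ x ∈ w, x < 6) :
    mval w ∈ Subgroup.closure {g | ∃ x ∈ List.range 6, g = mat x} :=
  Subgroup.list_prod_mem _ fun g hg => by
    obtain ⟨x, hx, rfl⟩ := List.mem_map.1 hg
    exact Subgroup.subset_closure ⟨x, List.mem_range.2 (hw x hx), rfl⟩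

/-- Three words in one. -/
def threeWords (a b c : List ℕ) (v : Fin 3 → ZMod 2) : List ℕ :=
  (if v 0 = 1 then a else []) ++ (if v 1 = 1 then b else []) ++ (if v 2 = 1 then c else [])

/-- The word of a unipotent element. -/
def uWord (w : ZMod 2) (u v : Fin 3 → ZMod 2) : List ℕ :=
  threeWords [5] [1, 5, 1, 5] [3, 1, 5, 1, 5, 3, 1, 5, 1, 5] v ++ (if w = 1 then [4, 5, 4, 5] else []) ++
    threeWords [4] [4, 0, 4, 0] [4, 0, 4, 0, 2, 4, 0, 4, 0, 2] u

/-- The unipotent element. -/
def uMat (w : ZMod 2) (u v : Fin 3 → ZMod 2) : Matrix (Fin 5) (Fin 5) (ZMod 2) :=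
  !![1, w, u 0, u 1, u 2; 0, 1, 0, 0, 0; 0, v 0, 1, 0, 0; 0, v 1, 0, 1, 0; 0, v 2, 0, 0, 1]

theorem uWord_entries : ∀ (w : ZMod 2) (u v : Fin 3 → ZMod 2),
    (Matrix.of fun i j : Fin 5 => dec ((uWord w u v).foldr step (2 ^ j.val)) i) = uMat w u v := by decide +kernel

theorem mval_uWord (w : ZMod 2) (u v : Fin 3 → ZMod 2) :
    (mval (uWord w u v) : Matrix (Fin 5) (Fin 5) (ZMod 2)) = uMat w u v := by
  rw [← uWord_entries]
  ext i j
  exact mval_apply _ i j

theorem uWord_lt : ∀ (w : ZMod 2) (u v : Fin 3 → ZMod 2), ∀ x ∈ uWord w u v, x < 6 := by decide +kernel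

/-- A three-dimensional matrix as a block. -/
def block (A : Matrix (Fin 3) (Fin 3) (ZMod 2)) : Matrix (Fin 5) (Fin 5) (ZMod 2) :=
  !![1, 0, 0, 0, 0; 0, 1, 0, 0, 0; 0, 0, A 0 0, A 0 1, A 0 2; 0, 0, A 1 0, A 1 1, A 1 2;
    0, 0, A 2 0, A 2 1, A 2 2]

theorem block_mul (A B : Matrix (Fin 3) (Fin 3) (ZMod 2)) : block (A * B) = block A * block B := by
  ext i j
  fin_cases i <;> fin_cases j <;> simp [block, Matrix.mul_apply, Fin.sum_univ_succ, add_assoc]

theorem block_one : block 1 = 1 := by decide +kernel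

/-- The word of a block transvection. -/
def bWord : Fin 3 → Fin 3 → List ℕ
  | 0, 1 => [0]
  | 1, 0 => [1]
  | 1, 2 => [2]
  | 2, 1 => [3]
  | 0, 2 => [0, 2, 0, 2]
  | 2, 0 => [3, 1, 3, 1]
  | _, _ => []

theorem bWord_entries : ∀ (k l : Fin 3), k ≠ l →
    (Matrix.of fun i j : Fin 5 => dec ((bWord k l).foldr step (2 ^ j.val)) i) =
      block (Matrix.transvection k l 1) := by decide +kernel

theorem bWord_lt : ∀ k l : Fin 3, ∀ x ∈ bWord k l, x < 6 := by decide +kernel

/-- Blocks of invertible matrices are products of the six transvections. -/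
theorem block_mem (A : Matrix (Fin 3) (Fin 3) (ZMod 2)) (hA : A.det ≠ 0) :
    ∃ g ∈ Subgroup.closure {g | ∃ x ∈ List.range 6, g = mat x},
      (g : Matrix (Fin 5) (Fin 5) (ZMod 2)) = block A := by
  refine Matrix.diagonal_transvection_induction_of_det_ne_zero
    (fun A => ∃ g ∈ Subgroup.closure {g | ∃ x ∈ List.range 6, g = mat x},
      (g : Matrix (Fin 5) (Fin 5) (ZMod 2)) = block A) A hA ?_ ?_ ?_
  · intro D hD
    have h1 : ∀ i, D i = 1 := by
      intro i
      have h0 : D i ≠ 0 := fun h0 => hD (by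
        rw [Matrix.det_diagonal]
        exact Finset.prod_eq_zero (Finset.mem_univ i) h0)
      have h2 : ∀ z : ZMod 2, z ≠ 0 → z = 1 := by decide
      exact h2 _ h0
    refine ⟨1, one_mem _, ?_⟩
    rw [show Matrix.diagonal D = 1 by rw [funext h1, Matrix.diagonal_one], block_one]
    rfl
  · rintro ⟨k, l, hkl, c⟩
    rcases (show ∀ z : ZMod 2, z = 0 ∨ z = 1 by decide) c with rfl | rfl
    · refine ⟨1, one_mem _, ?_⟩
      rw [Matrix.TransvectionStruct.toMatrix, Matrix.transvection_zero, block_one]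
      rfl
    · refine ⟨mval (bWord k l), mval_mem _ (bWord_lt k l), ?_⟩
      ext i j
      rw [mval_apply]
      exact congrFun (congrFun (bWord_entries k l hkl) i) j
  · rintro A B - - ⟨g, hg, eg⟩ ⟨h, hh, eh⟩
    exact ⟨g * h, mul_mem hg hh, by rw [Matrix.SpecialLinearGroup.coe_mul, eg, eh, block_mul]⟩

theorem uMat_mul_block (w : ZMod 2) (u v : Fin 3 → ZMod 2) (A : Matrix (Fin 3) (Fin 3) (ZMod 2)) :
    uMat w u v * block A =
      !![1, w, Matrix.vecMul u A 0, Matrix.vecMul u A 1, Matrix.vecMul u A 2; 0, 1, 0, 0, 0;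
        0, v 0, A 0 0, A 0 1, A 0 2; 0, v 1, A 1 0, A 1 1, A 1 2; 0, v 2, A 2 0, A 2 1, A 2 2] := by
  ext i j
  fin_cases i <;> fin_cases j <;>
    simp [uMat, block, Matrix.mul_apply, Fin.sum_univ_succ, Matrix.vecMul, dotProduct, add_assoc]

section

variable (s : Matrix.SpecialLinearGroup (Fin 5) (ZMod 2))
  (hs : (s : Matrix (Fin 5) (Fin 5) (ZMod 2)) = Matrix.transvection 0 1 1)
include hs

theorem entries_of_mem {g : Matrix.SpecialLinearGroup (Fin 5) (ZMod 2)}
    (hg : g ∈ Subgroup.centralizer ({s} : Set (Matrix.SpecialLinearGroup (Fin 5) (ZMod 2)))) :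
    (∀ i : Fin 5, i ≠ 0 → (g : Matrix (Fin 5) (Fin 5) (ZMod 2)) i 0 = 0) ∧
      (∀ j : Fin 5, j ≠ 1 → (g : Matrix (Fin 5) (Fin 5) (ZMod 2)) 1 j = 0) ∧
      (g : Matrix (Fin 5) (Fin 5) (ZMod 2)) 0 0 = 1 ∧ (g : Matrix (Fin 5) (Fin 5) (ZMod 2)) 1 1 = 1 := by
  have h := congrArg (fun g : Matrix.SpecialLinearGroup (Fin 5) (ZMod 2) => (g : Matrix (Fin 5) (Fin 5) (ZMod 2)))
    (Subgroup.mem_centralizer_singleton_iff.1 hg)
  simp only [Matrix.SpecialLinearGroup.coe_mul, hs] at h
  set M := (g : Matrix (Fin 5) (Fin 5) (ZMod 2)) with hM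
  have h1 : ∀ i : Fin 5, i ≠ 0 → M i 0 = 0 := fun i hi => by
    have e := congrFun (congrFun h i) 1
    rw [Matrix.mul_transvection_apply_same, Matrix.transvection_mul_apply_of_ne _ _ _ _ hi] at e
    simpa using e
  have h2 : ∀ j : Fin 5, j ≠ 1 → M 1 j = 0 := fun j hj => by
    have e := congrFun (congrFun h 0) j
    rw [Matrix.mul_transvection_apply_of_ne _ _ _ _ hj, Matrix.transvection_mul_apply_same] at e
    simpa using e
  have h3 : M 0 0 = M 1 1 := by
    have e := congrFun (congrFun h 0) 1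
    rw [Matrix.mul_transvection_apply_same, Matrix.transvection_mul_apply_same] at e
    simpa using e
  have h4 : M 0 0 = 1 := by
    by_contra hne
    have h0 : M 0 0 = 0 := (show ∀ z : ZMod 2, z ≠ 1 → z = 0 by decide) _ hne
    refine one_ne_zero (α := ZMod 2) (g.2.symm.trans ?_)
    exact Matrix.det_eq_zero_of_column_eq_zero 0 fun i => if hi : i = 0 then hi ▸ h0 else h1 i hi
  exact ⟨h1, h2, h4, h3 ▸ h4⟩

theorem block_invertible {g : Matrix.SpecialLinearGroup (Fin 5) (ZMod 2)}
    (hg : g ∈ Subgroup.centralizer ({s} : Set (Matrix.SpecialLinearGroup (Fin 5) (ZMod 2)))) :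
    (Matrix.of fun i j : Fin 3 => (g : Matrix (Fin 5) (Fin 5) (ZMod 2)) i.succ.succ j.succ.succ).det ≠ 0 := by
  obtain ⟨a1, a2, -, -⟩ := entries_of_mem s hs hg
  obtain ⟨-, b2, -, -⟩ := entries_of_mem s hs (Subgroup.inv_mem _ hg)
  refine Matrix.det_ne_zero_of_right_inverse
    (B := Matrix.of fun i j : Fin 3 => ((g⁻¹ : Matrix.SpecialLinearGroup (Fin 5) (ZMod 2)) :
      Matrix (Fin 5) (Fin 5) (ZMod 2)) i.succ.succ j.succ.succ) ?_
  ext i j
  have e := congrFun (congrFun (congrArg (fun g : Matrix.SpecialLinearGroup (Fin 5) (ZMod 2) =>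
    (g : Matrix (Fin 5) (Fin 5) (ZMod 2))) (mul_inv_cancel g)) i.succ.succ) j.succ.succ
  rw [Matrix.SpecialLinearGroup.coe_mul, Matrix.mul_apply, Fin.sum_univ_succ, Fin.sum_univ_succ] at e
  rw [a1 _ (Fin.succ_ne_zero _), zero_mul, zero_add] at e
  have z : ((g⁻¹ : Matrix.SpecialLinearGroup (Fin 5) (ZMod 2)) : Matrix (Fin 5) (Fin 5) (ZMod 2))
      (Fin.succ (0 : Fin 4)) j.succ.succ = 0 :=
    b2 _ (fun h => by have := congrArg Fin.val h; rw [Fin.val_succ, Fin.val_succ] at this; change _ = 1 at this; omega)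
  rw [z, mul_zero, zero_add] at e
  rw [Matrix.mul_apply]
  refine e.trans ?_
  rw [Matrix.SpecialLinearGroup.coe_one, Matrix.one_apply, Matrix.one_apply]
  simp only [Fin.succ_inj]

theorem centralizer_le :
    Subgroup.centralizer ({s} : Set (Matrix.SpecialLinearGroup (Fin 5) (ZMod 2))) ≤
      Subgroup.closure {g | ∃ x ∈ List.range 6, g = mat x} := by
  intro g hg
  obtain ⟨a1, a2, a00, a11⟩ := entries_of_mem s hs hg
  have hdet := block_invertible s hs hg
  set M := (g : Matrix (Fin 5) (Fin 5) (ZMod 2)) with hM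
  set A : Matrix (Fin 3) (Fin 3) (ZMod 2) := Matrix.of fun i j => M i.succ.succ j.succ.succ
  set u : Fin 3 → ZMod 2 := Matrix.vecMul (fun j => M 0 j.succ.succ) A⁻¹
  obtain ⟨b, hb, eb⟩ := block_mem A hdet
  have hu : Matrix.vecMul u A = fun j => M 0 j.succ.succ := by
    rw [Matrix.vecMul_vecMul, Matrix.nonsing_inv_mul _ (isUnit_iff_ne_zero.2 hdet), Matrix.vecMul_one]
  have e : g = mval (uWord (M 0 1) u (fun i => M i.succ.succ 1)) * b := by
    apply Subtype.ext
    rw [Matrix.SpecialLinearGroup.coe_mul, eb, mval_uWord, uMat_mul_block, hu, ← hM]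
    ext i j
    fin_cases i <;> fin_cases j <;>
      simp [A, a00, a11, a1, a2]
  rw [e]
  exact mul_mem (mval_mem _ (uWord_lt _ _ _)) hb

theorem le_card_centralizer :
    21504 ≤ Nat.card ↥(Subgroup.centralizer ({s} : Set (Matrix.SpecialLinearGroup (Fin 5) (ZMod 2)))) := by
  classical
  have hgl : Nat.card (Matrix.GeneralLinearGroup (Fin 3) (ZMod 2)) = 168 := by
    rw [Matrix.card_GL_field, ZMod.card]
    decide
  have hcomm : ∀ x : ℕ, mat x * s = s * mat x ∨ 6 ≤ x := by
    intro x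
    rcases Nat.lt_or_ge x 6 with hx | hx
    · left
      apply Subtype.ext
      rw [Matrix.SpecialLinearGroup.coe_mul, Matrix.SpecialLinearGroup.coe_mul, hs]
      interval_cases x <;> decide +kernel
    · exact Or.inr hx
  have hgen : Subgroup.closure {g | ∃ x ∈ List.range 6, g = mat x} ≤
      Subgroup.centralizer ({s} : Set (Matrix.SpecialLinearGroup (Fin 5) (ZMod 2))) := by
    rw [Subgroup.closure_le]
    rintro _ ⟨x, hx, rfl⟩
    refine Subgroup.mem_centralizer_singleton_iff.2 ?_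
    rcases hcomm x with h | h
    · exact h
    · have := List.mem_range.1 hx
      omega
  choose bl hbl ebl using fun A : Matrix.GeneralLinearGroup (Fin 3) (ZMod 2) =>
    block_mem (A : Matrix (Fin 3) (Fin 3) (ZMod 2)) (isUnit_iff_ne_zero.1 ((Matrix.isUnit_iff_isUnit_det _).1 A.isUnit))
  let f : (ZMod 2 × (Fin 3 → ZMod 2) × (Fin 3 → ZMod 2)) × Matrix.GeneralLinearGroup (Fin 3) (ZMod 2) →
      ↥(Subgroup.centralizer ({s} : Set (Matrix.SpecialLinearGroup (Fin 5) (ZMod 2)))) := fun p =>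
    ⟨mval (uWord p.1.1 p.1.2.1 p.1.2.2) * bl p.2,
      hgen (mul_mem (mval_mem _ (uWord_lt _ _ _)) (hbl p.2))⟩
  have hf : Function.Injective f := by
    rintro ⟨⟨w, u, v⟩, A⟩ ⟨⟨w', u', v'⟩, B⟩ h
    have h' := congrArg (fun g => ((g.1 : Matrix.SpecialLinearGroup (Fin 5) (ZMod 2)) :
      Matrix (Fin 5) (Fin 5) (ZMod 2))) h
    simp only [f, Matrix.SpecialLinearGroup.coe_mul, ebl] at h'
    rw [mval_uWord, mval_uWord, uMat_mul_block, uMat_mul_block] at h'
    have hw : w = w' := by simpa using congrFun (congrFun h' 0) 1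
    have hv : v = v' := by
      funext k
      fin_cases k
      · simpa using congrFun (congrFun h' 2) 1
      · simpa using congrFun (congrFun h' 3) 1
      · simpa using congrFun (congrFun h' 4) 1
    have hA : (A : Matrix (Fin 3) (Fin 3) (ZMod 2)) = B := by
      ext i j
      have := congrFun (congrFun h' i.succ.succ) j.succ.succ
      fin_cases i <;> fin_cases j <;> simpa using this
    have hu : u = u' := by
      have hvm : Matrix.vecMul u (A : Matrix (Fin 3) (Fin 3) (ZMod 2)) =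
          Matrix.vecMul u' (B : Matrix (Fin 3) (Fin 3) (ZMod 2)) := by
        funext k
        have := congrFun (congrFun h' 0) k.succ.succ
        fin_cases k <;> simpa using this
      rw [← hA] at hvm
      exact Matrix.vecMul_injective_iff_isUnit.2 A.isUnit hvm
    rw [hw, hv, hu, Units.ext hA]
  refine le_trans ?_ (Nat.card_le_card_of_injective f hf)
  simp only [Nat.card_prod, hgl, Nat.card_zmod, Nat.card_fun, Nat.card_fin]
  norm_num

theorem closure_eq :
    Subgroup.closure {g | ∃ x ∈ List.range 6, g = mat x} =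
      Subgroup.centralizer ({s} : Set (Matrix.SpecialLinearGroup (Fin 5) (ZMod 2))) := by
  refine le_antisymm ?_ (centralizer_le s hs)
  rw [Subgroup.closure_le]
  rintro _ ⟨x, hx, rfl⟩
  refine Subgroup.mem_centralizer_singleton_iff.2 (Subtype.ext ?_)
  rw [Matrix.SpecialLinearGroup.coe_mul, Matrix.SpecialLinearGroup.coe_mul, hs]
  have := List.mem_range.1 hx
  interval_cases x <;> decide +kernel

end

end CfsgLib.Recog.SporHe.Centralizer
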