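import Cfsg.Agent.Lib.Recog.SporHe.BaseCheck
import Cfsg.Agent.Lib.Recog.SporHe.CentBound
import Cfsg.Agent.Lib.Recog.SporHe.CentChain
import Cfsg.Agent.Lib.Recog.SporHe.CentMatrix
import Cfsg.Agent.Lib.Recog.SporBound.HeTvK.Valid
import Cfsg.Agent.Lib.Recog.SporBound.HeTvTop.Valid

set_option autoImplicit false
set_option maxRecDepth 20000

/-!
An involution centraliser of the Held group is the centraliser of a transvection in SL(5, 2)
(owner: helper22).
-/

namespace CfsgLib.Recog.SporHe.Centralizer

open Cfsg CfsgLib.Recog.SporBound CfsgLib.Recog.SporHe.Mult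

/-- Corresponding elements. -/
noncomputable def pair (x : ℕ) : Spor.He × Matrix.SpecialLinearGroup (Fin 5) (ZMod 2) :=
  if x < 6 then (val (genWord x), mat x) else 1

/-- A relator in both groups. -/
noncomputable def relOK (w : List ℕ) : Bool :=
  (w.all fun x => Nat.blt x 6) && (Base.fast (w.flatMap genWord) [] && isOne w)

theorem rels_ok : (HeTvK.cert.rels ++ HeTvTop.cert.rels ++ (List.range 6).map fun x => [x, x]).all relOK = true := by
  decide +kernel

theorem val_flatMap : ∀ w : List ℕ, val (w.flatMap genWord) = (w.map fun x => val (genWord x)).prod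
  | [] => rfl
  | x :: w => by rw [List.flatMap_cons, val_append, List.map_cons, List.prod_cons, val_flatMap w]

theorem pair_rel {w : List ℕ} (h : relOK w = true) : (w.map pair).prod = 1 := by
  simp only [relOK, Bool.and_eq_true, List.all_eq_true, Nat.blt_eq] at h
  obtain ⟨hlt, h1, h2⟩ := h
  rw [List.map_congr_left (g := fun x => (val (genWord x), mat x)) fun x hx => by rw [pair, if_pos (hlt x hx)]]
  refine Prod.ext ?_ ?_
  · show MonoidHom.fst _ _ (List.prod _) = 1
    rw [map_list_prod, List.map_map]
    have h1' := Base.eq_of_fast h1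
    rw [val_nil, val_flatMap] at h1'
    exact h1'
  · show MonoidHom.snd _ _ (List.prod _) = 1
    rw [map_list_prod, List.map_map]
    exact mval_eq_one h2

theorem pair_inv (x : ℕ) : pair x * pair x = 1 := by
  rcases Nat.lt_or_ge x 6 with h | h
  · have := pair_rel (List.all_eq_true.1 rels_ok [x, x]
      (List.mem_append_right _ (List.mem_map.2 ⟨x, List.mem_range.2 h, rfl⟩)))
    simpa using this
  · rw [pair, if_neg (by omega), one_mul]

theorem exists_iso (s : Matrix.SpecialLinearGroup (Fin 5) (ZMod 2))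
    (hs : (s : Matrix (Fin 5) (Fin 5) (ZMod 2)) = Matrix.transvection 0 1 1) :
    ∃ e : ↥cent ≃* ↥(Subgroup.centralizer ({s} : Set (Matrix.SpecialLinearGroup (Fin 5) (ZMod 2)))),
      ∀ x < 6, ∀ hx : val (genWord x) ∈ cent, (e ⟨val (genWord x), hx⟩).1 = mat x := by
  classical
  haveI : Finite Spor.He := inferInstance
  set K₀ : Subgroup (Spor.He × Matrix.SpecialLinearGroup (Fin 5) (ZMod 2)) :=
    Subgroup.closure {g | ∃ x ∈ HeTvK.cert.kl, g = pair x}
  set P : Subgroup (Spor.He × Matrix.SpecialLinearGroup (Fin 5) (ZMod 2)) :=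
    Subgroup.closure {g | ∃ x ∈ HeTvTop.cert.kl, g = pair x}
  have hkl : HeTvTop.cert.kl = [0, 1, 2, 3, 4, 5] := by decide +kernel
  have hK : Finite K₀ ∧ Nat.card K₀ ≤ 168 := by
    have h := Cert.card_le pair_inv (by rw [pair, if_neg (by decide)]) HeTvK.ok
      (⊥ : Subgroup (Spor.He × Matrix.SpecialLinearGroup (Fin 5) (ZMod 2))) K₀
      (fun w hw => pair_rel (List.all_eq_true.1 rels_ok w (List.mem_append_left _ (List.mem_append_left _ hw))))
      (fun w hw => by
        rw [show HeTvK.cert.subs = [] by decide +kernel] at hw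
        exact absurd hw List.not_mem_nil) le_rfl
    rw [Subgroup.card_bot, mul_one, show HeTvK.cert.n = 168 by decide +kernel] at h
    exact h
  haveI := hK.1
  have hP : Finite P ∧ Nat.card P ≤ 21504 := by
    have h := Cert.card_le pair_inv (by rw [pair, if_neg (by decide)]) HeTvTop.ok K₀ P
      (fun w hw => pair_rel (List.all_eq_true.1 rels_ok w (List.mem_append_left _ (List.mem_append_right _ hw))))
      (fun w hw => by
        rw [show HeTvTop.cert.subs = [[0], [1], [2], [3]] by decide +kernel] at hw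
        refine Subgroup.list_prod_mem _ fun g hg => ?_
        obtain ⟨x, hx, rfl⟩ := List.mem_map.1 hg
        refine Subgroup.subset_closure ⟨x, ?_, rfl⟩
        rw [show HeTvK.cert.kl = [0, 1, 2, 3] by decide +kernel]
        simp only [List.mem_cons, List.not_mem_nil, or_false] at hw
        rcases hw with rfl | rfl | rfl | rfl <;> simp_all) le_rfl
    refine ⟨h.1, h.2.trans ?_⟩
    rw [show HeTvTop.cert.n = 128 by decide +kernel]
    exact le_trans (Nat.mul_le_mul_left _ hK.2) (by norm_num)
  haveI := hP.1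
  have hgen : ∀ x < 6, pair x ∈ P := fun x hx => Subgroup.subset_closure ⟨x, by
    rw [hkl]; simp only [List.mem_cons, List.not_mem_nil, or_false]; omega, rfl⟩
  -- projection to the Held group
  let φ := MonoidHom.fst Spor.He (Matrix.SpecialLinearGroup (Fin 5) (ZMod 2))
  let ψ := MonoidHom.snd Spor.He (Matrix.SpecialLinearGroup (Fin 5) (ZMod 2))
  have hlow : 21504 ≤ Nat.card (P.map φ) :=
    le_card fun x hx => ⟨pair x, hgen x hx, by rw [pair, if_pos hx]; rfl⟩
  have hle : P.map φ ≤ cent := by
    rw [MonoidHom.map_closure, Subgroup.closure_le]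
    rintro _ ⟨_, ⟨x, hx, rfl⟩, rfl⟩
    have hx6 : x < 6 := by rw [hkl] at hx; simp at hx; omega
    refine Subgroup.mem_centralizer_singleton_iff.2 ?_
    show (pair x).1 * el 3 = el 3 * (pair x).1
    rw [pair, if_pos hx6]
    have h := eq_of_same (List.all_eq_true.1 genWords_comm (genWord x) (by
      have hlen : genWords.length = 6 := by decide
      show genWords.getD x [] ∈ genWords
      rw [List.getD_eq_getElem _ _ (by omega)]
      exact List.getElem_mem _))
    rwa [val_append, val_append, val_single] at h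
  have hmap1 : P.map φ = cent := Subgroup.eq_of_le_of_card_ge hle (card_le.trans hlow)
  have hs1 : Function.Surjective (φ.subgroupMap P) := φ.subgroupMap_surjective P
  have h1 := Nat.card_le_card_of_surjective _ hs1
  have b1 : Function.Bijective (φ.subgroupMap P) :=
    (Nat.bijective_iff_surjective_and_card _).2 ⟨hs1, by omega⟩
  -- projection to the matrix group
  have hmap2 : P.map ψ = Subgroup.centralizer ({s} : Set (Matrix.SpecialLinearGroup (Fin 5) (ZMod 2))) := by
    rw [← closure_eq s hs, MonoidHom.map_closure]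
    congr 1
    ext g
    constructor
    · rintro ⟨_, ⟨x, hx, rfl⟩, rfl⟩
      have hx6 : x < 6 := by rw [hkl] at hx; simp at hx; omega
      exact ⟨x, List.mem_range.2 hx6, by rw [pair, if_pos hx6]; rfl⟩
    · rintro ⟨x, hx, rfl⟩
      have hx6 : x < 6 := List.mem_range.1 hx
      refine ⟨pair x, ⟨x, ?_, rfl⟩, by rw [pair, if_pos hx6]; rfl⟩
      rw [hkl]
      simp only [List.mem_cons, List.not_mem_nil, or_false]
      omega
  have hs2 : Function.Surjective (ψ.subgroupMap P) := ψ.subgroupMap_surjective P
  have h2 : Nat.card (P.map ψ) ≤ Nat.card P := Nat.card_le_card_of_surjective _ hs2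
  have h3 : 21504 ≤ Nat.card (P.map ψ) := by rw [hmap2]; exact le_card_centralizer s hs
  have b2 : Function.Bijective (ψ.subgroupMap P) :=
    (Nat.bijective_iff_surjective_and_card _).2 ⟨hs2, by have := hP.2; omega⟩
  refine ⟨(MulEquiv.subgroupCongr hmap1).symm.trans <| (MulEquiv.ofBijective _ b1).symm.trans <|
    (MulEquiv.ofBijective _ b2).trans (MulEquiv.subgroupCongr hmap2), fun x hx hmem => ?_⟩
  have hm : φ (pair x) = val (genWord x) := by rw [pair, if_pos hx]; rfl
  have h : (MulEquiv.ofBijective _ b1).symm ((MulEquiv.subgroupCongr hmap1).symm ⟨val (genWord x), hmem⟩) =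
      ⟨pair x, hgen x hx⟩ := by
    rw [MulEquiv.symm_apply_eq]
    exact Subtype.ext hm.symm
  simp only [MulEquiv.trans_apply, h]
  show ψ (pair x) = mat x
  rw [pair, if_pos hx]
  rfl

theorem main (s : Matrix.SpecialLinearGroup (Fin 5) (ZMod 2))
    (hs : (s : Matrix (Fin 5) (Fin 5) (ZMod 2)) = Matrix.transvection 0 1 1) :
    ∃ z : Spor.He, orderOf z = 2 ∧ Nonempty (↥(Subgroup.centralizer ({z} : Set Spor.He)) ≃*
      ↥(Subgroup.centralizer ({s} : Set (Matrix.SpecialLinearGroup (Fin 5) (ZMod 2))))) := by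
  obtain ⟨e, -⟩ := exists_iso s hs
  refine ⟨el 3, orderOf_eq_prime (by rw [sq]; exact SporBound.gen_inv nodes 3) (fun h => ?_), ?_⟩
  · exact (ne_of_trace ⟨2, by decide +kernel⟩ (u := [3]) (w := []) (by decide +kernel)) (by simpa using h)
  exact ⟨e⟩

end CfsgLib.Recog.SporHe.Centralizer
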