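import Cfsg.Agent.Lib.Recog.SporHe.MultBasic

set_option autoImplicit false
set_option Elab.async false
set_option maxRecDepth 20000

/-!
Checks on words in the presented Held group for the multiplier (owner: helper22).
-/

namespace CfsgLib.Recog.SporHe.Mult

open Cfsg CfsgLib.Recog.SporBound
open CfsgLib.ThreeTrans.CosetIndex (He2058.data He2058.valid forallFrom forallFrom_elim)

theorem pairs_short0 : (((pairs.drop 0).take 3).all fun p =>
    same ([p.2.1, p.1]) ([p.1, p.2.1]) && (same (p.2.2.1 ++ [p.1]) ([p.1] ++ p.2.2.1) &&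
      (same (rep p.2.2.2.1 ([p.2.1] ++ p.2.2.1)) [] && (same (rep p.2.2.2.2 p.2.2.1) [] &&
        (Nat.beq (p.2.2.2.1 % 2) 1 && Nat.beq (p.2.2.2.2 % 2) 1))))) = true := by decide +kernel

theorem pairs_short1 : (((pairs.drop 3).take 3).all fun p =>
    same ([p.2.1, p.1]) ([p.1, p.2.1]) && (same (p.2.2.1 ++ [p.1]) ([p.1] ++ p.2.2.1) &&
      (same (rep p.2.2.2.1 ([p.2.1] ++ p.2.2.1)) [] && (same (rep p.2.2.2.2 p.2.2.1) [] &&
        (Nat.beq (p.2.2.2.1 % 2) 1 && Nat.beq (p.2.2.2.2 % 2) 1))))) = true := by decide +kernel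

theorem pairs_short2 : (((pairs.drop 6).take 3).all fun p =>
    same ([p.2.1, p.1]) ([p.1, p.2.1]) && (same (p.2.2.1 ++ [p.1]) ([p.1] ++ p.2.2.1) &&
      (same (rep p.2.2.2.1 ([p.2.1] ++ p.2.2.1)) [] && (same (rep p.2.2.2.2 p.2.2.1) [] &&
        (Nat.beq (p.2.2.2.1 % 2) 1 && Nat.beq (p.2.2.2.2 % 2) 1))))) = true := by decide +kernel

theorem pairs_short : ((pairs.take 9).all fun p =>
    same ([p.2.1, p.1]) ([p.1, p.2.1]) && (same (p.2.2.1 ++ [p.1]) ([p.1] ++ p.2.2.1) &&
      (same (rep p.2.2.2.1 ([p.2.1] ++ p.2.2.1)) [] && (same (rep p.2.2.2.2 p.2.2.1) [] &&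
        (Nat.beq (p.2.2.2.1 % 2) 1 && Nat.beq (p.2.2.2.2 % 2) 1))))) = true := by
  rw [show pairs.take 9 = (pairs.drop 0).take 3 ++ (pairs.drop 3).take 3 ++ (pairs.drop 6).take 3 from rfl]
  simp only [List.all_append, Bool.and_eq_true]
  exact ⟨⟨pairs_short0, pairs_short1⟩, pairs_short2⟩

/-- Two words agree on the 686 points from `lo` on. -/
noncomputable def sameOn (lo : ℕ) (u w : List ℕ) : Bool :=
  forallFrom (fun c => Nat.beq (He2058.data.trace c u) (He2058.data.trace c w)) lo 686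

theorem same_of_thirds {u w : List ℕ} (h0 : sameOn 0 u w = true) (h1 : sameOn 686 u w = true)
    (h2 : sameOn 1372 u w = true) : same u w = true := by
  have hs : ∀ k, ∀ f : ℕ → Bool, (∀ i < k, f i = true) → forallFrom f 0 k = true := by
    intro k f
    induction k with
    | zero => exact fun _ => rfl
    | succ k ih =>
      intro h
      show (f (0 + k) && forallFrom f 0 k) = true
      rw [Nat.zero_add, h k (Nat.lt_succ_self k), ih fun i hi => h i (Nat.lt_succ_of_lt hi)]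
      rfl
  refine hs _ _ fun i hi => ?_
  rcases Nat.lt_or_ge i 686 with a | a
  · exact forallFrom_elim h0 (Nat.zero_le i) (by omega)
  · rcases Nat.lt_or_ge i 1372 with b | b
    · exact forallFrom_elim h1 a (by omega)
    · exact forallFrom_elim h2 b (by omega)

theorem pair9_r0 : sameOn 0 (rep (pairs.getD 9 (0, 0, [], 0, 0)).2.2.2.1 ([(pairs.getD 9 (0, 0, [], 0, 0)).2.1] ++ (pairs.getD 9 (0, 0, [], 0, 0)).2.2.1)) [] = true := by decide +kernel

theorem pair9_r1 : sameOn 686 (rep (pairs.getD 9 (0, 0, [], 0, 0)).2.2.2.1 ([(pairs.getD 9 (0, 0, [], 0, 0)).2.1] ++ (pairs.getD 9 (0, 0, [], 0, 0)).2.2.1)) [] = true := by decide +kernel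

theorem pair9_r2 : sameOn 1372 (rep (pairs.getD 9 (0, 0, [], 0, 0)).2.2.2.1 ([(pairs.getD 9 (0, 0, [], 0, 0)).2.1] ++ (pairs.getD 9 (0, 0, [], 0, 0)).2.2.1)) [] = true := by decide +kernel

theorem pair9_t0 : sameOn 0 (rep (pairs.getD 9 (0, 0, [], 0, 0)).2.2.2.2 (pairs.getD 9 (0, 0, [], 0, 0)).2.2.1) [] = true := by decide +kernel

theorem pair9_t1 : sameOn 686 (rep (pairs.getD 9 (0, 0, [], 0, 0)).2.2.2.2 (pairs.getD 9 (0, 0, [], 0, 0)).2.2.1) [] = true := by decide +kernel

theorem pair9_t2 : sameOn 1372 (rep (pairs.getD 9 (0, 0, [], 0, 0)).2.2.2.2 (pairs.getD 9 (0, 0, [], 0, 0)).2.2.1) [] = true := by decide +kernel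

theorem pair9_small : (same ([(pairs.getD 9 (0, 0, [], 0, 0)).2.1, (pairs.getD 9 (0, 0, [], 0, 0)).1]) ([(pairs.getD 9 (0, 0, [], 0, 0)).1, (pairs.getD 9 (0, 0, [], 0, 0)).2.1]) &&
    (same ((pairs.getD 9 (0, 0, [], 0, 0)).2.2.1 ++ [(pairs.getD 9 (0, 0, [], 0, 0)).1]) ([(pairs.getD 9 (0, 0, [], 0, 0)).1] ++ (pairs.getD 9 (0, 0, [], 0, 0)).2.2.1) &&
      (Nat.beq ((pairs.getD 9 (0, 0, [], 0, 0)).2.2.2.1 % 2) 1 && Nat.beq ((pairs.getD 9 (0, 0, [], 0, 0)).2.2.2.2 % 2) 1))) = true := by decide +kernel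

theorem pair10_r0 : sameOn 0 (rep (pairs.getD 10 (0, 0, [], 0, 0)).2.2.2.1 ([(pairs.getD 10 (0, 0, [], 0, 0)).2.1] ++ (pairs.getD 10 (0, 0, [], 0, 0)).2.2.1)) [] = true := by decide +kernel

theorem pair10_r1 : sameOn 686 (rep (pairs.getD 10 (0, 0, [], 0, 0)).2.2.2.1 ([(pairs.getD 10 (0, 0, [], 0, 0)).2.1] ++ (pairs.getD 10 (0, 0, [], 0, 0)).2.2.1)) [] = true := by decide +kernel

theorem pair10_r2 : sameOn 1372 (rep (pairs.getD 10 (0, 0, [], 0, 0)).2.2.2.1 ([(pairs.getD 10 (0, 0, [], 0, 0)).2.1] ++ (pairs.getD 10 (0, 0, [], 0, 0)).2.2.1)) [] = true := by decide +kernel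

theorem pair10_t0 : sameOn 0 (rep (pairs.getD 10 (0, 0, [], 0, 0)).2.2.2.2 (pairs.getD 10 (0, 0, [], 0, 0)).2.2.1) [] = true := by decide +kernel

theorem pair10_t1 : sameOn 686 (rep (pairs.getD 10 (0, 0, [], 0, 0)).2.2.2.2 (pairs.getD 10 (0, 0, [], 0, 0)).2.2.1) [] = true := by decide +kernel

theorem pair10_t2 : sameOn 1372 (rep (pairs.getD 10 (0, 0, [], 0, 0)).2.2.2.2 (pairs.getD 10 (0, 0, [], 0, 0)).2.2.1) [] = true := by decide +kernel

theorem pair10_small : (same ([(pairs.getD 10 (0, 0, [], 0, 0)).2.1, (pairs.getD 10 (0, 0, [], 0, 0)).1]) ([(pairs.getD 10 (0, 0, [], 0, 0)).1, (pairs.getD 10 (0, 0, [], 0, 0)).2.1]) &&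
    (same ((pairs.getD 10 (0, 0, [], 0, 0)).2.2.1 ++ [(pairs.getD 10 (0, 0, [], 0, 0)).1]) ([(pairs.getD 10 (0, 0, [], 0, 0)).1] ++ (pairs.getD 10 (0, 0, [], 0, 0)).2.2.1) &&
      (Nat.beq ((pairs.getD 10 (0, 0, [], 0, 0)).2.2.2.1 % 2) 1 && Nat.beq ((pairs.getD 10 (0, 0, [], 0, 0)).2.2.2.2 % 2) 1))) = true := by decide +kernel

theorem pair11_r0 : sameOn 0 (rep (pairs.getD 11 (0, 0, [], 0, 0)).2.2.2.1 ([(pairs.getD 11 (0, 0, [], 0, 0)).2.1] ++ (pairs.getD 11 (0, 0, [], 0, 0)).2.2.1)) [] = true := by decide +kernel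

theorem pair11_r1 : sameOn 686 (rep (pairs.getD 11 (0, 0, [], 0, 0)).2.2.2.1 ([(pairs.getD 11 (0, 0, [], 0, 0)).2.1] ++ (pairs.getD 11 (0, 0, [], 0, 0)).2.2.1)) [] = true := by decide +kernel

theorem pair11_r2 : sameOn 1372 (rep (pairs.getD 11 (0, 0, [], 0, 0)).2.2.2.1 ([(pairs.getD 11 (0, 0, [], 0, 0)).2.1] ++ (pairs.getD 11 (0, 0, [], 0, 0)).2.2.1)) [] = true := by decide +kernel

theorem pair11_t0 : sameOn 0 (rep (pairs.getD 11 (0, 0, [], 0, 0)).2.2.2.2 (pairs.getD 11 (0, 0, [], 0, 0)).2.2.1) [] = true := by decide +kernel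

theorem pair11_t1 : sameOn 686 (rep (pairs.getD 11 (0, 0, [], 0, 0)).2.2.2.2 (pairs.getD 11 (0, 0, [], 0, 0)).2.2.1) [] = true := by decide +kernel

theorem pair11_t2 : sameOn 1372 (rep (pairs.getD 11 (0, 0, [], 0, 0)).2.2.2.2 (pairs.getD 11 (0, 0, [], 0, 0)).2.2.1) [] = true := by decide +kernel

theorem pair11_small : (same ([(pairs.getD 11 (0, 0, [], 0, 0)).2.1, (pairs.getD 11 (0, 0, [], 0, 0)).1]) ([(pairs.getD 11 (0, 0, [], 0, 0)).1, (pairs.getD 11 (0, 0, [], 0, 0)).2.1]) &&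
    (same ((pairs.getD 11 (0, 0, [], 0, 0)).2.2.1 ++ [(pairs.getD 11 (0, 0, [], 0, 0)).1]) ([(pairs.getD 11 (0, 0, [], 0, 0)).1] ++ (pairs.getD 11 (0, 0, [], 0, 0)).2.2.1) &&
      (Nat.beq ((pairs.getD 11 (0, 0, [], 0, 0)).2.2.2.1 % 2) 1 && Nat.beq ((pairs.getD 11 (0, 0, [], 0, 0)).2.2.2.2 % 2) 1))) = true := by decide +kernel

theorem pairs_ok : (pairs.all fun p =>
    same ([p.2.1, p.1]) ([p.1, p.2.1]) && (same (p.2.2.1 ++ [p.1]) ([p.1] ++ p.2.2.1) &&
      (same (rep p.2.2.2.1 ([p.2.1] ++ p.2.2.1)) [] && (same (rep p.2.2.2.2 p.2.2.1) [] &&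
        (Nat.beq (p.2.2.2.1 % 2) 1 && Nat.beq (p.2.2.2.2 % 2) 1))))) = true := by
  rw [show pairs = pairs.take 9 ++ [pairs.getD 9 (0, 0, [], 0, 0), pairs.getD 10 (0, 0, [], 0, 0), pairs.getD 11 (0, 0, [], 0, 0)] from rfl]
  simp only [List.all_append, List.all_cons, List.all_nil, Bool.and_true, Bool.and_eq_true]
  have a9 := pair9_small; have a10 := pair10_small; have a11 := pair11_small
  simp only [Bool.and_eq_true] at a9 a10 a11
  refine ⟨pairs_short, ?_, ?_, ?_⟩
  · exact ⟨a9.1, a9.2.1, same_of_thirds pair9_r0 pair9_r1 pair9_r2,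
      same_of_thirds pair9_t0 pair9_t1 pair9_t2, a9.2.2⟩
  · exact ⟨a10.1, a10.2.1, same_of_thirds pair10_r0 pair10_r1 pair10_r2,
      same_of_thirds pair10_t0 pair10_t1 pair10_t2, a10.2.2⟩
  · exact ⟨a11.1, a11.2.1, same_of_thirds pair11_r0 pair11_r1 pair11_r2,
      same_of_thirds pair11_t0 pair11_t1 pair11_t2, a11.2.2⟩

theorem conjs_ok0 : (((conjs.drop 0).take 3).all fun p => same (p.2.2 ++ p.1) (p.2.1 ++ p.2.2)) = true := by decide +kernel

theorem conjs_ok1 : (((conjs.drop 3).take 3).all fun p => same (p.2.2 ++ p.1) (p.2.1 ++ p.2.2)) = true := by decide +kernel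

theorem conjs_ok2 : (((conjs.drop 6).take 3).all fun p => same (p.2.2 ++ p.1) (p.2.1 ++ p.2.2)) = true := by decide +kernel

theorem conjs_ok : (conjs.all fun p => same (p.2.2 ++ p.1) (p.2.1 ++ p.2.2)) = true := by
  rw [show conjs = (conjs.drop 0).take 3 ++ (conjs.drop 3).take 3 ++ (conjs.drop 6).take 3 from rfl]
  simp only [List.all_append, Bool.and_eq_true]
  exact ⟨⟨conjs_ok0, conjs_ok1⟩, conjs_ok2⟩

theorem chainU_ok : chainOK He2058.data [] levelsU = true := by decide +kernel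

theorem chainL_ok : chainOK He2058.data [] levelsL = true := by decide +kernel

theorem totalU : (levelsU.map fun L => L.2.2.length + 1).prod = 15120 := by decide +kernel

theorem totalL : (levelsL.map fun L => L.2.2.length + 1).prod = 80640 := by decide +kernel

/-- The first five letters. -/
def lettersU : List ℕ := [0, 1, 2, 3, 4]

/-- All letters but the second. -/
def lettersL : List ℕ := [0, 2, 3, 4, 5, 6]

theorem wordsU_ok : (levelsU.all fun L => L.2.1.all fun w => w.all (lettersU.contains ·)) = true := by decide +kernel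

theorem wordsL_ok : (levelsL.all fun L => L.2.1.all fun w => w.all (lettersL.contains ·)) = true := by decide +kernel

theorem conj_of_mem {x y w : List ℕ} (h : (x, y, w) ∈ conjs) : val w * val x = val y * val w := by
  rw [← val_append, ← val_append]
  exact eq_of_same (List.all_eq_true.1 conjs_ok _ h)

/-- Subgroup of some letters contains enough permutations for a chain. -/
theorem chain_le {Ls : List SporBound.Level} {kl : List ℕ} (h : chainOK He2058.data [] Ls = true)
    (hw : (Ls.all fun L => L.2.1.all fun w => w.all (kl.contains ·)) = true) :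
    (Ls.map fun L => L.2.2.length + 1).prod ≤
      Nat.card (Subgroup.closure {g : Spor.He | ∃ x ∈ kl, g = el x}) := by
  set H := Subgroup.closure {g : Spor.He | ∃ x ∈ kl, g = el x}
  rw [Nat.card_congr (Subgroup.equivMapOfInjective H act act_injective).toEquiv]
  set R := H.map act
  have key : ∀ {Ls : List SporBound.Level} {prev : List ℕ} (R' : Subgroup (Equiv.Perm (Fin He2058.data.n))),
      (∀ w : List ℕ, (∀ x ∈ w, x ∈ kl) → (∀ p ∈ prev, He2058.data.trace p w = p) → wperm He2058.valid w ∈ R') →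
      chainOK He2058.data prev Ls = true →
      (Ls.all fun L => L.2.1.all fun w => w.all (kl.contains ·)) = true →
      (Ls.map fun L => L.2.2.length + 1).prod ≤ Nat.card R' := by
    intro Ls
    induction Ls with
    | nil => intro prev R' _ _ _; simpa using Nat.one_le_iff_ne_zero.2 Nat.card_pos.ne'
    | cons L Ls ih =>
      intro prev R' hR h hw
      rw [List.all_cons, Bool.and_eq_true] at hw
      have h' : (Nat.blt L.1 He2058.data.n && (L.2.1.all (fun w => prev.all fun p => Nat.beq (He2058.data.trace p w) p) &&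
          ((grow He2058.data L.2.1 L.2.2 (Nat.shiftLeft 1 L.1)).isSome && chainOK He2058.data (L.1 :: prev) Ls))) = true := h
      simp only [Bool.and_eq_true, List.all_eq_true, Nat.beq_eq, Option.isSome_iff_exists] at h'
      obtain ⟨hb, hfix, ⟨m', hg⟩, hrest⟩ := h'
      have hb' : L.1 < He2058.data.n := by simpa using hb
      set b : Fin He2058.data.n := ⟨L.1, hb'⟩
      have horb := grow_forward He2058.valid (fun c => c ∈ MulAction.orbit R' b) (ws := L.2.1) (fun k hk c hc => by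
          have hwk : wperm He2058.valid (L.2.1.getD k []) ∈ R' := by
            rw [List.getD_eq_getElem _ _ hk]
            refine hR _ (fun x hx => ?_) fun p hp => hfix _ (List.getElem_mem hk) p hp
            exact List.contains_iff_mem.1 (List.all_eq_true.1 (List.all_eq_true.1 hw.1 _ (List.getElem_mem hk)) x hx)
          obtain ⟨g, rfl⟩ := hc
          exact ⟨⟨_, hwk⟩ * g, rfl⟩)
        (fun i hi => by
          rw [testBit_shift_one, decide_eq_true_eq] at hi
          subst hi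
          exact ⟨hb', MulAction.mem_orbit_self _⟩) hg
      obtain ⟨S, hS, hcard⟩ := grow_card (S := {L.1})
        (fun i => by rw [Finset.mem_singleton, testBit_shift_one, decide_eq_true_eq, eq_comm]) hg
      have h1 : L.2.2.length + 1 ≤ Nat.card (MulAction.orbit R' b) := by
        rw [Finset.card_singleton, Nat.add_comm] at hcard
        rw [← hcard]
        let f : S → MulAction.orbit R' b := fun i => ⟨⟨i.1, (horb _ ((hS _).1 i.2)).1⟩, (horb _ ((hS _).1 i.2)).2⟩
        rw [← Nat.card_eq_finsetCard]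
        exact Nat.card_le_card_of_injective f fun i j hij =>
          Subtype.ext (Fin.val_eq_of_eq (congrArg Subtype.val hij))
      have h2 := ih ((MulAction.stabilizer R' b).map R'.subtype) (prev := L.1 :: prev)
        (fun w hx hp => ⟨⟨_, hR w hx fun p hp' => hp p (List.mem_cons_of_mem _ hp')⟩,
          Fin.ext (by
            rw [show ((⟨wperm He2058.valid w, _⟩ : R') • b) = wperm He2058.valid w b from rfl, wperm_apply]
            exact hp _ List.mem_cons_self),
          rfl⟩) hrest hw.2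
      rw [Subgroup.card_map_of_injective Subtype.val_injective] at h2
      rw [List.map_cons, List.prod_cons, Nat.card_congr (MulAction.orbitProdStabilizerEquivGroup R' b).symm,
        Nat.card_prod]
      exact Nat.mul_le_mul h1 h2
  refine key R (fun w hx _ => ?_) h hw
  rw [wperm_eq]
  refine Subgroup.mem_map_of_mem act (Subgroup.list_prod_mem _ fun g hg => ?_)
  obtain ⟨x, hxw, rfl⟩ := List.mem_map.1 hg
  exact Subgroup.subset_closure ⟨x, hx x (List.mem_reverse.1 hxw), rfl⟩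

end CfsgLib.Recog.SporHe.Mult
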