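import Cfsg.Agent.Lib.Recog.SporHe.MultHom
import Cfsg.Agent.Lib.Recog.SporHe.MultChecks

set_option autoImplicit false
set_option maxRecDepth 20000

/-!
Stem extensions of the Held group with kernel of odd prime exponent are trivial (owner: helper22).
-/

namespace CfsgLib.Recog.SporHe.Mult

open Cfsg CfsgLib.Recog.SporBound

variable {Δ : Type*} [Group Δ] (τ : Δ →* Spor.He)

theorem one_of_sq {r : ℕ} (hr : Odd r) {z : Δ} (h2 : z ^ 2 = 1) (h : z ^ r = 1) : z = 1 := by
  obtain ⟨j, rfl⟩ := hr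
  rwa [pow_add, pow_mul, h2, one_pow, one_mul, pow_one] at h

/-- All relators but the last. -/
structure IsLift' (A B C D E F G : Δ) : Prop where
  mA : τ A = el 0
  mB : τ B = el 1
  mC : τ C = el 2
  mD : τ D = el 3
  mE : τ E = el 4
  mF : τ F = el 5
  mG : τ G = el 6
  sA : A * A = 1
  sB : B * B = 1
  sC : C * C = 1
  sD : D * D = 1
  sE : E * E = 1
  sF : F * F = 1
  sG : G * G = 1
  ac : Commute A C
  ad : Commute A D
  ae : Commute A E
  af : Commute A F
  ag : Commute A G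
  bd : Commute B D
  be : Commute B E
  bf : Commute B F
  bg : Commute B G
  ce : Commute C E
  cf : Commute C F
  cg : Commute C G
  ef : Commute E F
  eg : Commute E G
  ab : (A * B) ^ 4 = 1
  bc : (B * C) ^ 3 = 1
  cd : (C * D) ^ 10 = 1
  de : (D * E) ^ 3 = 1
  df : (D * F) ^ 3 = 1
  fg : (F * G) ^ 4 = 1
  gd : (D * G) ^ 3 = 1
  r1 : E = (F * G) ^ 2
  r2 : E = (A * B * C) ^ 3
  r3 : A = (C * D) ^ 5

theorem exists_lift' (hs : Function.Surjective τ) (hc : τ.ker ≤ Subgroup.center Δ) {r : ℕ} (hr : Odd r)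
    (he : ∀ z ∈ τ.ker, z ^ r = 1) : ∃ A B C D E F G : Δ, IsLift' τ A B C D E F G := by
  have hx : ∀ x, el x * el x = 1 := fun x => SporBound.gen_inv nodes x
  obtain ⟨A, mA, sA⟩ := exists_sq_one τ hc hs hr he (hx 0)
  obtain ⟨B, mB, sB⟩ := exists_sq_one τ hc hs hr he (hx 1)
  obtain ⟨C, mC, sC⟩ := exists_sq_one τ hc hs hr he (hx 2)
  obtain ⟨D, mD, sD⟩ := exists_sq_one τ hc hs hr he (hx 3)
  obtain ⟨E, mE, sE⟩ := exists_sq_one τ hc hs hr he (hx 4)
  obtain ⟨F, mF, sF⟩ := exists_sq_one τ hc hs hr he (hx 5)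
  obtain ⟨G, mG, sG⟩ := exists_sq_one τ hc hs hr he (hx 6)
  have cm : ∀ {X Y : Δ} {x y : ℕ}, X * X = 1 → Y * Y = 1 → τ X = el x → τ Y = el y →
      same [x, y] [y, x] = true → Commute X Y := fun hX hY hx hy h =>
    commute_of_sq τ hc hr he hX hY (by rw [hx, hy]; simpa [val] using eq_of_same h)
  have dih : ∀ {U V : Δ} {u v : List ℕ} (n : ℕ), U * U = 1 → V * V = 1 → τ U = val u → τ V = val v →
      same (rep n (u ++ v)) [] = true → (U * V) ^ n = 1 := fun {U V u v} n hU hV hu hv h => by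
    have hk : (U * V) ^ n ∈ τ.ker := by
      rw [MonoidHom.mem_ker, map_pow, map_mul, hu, hv, ← val_append, ← val_rep, eq_of_same h, val_nil]
    exact one_of_sq hr (sq_dihedral τ hc hU hV hk) (he _ hk)
  have mw : ∀ {X : Δ} {x : ℕ}, τ X = el x → τ X = val [x] := fun h => by rw [h, val_single]
  have eq2 : ∀ {X W : Δ}, X * X = 1 → W * W = 1 → Commute X W → τ X = τ W → X = W := by
    intro X W hX hW hcm hXW
    have hk : X * W⁻¹ ∈ τ.ker := mem_ker_mul_inv τ hXW
    have h2 : (X * W⁻¹) ^ 2 = 1 := by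
      rw [hcm.inv_right.mul_pow, inv_pow, sq, sq, hX, hW, inv_one, mul_one]
    exact mul_inv_eq_one.1 (one_of_sq hr h2 (he _ hk))
  have ac := cm sA sC mA mC (by decide +kernel)
  have ad := cm sA sD mA mD (by decide +kernel)
  have ae := cm sA sE mA mE (by decide +kernel)
  have be := cm sB sE mB mE (by decide +kernel)
  have ce := cm sC sE mC mE (by decide +kernel)
  have ef := cm sE sF mE mF (by decide +kernel)
  have eg := cm sE sG mE mG (by decide +kernel)
  have fg : (F * G) ^ 4 = 1 := dih 4 sF sG (mw mF) (mw mG) (by decide +kernel)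
  have cd : (C * D) ^ 10 = 1 := dih 10 sC sD (mw mC) (mw mD) (by decide +kernel)
  have cab : (C * A * B) ^ 6 = 1 := dih 6 (u := [2, 0]) (v := [1])
    (by rw [← sq, ac.symm.mul_pow, sq, sq, sA, sC, one_mul]) sB (by rw [map_mul, mA, mC]; simp [val])
    (mw mB) (by decide +kernel)
  have abc : (A * B * C) ^ 6 = 1 := by
    rw [show A * B * C = C⁻¹ * (C * A * B) * C⁻¹⁻¹ by group, conj_pow, cab, mul_one, mul_inv_cancel]
  have w : ∀ {u v : List ℕ}, same u v = true → (u.map el).prod = (v.map el).prod := fun h => eq_of_same h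
  refine ⟨A, B, C, D, E, F, G,
  { mA, mB, mC, mD, mE, mF, mG
    sA, sB, sC, sD, sE, sF, sG, ac, ad, ae
    af := cm sA sF mA mF (by decide +kernel)
    ag := cm sA sG mA mG (by decide +kernel)
    bd := cm sB sD mB mD (by decide +kernel)
    be
    bf := cm sB sF mB mF (by decide +kernel)
    bg := cm sB sG mB mG (by decide +kernel)
    ce
    cf := cm sC sF mC mF (by decide +kernel)
    cg := cm sC sG mC mG (by decide +kernel)
    ef
    eg
    ab := dih 4 sA sB (mw mA) (mw mB) (by decide +kernel)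
    bc := dih 3 sB sC (mw mB) (mw mC) (by decide +kernel)
    cd
    de := dih 3 sD sE (mw mD) (mw mE) (by decide +kernel)
    df := dih 3 sD sF (mw mD) (mw mF) (by decide +kernel)
    fg
    gd := dih 3 sD sG (mw mD) (mw mG) (by decide +kernel)
    r1 := eq2 sE (by rw [← pow_add]; exact fg) ((ef.mul_right eg).pow_right 2) ?_
    r2 := eq2 sE (by rw [← pow_add]; exact abc) (((ae.symm.mul_right be.symm).mul_right ce.symm).pow_right 3) ?_
    r3 := eq2 sA (by rw [← pow_add]; exact cd) ((ac.mul_right ad).pow_right 5) ?_ }⟩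
  · rw [map_pow, map_mul, mE, mF, mG]
    simpa [pow_succ, mul_assoc] using w (show same [4] [5, 6, 5, 6] = true by decide +kernel)
  · rw [map_pow, map_mul, map_mul, mE, mA, mB, mC]
    simpa [pow_succ, mul_assoc] using w (show same [4] [0, 1, 2, 0, 1, 2, 0, 1, 2] = true by decide +kernel)
  · rw [map_pow, map_mul, mA, mC, mD]
    simpa [pow_succ, mul_assoc] using w (show same [0] [2, 3, 2, 3, 2, 3, 2, 3, 2, 3] = true by decide +kernel)

theorem card_five : Nat.card (Subgroup.closure {g : Spor.He | ∃ x ∈ lettersU, g = el x}) ≥ 15120 :=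
  totalU ▸ chain_le chainU_ok wordsU_ok

theorem card_L_eq : Nat.card (Subgroup.closure {g : Spor.He | ∃ x ∈ lettersL, g = el x}) = 80640 := by
  refine le_antisymm ?_ (totalL ▸ chain_le chainL_ok wordsL_ok)
  have h : HeL.cert.kl = lettersL := by decide +kernel
  have := card_L.2
  rw [show L = letterSub Spor.He.edges Spor.He.extra gens HeL.cert.kl from rfl, h] at this
  exact this

theorem last_relator [Finite Δ] (hs : Function.Surjective τ) (hc : τ.ker ≤ Subgroup.center Δ) {r : ℕ}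
    (hr : r.Prime) (hr5 : 5 ≤ r) (he : ∀ z ∈ τ.ker, z ^ r = 1) {A B C D E F G : Δ}
    (h : IsLift' τ A B C D E F G) : (C * D * F * G) ^ 4 = 1 := by
  set k := (C * D * F * G) ^ 4 with hkdef
  have hk : k ∈ τ.ker := by
    rw [MonoidHom.mem_ker, hkdef, map_pow, map_mul, map_mul, map_mul, h.mC, h.mD, h.mF, h.mG]
    have e := eq_of_same (show same (rep 4 [2, 3, 5, 6]) [] = true by decide +kernel)
    rw [val_rep, val_nil] at e
    simpa [val, mul_assoc] using e
  set L₁ : Subgroup Spor.He := Subgroup.closure {g : Spor.He | ∃ x ∈ lettersL, g = el x} with hL₁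
  set H : Subgroup Δ := L₁.comap τ
  have hmemL : ∀ x ∈ lettersL, el x ∈ L₁ := fun x hx => Subgroup.subset_closure ⟨x, hx, rfl⟩
  have hmem : ∀ {X : Δ} {x : ℕ}, τ X = el x → x ∈ lettersL → X ∈ H := fun hX hx => by
    show τ _ ∈ L₁
    rw [hX]; exact hmemL _ hx
  let c' : H := ⟨C, hmem h.mC (by decide)⟩
  let d' : H := ⟨D, hmem h.mD (by decide)⟩
  let f' : H := ⟨F, hmem h.mF (by decide)⟩
  let g' : H := ⟨G, hmem h.mG (by decide)⟩
  have hkH : (c' * d' * f' * g') ^ 4 ∈ commutator H := by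
    refine (QuotientGroup.eq_one_iff _).1 ?_
    show Abelianization.of ((c' * d' * f' * g') ^ 4) = 1
    have one : ∀ {u : H}, u * u = 1 → Abelianization.of u ^ 4 = 1 := fun {u} hu => by
      rw [pow_mul (Abelianization.of u) 2 2, sq (Abelianization.of u), ← map_mul, hu, map_one, one_pow]
    rw [map_pow, map_mul, map_mul, map_mul, mul_pow, mul_pow, mul_pow, one (Subtype.ext h.sC),
      one (Subtype.ext h.sD), one (Subtype.ext h.sF), one (Subtype.ext h.sG)]
    simp
  have hz : ((c' * d' * f' * g') ^ 4 : H) ∈ Subgroup.center H :=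
    Subgroup.mem_center_iff.2 fun u => Subtype.ext (Subgroup.mem_center_iff.1 (hc hk) u)
  obtain ⟨x, hxL, hxr⟩ : ∃ x : Spor.He, x ∈ L₁ ∧ ¬ r ∣ 80640 / orderOf x := by
    have hw : ∀ {w : List ℕ}, (∀ x ∈ w, x ∈ lettersL) → val w ∈ L₁ := fun hw =>
      Subgroup.list_prod_mem _ fun g hg => by
        obtain ⟨x, hx, rfl⟩ := List.mem_map.1 hg
        exact hmemL x (hw x hx)
    rcases eq_or_ne r 5 with rfl | h5
    · refine ⟨val [2, 3, 2, 3], hw (by decide), ?_⟩
      haveI : Fact (Nat.Prime 5) := ⟨hr⟩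
      rw [orderOf_eq_prime (p := 5)
        (show val [2, 3, 2, 3] ^ 5 = 1 by rw [← val_rep, ← val_nil]; exact eq_of_same (by decide +kernel))
        (show val [2, 3, 2, 3] ≠ 1 from
          ne_of_trace ⟨8, by decide +kernel⟩ (u := [2, 3, 2, 3]) (w := []) (by decide +kernel))]
      norm_num
    rcases eq_or_ne r 7 with rfl | h7
    · refine ⟨val [3, 5, 6], hw (by decide), ?_⟩
      haveI : Fact (Nat.Prime 7) := ⟨hr⟩
      rw [orderOf_eq_prime (p := 7)
        (show val [3, 5, 6] ^ 7 = 1 by rw [← val_rep, ← val_nil]; exact eq_of_same (by decide +kernel))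
        (show val [3, 5, 6] ≠ 1 from
          ne_of_trace ⟨0, by decide +kernel⟩ (u := [3, 5, 6]) (w := []) (by decide +kernel))]
      norm_num
    · refine ⟨1, one_mem _, fun hd => ?_⟩
      rw [orderOf_one, Nat.div_one, show (80640 : ℕ) = 2 ^ 8 * 3 ^ 2 * 5 * 7 by norm_num] at hd
      rcases hr.dvd_mul.1 hd with hd | hd
      · rcases hr.dvd_mul.1 hd with hd | hd
        · rcases hr.dvd_mul.1 hd with hd | hd
          · have := (Nat.prime_dvd_prime_iff_eq hr Nat.prime_two).1 (hr.dvd_of_dvd_pow hd)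
            omega
          · have := (Nat.prime_dvd_prime_iff_eq hr Nat.prime_three).1 (hr.dvd_of_dvd_pow hd)
            omega
        · exact h5 ((Nat.prime_dvd_prime_iff_eq hr Nat.prime_five).1 hd)
      · exact h7 ((Nat.prime_dvd_prime_iff_eq hr (by norm_num)).1 hd)
  set Z : Subgroup H := ((Subgroup.zpowers x).comap τ).subgroupOf H with hZ
  obtain ⟨hmemZ, hcomZ⟩ := CfsgLib.Schur.pow_index_mem_commutator Z hz hkH
  have hbot : commutator Z = ⊥ := by
    rw [commutator_def, Subgroup.commutator_eq_bot_iff_le_centralizer]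
    intro u _
    rw [Subgroup.mem_centralizer_iff]
    intro v _
    have hu : τ ((u : H) : Δ) ∈ Subgroup.zpowers x := u.2
    have hv : τ ((v : H) : Δ) ∈ Subgroup.zpowers x := v.2
    obtain ⟨X, hX⟩ := hs x
    obtain ⟨i, hi⟩ := hu
    obtain ⟨j, hj⟩ := hv
    have split : ∀ {u : Δ} {i : ℤ}, x ^ i = τ u → ∃ z ∈ τ.ker, u = X ^ i * z := fun {u i} hi =>
      ⟨(X ^ i)⁻¹ * u, by rw [MonoidHom.mem_ker, map_mul, map_inv, map_zpow, hX, hi, inv_mul_cancel], by group⟩
    obtain ⟨z, hz1, eu⟩ := split hi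
    obtain ⟨z', hz2, ev⟩ := split hj
    refine Subtype.ext (Subtype.ext ?_)
    show ((v : H) : Δ) * ((u : H) : Δ) = ((u : H) : Δ) * ((v : H) : Δ)
    rw [eu, ev]
    exact ((((Commute.refl X).zpow_zpow j i).mul_right (comm_ker τ hc hz1 _)).mul_left
      ((comm_ker τ hc hz2 _).symm)).eq
  rw [hbot, Subgroup.mem_bot] at hcomZ
  have hpow : k ^ Z.index = 1 := congrArg (fun u : Z => ((u : H) : Δ)) hcomZ
  have hidx : Z.index = 80640 / orderOf x := by
    show ((Subgroup.zpowers x).comap τ).relIndex H = _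
    rw [Subgroup.relIndex_comap, Subgroup.map_comap_eq_self_of_surjective hs]
    have hle : Subgroup.zpowers x ≤ L₁ := (Subgroup.zpowers_le).2 hxL
    have hm := ((Subgroup.zpowers x).subgroupOf L₁).card_mul_index
    rw [Nat.card_congr (Subgroup.subgroupOfEquivOfLe hle).toEquiv, Nat.card_zpowers, card_L_eq] at hm
    have hpos : 0 < orderOf x := (isOfFinOrder_of_finite x).orderOf_pos
    rw [show (Subgroup.zpowers x).relIndex L₁ = ((Subgroup.zpowers x).subgroupOf L₁).index from rfl, ← hm,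
      Nat.mul_div_cancel_left _ hpos]
  have hgcd : Nat.gcd Z.index r = 1 := by
    rw [hidx]
    exact ((hr.coprime_iff_not_dvd).2 hxr).symm
  have := pow_gcd_eq_one.2 ⟨hpow, he _ hk⟩
  rwa [hgcd, pow_one] at this

theorem ker_eq_bot_five [Finite Δ] (hτ : IsStemExtension τ) {r : ℕ} (hr : r.Prime) (hr5 : 5 ≤ r)
    (he : ∀ z ∈ τ.ker, z ^ r = 1) : τ.ker = ⊥ := by
  obtain ⟨hs, hc, hd⟩ := hτ
  obtain ⟨A, B, C, D, E, F, G, h⟩ := exists_lift' τ hs hc (hr.odd_of_ne_two (by omega)) he
  have r4 := last_relator τ hs hc hr hr5 he h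
  exact ker_eq_bot τ (A := A) (B := B) (C := C) (D := D) (E := E) (F := F) (G := G)
    { h with r4 } hc hd

theorem ker_eq_bot_three [Finite Δ] (hτ : IsStemExtension τ) (he : ∀ z ∈ τ.ker, z ^ 3 = 1) : τ.ker = ⊥ := by
  obtain ⟨hs, hc, hd⟩ := id hτ
  obtain ⟨A, B, C, D, E, F, G, h⟩ := exists_lift' τ hs hc (by decide) he
  let a : ℕ → Δ := fun x => match x with
    | 0 => A | 1 => B | 2 => C | 3 => D | 4 => E | _ => 1
  have hinv : ∀ x, a x * a x = 1 := fun x => by
    match x with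
    | 0 => exact h.sA
    | 1 => exact h.sB
    | 2 => exact h.sC
    | 3 => exact h.sD
    | 4 => exact h.sE
    | _ + 5 => exact one_mul _
  have h0 : ∀ x ∈ lettersU, τ (a x) = el x := by
    intro x hx
    simp only [lettersU, List.mem_cons, List.not_mem_nil, or_false] at hx
    rcases hx with rfl | rfl | rfl | rfl | rfl
    exacts [h.mA, h.mB, h.mC, h.mD, h.mE]
  have hrels : HeD.cert.rels = [[0, 0], [1, 1], [2, 2], [3, 3], [4, 4], [0, 1, 0, 1, 0, 1, 0, 1],
      [0, 2, 0, 2], [0, 3, 0, 3], [0, 4, 0, 4], [1, 2, 1, 2, 1, 2], [1, 3, 1, 3], [1, 4, 1, 4],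
      [2, 3, 2, 3, 2, 3, 2, 3, 2, 3, 2, 3, 2, 3, 2, 3, 2, 3, 2, 3], [2, 4, 2, 4], [3, 4, 3, 4, 3, 4],
      [4, 2, 1, 0, 2, 1, 0, 2, 1, 0], [0, 3, 2, 3, 2, 3, 2, 3, 2, 3, 2]] := by decide +kernel
  have hkl : HeD.cert.kl = lettersU := by decide +kernel
  have hsubs : HeD.cert.subs = [[0]] := by decide +kernel
  have hn : HeD.cert.n = 7560 := by decide +kernel
  have hinvA : A⁻¹ = A := inv_eq_of_mul_eq_one_right h.sA
  have hinvB : B⁻¹ = B := inv_eq_of_mul_eq_one_right h.sB
  have hinvC : C⁻¹ = C := inv_eq_of_mul_eq_one_right h.sC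
  have hinvD : D⁻¹ = D := inv_eq_of_mul_eq_one_right h.sD
  have x2 : E * (C * B * A) ^ 3 = 1 := by
    have e : (C * B * A) = (A * B * C)⁻¹ := by rw [mul_inv_rev, mul_inv_rev, hinvA, hinvB, hinvC, mul_assoc]
    rw [e, inv_pow, ← h.r2, mul_inv_cancel]
  have x3 : A * (D * C) ^ 5 = 1 := by
    have e : D * C = (C * D)⁻¹ := by rw [mul_inv_rev, hinvC, hinvD]
    rw [e, inv_pow, ← h.r3, mul_inv_cancel]
  have hrel : ∀ w ∈ HeD.cert.rels, (w.map a).prod = 1 := by
    intro w hw
    simp only [hrels, List.mem_cons, List.not_mem_nil, or_false] at hw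
    have ac := comm_pow h.sA h.sC h.ac
    have ad := comm_pow h.sA h.sD h.ad
    have ae := comm_pow h.sA h.sE h.ae
    have bd := comm_pow h.sB h.sD h.bd
    have be := comm_pow h.sB h.sE h.be
    have ce := comm_pow h.sC h.sE h.ce
    rcases hw with rfl | rfl | rfl | rfl | rfl | rfl | rfl | rfl | rfl | rfl | rfl | rfl | rfl | rfl | rfl | rfl | rfl <;>
      simp only [List.map_cons, List.map_nil, List.prod_cons, List.prod_nil, mul_one, a]
    exacts [h.sA, h.sB, h.sC, h.sD, h.sE, by simpa [pow_succ, mul_assoc] using h.ab,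
      by simpa [pow_succ, mul_assoc] using ac, by simpa [pow_succ, mul_assoc] using ad,
      by simpa [pow_succ, mul_assoc] using ae, by simpa [pow_succ, mul_assoc] using h.bc,
      by simpa [pow_succ, mul_assoc] using bd, by simpa [pow_succ, mul_assoc] using be,
      by simpa [pow_succ, mul_assoc] using h.cd, by simpa [pow_succ, mul_assoc] using ce,
      by simpa [pow_succ, mul_assoc] using h.de, by simpa [pow_succ, mul_assoc] using x2,
      by simpa [pow_succ, mul_assoc] using x3]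
  set Z : Subgroup Δ := Subgroup.zpowers A
  have hZ : Nat.card Z ≤ 2 := by
    rw [Nat.card_zpowers]
    exact Nat.le_of_dvd (by norm_num) (orderOf_dvd_of_pow_eq_one (by rw [sq, h.sA]))
  set S : Subgroup Δ := Subgroup.closure {g | ∃ x ∈ HeD.cert.kl, g = a x}
  obtain ⟨-, hS⟩ := SporBound.Cert.card_le hinv (show a CfsgLib.ThreeTrans.CosetIndex.eqLetter = 1 from rfl) HeD.ok Z S
    hrel (fun w hw => by
      rw [hsubs, List.mem_singleton] at hw
      subst hw
      simp [a, Z]) le_rfl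
  set U : Subgroup Spor.He := Subgroup.closure {g : Spor.He | ∃ x ∈ lettersU, g = el x}
  have hmap : S.map τ = U := by
    rw [MonoidHom.map_closure]
    congr 1
    ext g
    constructor
    · rintro ⟨_, ⟨x, hx, rfl⟩, rfl⟩
      exact ⟨x, hkl ▸ hx, h0 x (hkl ▸ hx)⟩
    · rintro ⟨x, hx, rfl⟩
      exact ⟨a x, ⟨x, hkl.symm ▸ hx, rfl⟩, h0 x hx⟩
  have hcS : Nat.card S ≤ 15120 := by
    rw [hn] at hS
    omega
  have hge : 15120 ≤ Nat.card U := card_five
  have hsurj : Function.Surjective (τ.subgroupMap S) := τ.subgroupMap_surjective S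
  have hle : Nat.card U ≤ Nat.card S := by
    rw [← hmap]
    exact Nat.card_le_card_of_surjective _ hsurj
  have hinjS : Function.Injective (τ.subgroupMap S) :=
    ((Nat.bijective_iff_surjective_and_card _).2 ⟨hsurj, by rw [hmap]; omega⟩).1
  have hU : ∀ (z : Δ) (hz : z ∈ U.comap τ), z ∈ τ.ker →
      (⟨z, hz⟩ : U.comap τ) ∈ commutator (U.comap τ) → z = 1 := by
    intro z hz hk hcom
    have hzS : z ∈ S := by
      have h1 : ⁅U.comap τ, U.comap τ⁆ ≤ S := by
        refine commutator_le τ hc fun u hu => ?_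
        obtain ⟨s, hsS, hsu⟩ : τ u ∈ S.map τ := by rw [hmap]; exact hu
        exact ⟨s, hsS, s⁻¹ * u, by rw [MonoidHom.mem_ker, map_mul, map_inv, hsu, inv_mul_cancel],
          (mul_inv_cancel_left _ _).symm⟩
      apply h1
      have h2 := Subgroup.mem_map_of_mem (U.comap τ).subtype hcom
      rw [commutator_def, Subgroup.map_commutator, ← MonoidHom.range_eq_map, Subgroup.range_subtype] at h2
      exact h2
    exact congrArg Subtype.val (hinjS (a₁ := ⟨z, hzS⟩) (a₂ := 1) (Subtype.ext (hk.trans (map_one τ).symm)))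
  have hidx : U.index = 266560 := by
    have hm := U.card_mul_index
    rw [card_eq, show Nat.card U = 15120 by omega] at hm
    omega
  rw [Subgroup.eq_bot_iff_forall]
  intro z hz
  have h1 := CfsgLib.Known.SL2Mult.pow_index_eq_one τ hτ U hU hz
  have h2 := pow_gcd_eq_one.2 ⟨h1, he _ hz⟩
  rwa [hidx, show Nat.gcd 266560 3 = 1 by norm_num, pow_one] at h2

end CfsgLib.Recog.SporHe.Mult
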