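import Cfsg.Agent.Lib.Recog.SporHe.AutLocal
import Cfsg.Agent.Lib.Recog.SporHe.Centralizer
import Cfsg.Agent.Lib.Recog.SporHe.MultOdd
import Cfsg.Agent.Lib.Recog.SporHe.BaseCheck

set_option autoImplicit false
set_option maxRecDepth 20000

/-!
An outer automorphism of the Held group, and the checks tying its two-central involution centralisers to the
matrix group (owner: helper22).
-/

namespace CfsgLib.Recog.SporHe.Aut

open Cfsg CfsgLib.Recog.SporBound CfsgLib.Recog.SporHe.Mult CfsgLib.Recog.SporHe.Centralizer
  CfsgLib.Recog.SporHe.Base
open CfsgLib.ThreeTrans.CosetIndex (relWords letters hom_eq_prod gen)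

/-- A word in the six as a word in the letters. -/
def heWord (w : List ℕ) : List ℕ := w.flatMap genWord

/-- Images of letters. -/
def image (x : ℕ) : List ℕ := images.getD x []

/-- A word mapped by the outer automorphism. -/
def outerWord (w : List ℕ) : List ℕ := w.flatMap image

/-- The relators up to reversal. -/
def relList : List (List ℕ) :=
  (relWords Spor.He.edges Spor.He.extra gens).foldr (fun w L => if L.contains w || L.contains w.reverse then L else w :: L) []

/-- A relator is sent to the identity. -/
noncomputable def relImageOK (i : ℕ) : Bool := fast (outerWord (relList.getD i [])) []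

theorem relList_length : (relList.length ≤ 32) := by decide +kernel

theorem relList_cover : ((relWords Spor.He.edges Spor.He.extra gens).all fun w =>
    relList.contains w || relList.contains w.reverse) = true := by decide +kernel

theorem rel_image0 : ([0,1,2,3].all relImageOK) = true := by decide +kernel

theorem rel_image1 : ([4,5,6,7].all relImageOK) = true := by decide +kernel

theorem rel_image2 : ([8,9,10,11].all relImageOK) = true := by decide +kernel

theorem rel_image3 : ([12,13,14,15].all relImageOK) = true := by decide +kernel

theorem rel_image4 : ([16,17,18,19].all relImageOK) = true := by decide +kernel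

theorem rel_image5 : ([20,21,22,23].all relImageOK) = true := by decide +kernel

theorem rel_image6 : ([24,25,26,27].all relImageOK) = true := by decide +kernel

theorem rel_image7 : ([28,29,30,31].all relImageOK) = true := by decide +kernel

theorem rel_image {w : List ℕ} (hw : w ∈ relList) : fast (outerWord w) [] = true := by
  obtain ⟨i, hi, rfl⟩ := List.getElem_of_mem hw
  have h32 : i < 32 := lt_of_lt_of_le hi relList_length
  have h : relImageOK i = true := by
    rcases (show i / 4 = 0 ∨ i / 4 = 1 ∨ i / 4 = 2 ∨ i / 4 = 3 ∨ i / 4 = 4 ∨ i / 4 = 5 ∨ i / 4 = 6 ∨ i / 4 = 7 by omega)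
      with h | h | h | h | h | h | h | h
    · exact List.all_eq_true.1 rel_image0 i (by simp only [List.mem_cons, List.not_mem_nil, or_false]; omega)
    · exact List.all_eq_true.1 rel_image1 i (by simp only [List.mem_cons, List.not_mem_nil, or_false]; omega)
    · exact List.all_eq_true.1 rel_image2 i (by simp only [List.mem_cons, List.not_mem_nil, or_false]; omega)
    · exact List.all_eq_true.1 rel_image3 i (by simp only [List.mem_cons, List.not_mem_nil, or_false]; omega)
    · exact List.all_eq_true.1 rel_image4 i (by simp only [List.mem_cons, List.not_mem_nil, or_false]; omega)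
    · exact List.all_eq_true.1 rel_image5 i (by simp only [List.mem_cons, List.not_mem_nil, or_false]; omega)
    · exact List.all_eq_true.1 rel_image6 i (by simp only [List.mem_cons, List.not_mem_nil, or_false]; omega)
    · exact List.all_eq_true.1 rel_image7 i (by simp only [List.mem_cons, List.not_mem_nil, or_false]; omega)
  rwa [relImageOK, List.getD_eq_getElem _ _ hi] at h

theorem image_sq : ((List.range 7).all fun x => fast (image x ++ image x) []) = true := by decide +kernel

theorem word_checks : (fast (heWord wD) [3] && (fast (heWord wU) (wordH.reverse ++ [3] ++ wordH) &&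
    (fast (outerWord [3]) [3] && (fast (outerWord (heWord wX)) (heWord wX) &&
      (fast (outerWord (heWord wY)) (heWord wY2) &&
        fast (wordH ++ [3] ++ wordH.reverse ++ [3]) ([3] ++ (wordH ++ [3] ++ wordH.reverse))))))) = true := by
  decide +kernel

theorem class_checks : ((List.range 8).all fun i =>
    fast ((classes.getD i (0, [], [])).2.1 ++ [if kindOf i = 1 then 3 else 0])
      (heWord (repWord i) ++ (classes.getD i (0, [], [])).2.1)) = true := by decide +kernel

theorem comm_three : ([0, 1].all fun x => fast [x, 3] [3, x]) = true := by decide +kernel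

theorem comm_zero : (lettersL.all fun x => fast [0, x] [x, 0]) = true := by decide +kernel

/-- A word of twelve symbols: the six, then their conjugates. -/
def twelve (k : ℕ) : List ℕ := if k < 6 then genWord k else wordH ++ genWord (k - 6) ++ wordH.reverse

theorem letters_checks : ((List.range 4).all fun i =>
    fast [[2, 4, 5, 6].getD i 0] ((lettersFrom.getD i []).flatMap twelve) &&
      (lettersFrom.getD i []).all fun k => Nat.blt k 12) = true := by decide +kernel

theorem centU_comm : (centU.all fun w =>
    Nat.beq (mulE (code (expand 0 w)) (code wU)) (mulE (code wU) (code (expand 0 w)))) = true := by decide +kernel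

theorem val_reverse (w : List ℕ) : val w.reverse = (val w)⁻¹ := by
  induction w with
  | nil => simp [val]
  | cons x w ih =>
    rw [List.reverse_cons, val_append, ih, val_single, show x :: w = [x] ++ w from rfl, val_append, val_single,
      mul_inv_rev, el_inv]

theorem image_el (x : ℕ) : val (image x) * val (image x) = 1 := by
  rcases Nat.lt_or_ge x 7 with h | h
  · have e := eq_of_fast (List.all_eq_true.1 image_sq x (List.mem_range.2 h))
    rwa [val_append, val_nil] at e
  · rw [image, List.getD_eq_default _ _ (by
      have : images.length = 7 := by decide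
      omega), val_nil, one_mul]

theorem val_outerWord : ∀ w : List ℕ, val (outerWord w) = (w.map fun x => val (image x)).prod
  | [] => rfl
  | x :: w => by
    rw [outerWord, List.flatMap_cons, val_append, ← outerWord, val_outerWord w, List.map_cons, List.prod_cons]

/-- The outer endomorphism. -/
noncomputable def outerHom : Spor.He →* Spor.He :=
  PresentedGroup.toGroup (f := fun y => val (image (gens.idxOf y))) fun r hr => by
    rw [hom_eq_prod gens (FreeGroup.lift fun y => val (image (gens.idxOf y))) (fun x => val (image x))
      (fun y => FreeGroup.lift_apply_of) image_el r, ← val_outerWord]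
    have hmem : letters gens r ∈ relWords Spor.He.edges Spor.He.extra gens := by
      rw [relWords, List.mem_append]
      rcases hr with ⟨x, hx, y, hy, rfl⟩ | hr
      · exact .inl (List.mem_flatMap.2 ⟨x, hx, List.mem_map.2 ⟨y, hy, rfl⟩⟩)
      · exact .inr (List.mem_map.2 ⟨r, hr, rfl⟩)
    have h := List.all_eq_true.1 relList_cover _ hmem
    rw [Bool.or_eq_true, List.contains_iff_mem, List.contains_iff_mem] at h
    rcases h with h | h
    · exact eq_of_fast (rel_image h)
    · have e := eq_of_fast (rel_image h)
      rw [val_nil] at e
      rw [val_outerWord] at e ⊢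
      rw [List.map_reverse] at e
      have key : ∀ L : List Spor.He, (∀ g ∈ L, g * g = 1) → L.reverse.prod = L.prod⁻¹ := by
        intro L
        induction L with
        | nil => intro _; simp
        | cons g L ih =>
          intro hL
          rw [List.reverse_cons, List.prod_append, List.prod_cons, List.prod_cons, List.prod_nil, mul_one,
            ih fun x hx => hL x (List.mem_cons_of_mem _ hx), mul_inv_rev,
            inv_eq_of_mul_eq_one_right (hL g List.mem_cons_self)]
      rw [key _ (fun g hg => by
        obtain ⟨x, -, rfl⟩ := List.mem_map.1 hg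
        exact image_el x), inv_eq_one] at e
      exact e

theorem outerHom_el (x : ℕ) : outerHom (el x) = val (image x) := by
  rcases Nat.lt_or_ge x gens.length with h | h
  · have e : el x = PresentedGroup.of gens[x] := by
      show gen _ _ _ x = _
      rw [gen, List.getElem?_eq_getElem h]
      rfl
    rw [e, outerHom, PresentedGroup.toGroup.of, List.Nodup.idxOf_getElem fits.nodup x h]
  · have e : el x = 1 := by
      show gen _ _ _ x = _
      rw [gen, List.getElem?_eq_none h]
      rfl
    rw [e, map_one, image, List.getD_eq_default _ _ (by
      have h1 : images.length = 7 := by decide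
      have h2 : gens.length = 7 := rfl
      omega), val_nil]

theorem outerHom_val : ∀ w : List ℕ, outerHom (val w) = val (outerWord w)
  | [] => map_one _
  | x :: w => by
    rw [show x :: w = [x] ++ w from rfl, val_append, map_mul, val_single, outerHom_el, outerHom_val w,
      show outerWord ([x] ++ w) = image x ++ outerWord w from List.flatMap_cons, val_append]

theorem el_three_ne_one : el 3 ≠ 1 := fun h =>
  ne_of_trace ⟨2, by decide +kernel⟩ (u := [3]) (w := []) (by decide +kernel) (by simpa using h)

theorem outerHom_three : outerHom (el 3) = el 3 := by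
  have h := word_checks
  simp only [Bool.and_eq_true] at h
  rw [← val_single, outerHom_val, eq_of_fast h.2.2.1]

theorem outerHom_bijective : Function.Bijective outerHom := by
  haveI := isSimple
  have hker : outerHom.ker = ⊥ := by
    rcases (MonoidHom.normal_ker outerHom).eq_bot_or_eq_top with h | h
    · exact h
    · exfalso
      refine el_three_ne_one ?_
      rw [← outerHom_three]
      exact MonoidHom.mem_ker.1 (h ▸ Subgroup.mem_top _)
  exact Finite.injective_iff_bijective.1 ((MonoidHom.ker_eq_bot_iff _).1 hker)

/-- The outer automorphism. -/
noncomputable def outerAut : MulAut Spor.He := MulEquiv.ofBijective outerHom outerHom_bijective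

theorem outerAut_apply (g : Spor.He) : outerAut g = outerHom g := rfl

theorem genWord_mem_cent {x : ℕ} (hx : x < 6) : val (genWord x) ∈ cent := by
  refine Subgroup.mem_centralizer_singleton_iff.2 ?_
  have h := eq_of_same (List.all_eq_true.1 genWords_comm (genWord x) (by
    have hlen : genWords.length = 6 := by decide
    show genWords.getD x [] ∈ genWords
    rw [List.getD_eq_getElem _ _ (by omega)]
    exact List.getElem_mem _))
  rwa [val_append, val_append, val_single] at h

theorem heWord_mem_cent {w : List ℕ} (hw : ∀ x ∈ w, x < 6) : val (heWord w) ∈ cent := by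
  induction w with
  | nil => exact one_mem _
  | cons x w ih =>
    rw [heWord, List.flatMap_cons, val_append]
    exact mul_mem (genWord_mem_cent (hw x List.mem_cons_self)) (ih fun y hy => hw y (List.mem_cons_of_mem _ hy))

/-- The identification, on words. -/
theorem exists_ident : ∃ e : ↥cent ≃* CT, ∀ w, ∀ hw : (∀ x ∈ w, x < 6),
    e ⟨val (heWord w), heWord_mem_cent hw⟩ = cel w := by
  obtain ⟨e, he⟩ := exists_iso s₀ hs₀
  refine ⟨e, ?_⟩
  intro w
  induction w with
  | nil =>
    intro hw
    rw [show (⟨val (heWord []), heWord_mem_cent hw⟩ : cent) = 1 from Subtype.ext rfl, map_one]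
    exact (Subtype.ext (by rw [cel_val (by simp)]; simp [mval])).symm
  | cons x w ih =>
    intro hw
    have hx : x < 6 := hw x List.mem_cons_self
    have hw' : ∀ y ∈ w, y < 6 := fun y hy => hw y (List.mem_cons_of_mem _ hy)
    rw [show (⟨val (heWord (x :: w)), heWord_mem_cent hw⟩ : cent) =
        ⟨val (genWord x), genWord_mem_cent hx⟩ * ⟨val (heWord w), heWord_mem_cent hw'⟩ from
          Subtype.ext (by show val ((x :: w).flatMap genWord) = _; rw [List.flatMap_cons, val_append]; rfl),
      map_mul, ih hw', show x :: w = [x] ++ w from rfl, cel_append (by simpa using hx) hw']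
    congr 1
    refine Subtype.ext ?_
    rw [he x hx, cel_val (by simpa using hx)]
    simp [mval]

theorem card_cent : Nat.card cent = 21504 :=
  le_antisymm Centralizer.card_le (Centralizer.le_card fun _ hx => genWord_mem_cent hx)

theorem not_isConj : ¬∃ h : Spor.He, h * el 0 * h⁻¹ = el 3 := by
  rintro ⟨h, hh⟩
  set A : Subgroup Spor.He := Subgroup.centralizer ({el 0} : Set Spor.He)
  have hle : Subgroup.closure {g : Spor.He | ∃ x ∈ lettersL, g = el x} ≤ A := by
    rw [Subgroup.closure_le]
    rintro _ ⟨x, hx, rfl⟩
    refine Subgroup.mem_centralizer_singleton_iff.2 ?_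
    have e := eq_of_fast (List.all_eq_true.1 comm_zero x hx)
    simp [val] at e
    exact e.symm
  have hmap : A.map (MulAut.conj h).toMonoidHom ≤ cent := by
    rintro _ ⟨a, ha, rfl⟩
    refine Subgroup.mem_centralizer_singleton_iff.2 ?_
    show h * a * h⁻¹ * el 3 = el 3 * (h * a * h⁻¹)
    rw [← hh]
    calc h * a * h⁻¹ * (h * el 0 * h⁻¹) = h * (a * el 0) * h⁻¹ := by group
      _ = h * (el 0 * a) * h⁻¹ := by rw [Subgroup.mem_centralizer_singleton_iff.1 ha]
      _ = _ := by group
  have h1 := Subgroup.card_le_of_le hle
  have h2 := Subgroup.card_le_of_le hmap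
  rw [Subgroup.card_map_of_injective (MulAut.conj h).injective] at h2
  rw [Mult.card_L_eq] at h1
  rw [card_cent] at h2
  omega

end CfsgLib.Recog.SporHe.Aut
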