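import Cfsg.Agent.Lib.Recog.SporHe.MultBasic

set_option autoImplicit false
set_option maxRecDepth 20000

/-!
Lifts satisfying the relators of the Held presentation split a stem extension (owner: helper22).
-/

namespace CfsgLib.Recog.SporHe.Mult

open Cfsg

variable {Δ : Type*} [Group Δ] (τ : Δ →* Spor.He)

/-- Lifts of the seven generators satisfying all relators. -/
structure IsLift (A B C D E F G : Δ) : Prop where
  mA : τ A = el 0
  mB : τ B = el 1
  mC : τ C = el 2
  mD : τ D = el 3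
  mE : τ E = el 4
  mF : τ F = el 5
  mG : τ G = el 6
  sA : A * A = 1
  sB : B * B = 1
  sC : C * C = 1
  sD : D * D = 1
  sE : E * E = 1
  sF : F * F = 1
  sG : G * G = 1
  ac : Commute A C
  ad : Commute A D
  ae : Commute A E
  af : Commute A F
  ag : Commute A G
  bd : Commute B D
  be : Commute B E
  bf : Commute B F
  bg : Commute B G
  ce : Commute C E
  cf : Commute C F
  cg : Commute C G
  ef : Commute E F
  eg : Commute E G
  ab : (A * B) ^ 4 = 1
  bc : (B * C) ^ 3 = 1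
  cd : (C * D) ^ 10 = 1
  de : (D * E) ^ 3 = 1
  df : (D * F) ^ 3 = 1
  fg : (F * G) ^ 4 = 1
  gd : (D * G) ^ 3 = 1
  r1 : E = (F * G) ^ 2
  r2 : E = (A * B * C) ^ 3
  r3 : A = (C * D) ^ 5
  r4 : (C * D * F * G) ^ 4 = 1

theorem swap_pow {X Y : Δ} {n : ℕ} (h : (X * Y) ^ n = 1) : (Y * X) ^ n = 1 := by
  rw [show Y * X = X⁻¹ * (X * Y) * X⁻¹⁻¹ by group, conj_pow, h, mul_one, mul_inv_cancel]

theorem comm_pow {X Y : Δ} (hX : X * X = 1) (hY : Y * Y = 1) (h : Commute X Y) : (X * Y) ^ 2 = 1 := by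
  rw [h.mul_pow, sq, sq, hX, hY, one_mul]

theorem el_of (y : Spor.He.Gen) :
    el (gens.idxOf y) = (PresentedGroup.of y : Spor.He) := SporBound.gen_of nodes y

theorem ker_eq_bot {A B C D E F G : Δ} (h : IsLift τ A B C D E F G) (hc : τ.ker ≤ Subgroup.center Δ)
    (hd : τ.ker ≤ commutator Δ) : τ.ker = ⊥ := by
  let f : Spor.He.Gen → Δ := fun
    | .a => A | .b => B | .c => C | .d => D | .e => E | .f => F | .g => G
  have hf : ∀ r ∈ Spor.coxRelators Spor.He.edges ∪ {r | r ∈ Spor.He.extra}, FreeGroup.lift f r = 1 := by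
    rintro r (⟨x, -, y, -, rfl⟩ | hr)
    · rw [map_pow, map_mul, FreeGroup.lift_apply_of, FreeGroup.lift_apply_of]
      cases x <;> cases y <;> simp [f, Spor.coxLabel, Spor.He.edges, h.sA, h.sB, h.sC, h.sD, h.sE, h.sF, h.sG,
        h.ab, h.bc, h.cd, h.de, h.df, h.fg, h.gd, swap_pow h.ab, swap_pow h.bc, swap_pow h.cd, swap_pow h.de,
        swap_pow h.df, swap_pow h.fg, swap_pow h.gd, comm_pow h.sA h.sC h.ac, comm_pow h.sA h.sD h.ad,
        comm_pow h.sA h.sE h.ae, comm_pow h.sA h.sF h.af, comm_pow h.sA h.sG h.ag, comm_pow h.sB h.sD h.bd,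
        comm_pow h.sB h.sE h.be, comm_pow h.sB h.sF h.bf, comm_pow h.sB h.sG h.bg, comm_pow h.sC h.sE h.ce,
        comm_pow h.sC h.sF h.cf, comm_pow h.sC h.sG h.cg, comm_pow h.sE h.sF h.ef, comm_pow h.sE h.sG h.eg,
        comm_pow h.sC h.sA h.ac.symm, comm_pow h.sD h.sA h.ad.symm, comm_pow h.sE h.sA h.ae.symm,
        comm_pow h.sF h.sA h.af.symm, comm_pow h.sG h.sA h.ag.symm, comm_pow h.sD h.sB h.bd.symm,
        comm_pow h.sE h.sB h.be.symm, comm_pow h.sF h.sB h.bf.symm, comm_pow h.sG h.sB h.bg.symm,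
        comm_pow h.sE h.sC h.ce.symm, comm_pow h.sF h.sC h.cf.symm, comm_pow h.sG h.sC h.cg.symm,
        comm_pow h.sF h.sE h.ef.symm, comm_pow h.sG h.sE h.eg.symm]
    · simp only [Spor.He.extra, Set.mem_setOf_eq, List.mem_cons, List.not_mem_nil, or_false] at hr
      rcases hr with rfl | rfl | rfl | rfl
      · simp only [map_mul, map_inv, map_pow, FreeGroup.lift_apply_of, f]
        rw [← h.r1, mul_inv_cancel]
      · simp only [map_mul, map_inv, map_pow, FreeGroup.lift_apply_of, f]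
        rw [← h.r2, mul_inv_cancel]
      · simp only [map_mul, map_inv, map_pow, FreeGroup.lift_apply_of, f]
        rw [← h.r3, mul_inv_cancel]
      · simp only [map_mul, map_pow, FreeGroup.lift_apply_of, f]
        exact h.r4
  let ψ : Spor.He →* Δ := PresentedGroup.toGroup hf
  have hψ : τ.comp ψ = MonoidHom.id _ := by
    refine PresentedGroup.ext fun x => ?_
    rw [MonoidHom.comp_apply, PresentedGroup.toGroup.of, MonoidHom.id_apply, ← el_of]
    cases x <;> first
      | exact h.mA | exact h.mB | exact h.mC | exact h.mD | exact h.mE | exact h.mF | exact h.mG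
  have key : commutator Δ ≤ ψ.range := by
    rw [commutator_def]
    refine commutator_le τ hc fun u _ => ⟨ψ (τ u), ⟨_, rfl⟩, (ψ (τ u))⁻¹ * u, ?_, (mul_inv_cancel_left _ _).symm⟩
    rw [MonoidHom.mem_ker, map_mul, map_inv, show τ (ψ (τ u)) = τ u from DFunLike.congr_fun hψ _, inv_mul_cancel]
  rw [Subgroup.eq_bot_iff_forall]
  intro z hz
  obtain ⟨y, rfl⟩ := key (hd hz)
  have : y = 1 := (DFunLike.congr_fun hψ y).symm.trans hz
  rw [this, map_one]

end CfsgLib.Recog.SporHe.Mult
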