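import Cfsg.Agent.Lib.Recog.SporHe.AutCode
import Cfsg.Agent.Lib.Recog.SporHe.AutData

set_option autoImplicit false
set_option maxRecDepth 20000

/-!
Checks inside the centraliser of a transvection for the automorphisms of the Held group (owner: helper22).
-/

namespace CfsgLib.Recog.SporHe.Aut

open CfsgLib.Recog.SporHe.Centralizer

/-- Powers of a code. -/
noncomputable def powE (e : ℕ) (n : ℕ) : ℕ := Nat.rec oneE (fun _ ih => force ih (mulE e)) n

/-- The two choices for the second generator. -/
def wYof (ε : ℕ) : List ℕ := if ε = 0 then wY else wY2

/-- A word in the two as a word in the six. -/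
def expand (ε : ℕ) (w : List ℕ) : List ℕ := w.flatMap fun k => if k = 0 then wX else wYof ε

/-- The word of the centre. -/
def wD : List ℕ := [4, 5, 4, 5]

/-- The representative of a class. -/
def repWord (i : ℕ) : List ℕ := (classes.getD i (0, [], [])).2.2

/-- The kind of a class. -/
def kindOf (i : ℕ) : ℕ := (classes.getD i (0, [], [])).1

/-- The properties used to recognise the pair of generators. -/
noncomputable def profile (x y : ℕ) : Bool :=
  force (mulE x y) fun p => force (mulE x (mulE y y)) fun t =>
    Nat.beq (powE p 8) oneE && (!Nat.beq (powE p 4) oneE &&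
      (Nat.beq (powE t 12) oneE && (!Nat.beq (powE t 6) oneE && !Nat.beq (powE t 4) oneE)))

/-- An involution is conjugate to a representative. -/
noncomputable def invOK (e₀ : ℕ) : Bool :=
  force e₀ fun e => cond (Nat.beq (mulE e e) oneE && !Nat.beq e oneE)
    (invols.any fun p => Nat.beq p.1 e && (Nat.blt p.2.2 8 &&
      Nat.beq (mulE (code p.2.1) (code (repWord p.2.2))) (mulE e (code p.2.1))))
    true

/-- A suitable second generator is conjugate to one of the two. -/
noncomputable def pairOK (e₀ : ℕ) : Bool :=
  force e₀ fun e => cond (Nat.beq (powE e 7) oneE && !Nat.beq e oneE)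
    ((List.range 8).all fun i => cond (Nat.beq (kindOf i) 1 && force (code (repWord i)) (fun x => profile x e))
      (Nat.beq i classX && matches_.any fun p => Nat.beq p.1 e && (Nat.blt p.2.2 2 &&
        (Nat.beq (mulE (code p.2.1) (code wX)) (mulE (code wX) (code p.2.1)) &&
          Nat.beq (mulE (code p.2.1) (code (wYof p.2.2))) (mulE e (code p.2.1)))))
      true)
    true

/-- An element inducing on one centraliser the identity or the outer automorphism. -/
noncomputable def fixOK (e₀ : ℕ) : Bool :=
  force e₀ fun e =>
  (cond (centU.all fun w => Nat.beq (mulE e (code (expand 1 w))) (mulE (code (expand 0 w)) e)) false true) &&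
    cond (centU.all fun w => Nat.beq (mulE e (code (expand 0 w))) (mulE (code (expand 0 w)) e))
      ([[], wD, wU, wD ++ wU].any fun w => Nat.beq e (code w)) true

/-- No element induces the outer automorphism. -/
noncomputable def outerOK (e₀ : ℕ) : Bool :=
  force e₀ fun e => !(Nat.beq (mulE e (code wX)) (mulE (code wX) e) && Nat.beq (mulE e (code wY)) (mulE (code wY2) e))

/-- The number of listed involutions of a class. -/
def classSize (i : ℕ) : ℕ := (invols.filter fun p => Nat.beq p.2.2 i).length

/-- Increasing first entries. -/
def increasing : List (ℕ × List ℕ × ℕ) → Bool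
  | [] => true
  | [_] => true
  | p :: q :: l => Nat.blt p.1 q.1 && increasing (q :: l)

/-- An entry of the list of involutions is right. -/
def entryOK (p : ℕ × List ℕ × ℕ) : Bool :=
  Nat.beq (code (p.2.1 ++ repWord p.2.2 ++ p.2.1.reverse)) p.1

theorem six_ok : ((List.range 6).all fun k =>
    Nat.beq (code (expand 0 (sixInTwo.getD k []))) (code [k])) = true := by decide +kernel

theorem pair_self : (Nat.beq (powE (code wX) 2) oneE && (Nat.beq (powE (code wY) 7) oneE &&
    (!Nat.beq (code wY) oneE && (profile (code wX) (code wY) &&
      Nat.beq (code (repWord classX)) (code wX))))) = true := by decide +kernel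

theorem rep_centre : (Nat.beq (code (repWord 7)) (code wD) && !Nat.beq (code wX) (code wD)) = true := by
  decide +kernel

theorem order_three : ([2, 3].all fun i =>
    Nat.beq (mulE (code [0, 1]) (code (repWord i))) (mulE (code (repWord i)) (code [0, 1]))) = true := by
  decide +kernel

theorem three_ok : (Nat.beq (powE (code [0, 1]) 3) oneE && !Nat.beq (code [0, 1]) oneE) = true := by decide +kernel

theorem sizes_ok : ((List.range 7).all fun i =>
    Nat.beq (classSize i) ([42, 84, 14, 14, 84, 168, 168].getD i 0)) = true := by decide +kernel

theorem entries_ok : invols.all entryOK = true := by decide +kernel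

theorem increasing_ok : increasing invols = true := by decide +kernel

end CfsgLib.Recog.SporHe.Aut
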