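import Cfsg.Agent.Lib.Recog.SporHe.AutChecks

set_option autoImplicit false
set_option maxRecDepth 20000

/-!
Exhaustive check `fixOK` over the centraliser of a transvection (owner: helper22).
-/

namespace CfsgLib.Recog.SporHe.Aut

open CfsgLib.Recog.SporHe.Centralizer

theorem fix_c0 : chunkC fixOK 0 = true := by decide +kernel

theorem fix_c1 : chunkC fixOK 1 = true := by decide +kernel

theorem fix_c2 : chunkC fixOK 2 = true := by decide +kernel

theorem fix_c3 : chunkC fixOK 3 = true := by decide +kernel

theorem fix_c4 : chunkC fixOK 4 = true := by decide +kernel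

theorem fix_c5 : chunkC fixOK 5 = true := by decide +kernel

theorem fix_c6 : chunkC fixOK 6 = true := by decide +kernel

theorem fix_c7 : chunkC fixOK 7 = true := by decide +kernel

theorem fix_ok : forallC fixOK = true := forallC_of_chunks fun k hk => by
  interval_cases k
  · exact fix_c0
  · exact fix_c1
  · exact fix_c2
  · exact fix_c3
  · exact fix_c4
  · exact fix_c5
  · exact fix_c6
  · exact fix_c7

end CfsgLib.Recog.SporHe.Aut
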