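import Cfsg.Agent.Lib.Recog.SporHe.AutChecks

set_option autoImplicit false
set_option maxRecDepth 20000

/-!
Exhaustive check `invOK` over the centraliser of a transvection (owner: helper22).
-/

namespace CfsgLib.Recog.SporHe.Aut

open CfsgLib.Recog.SporHe.Centralizer

theorem inv_c0 : chunkC invOK 0 = true := by decide +kernel

theorem inv_c1 : chunkC invOK 1 = true := by decide +kernel

theorem inv_c2 : chunkC invOK 2 = true := by decide +kernel

theorem inv_c3 : chunkC invOK 3 = true := by decide +kernel

theorem inv_c4 : chunkC invOK 4 = true := by decide +kernel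

theorem inv_c5 : chunkC invOK 5 = true := by decide +kernel

theorem inv_c6 : chunkC invOK 6 = true := by decide +kernel

theorem inv_c7 : chunkC invOK 7 = true := by decide +kernel

theorem inv_ok : forallC invOK = true := forallC_of_chunks fun k hk => by
  interval_cases k
  · exact inv_c0
  · exact inv_c1
  · exact inv_c2
  · exact inv_c3
  · exact inv_c4
  · exact inv_c5
  · exact inv_c6
  · exact inv_c7

end CfsgLib.Recog.SporHe.Aut
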