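import Cfsg.Agent.Lib.Recog.SporHe.CentMatrix

set_option autoImplicit false
set_option maxRecDepth 20000
set_option synthInstance.maxSize 2000
set_option synthInstance.maxHeartbeats 400000

/-!
Matrices of size five over two elements as numbers, and a list of all codes in the centraliser of a
transvection (owner: helper22).
-/

namespace CfsgLib.Recog.SporHe.Centralizer

open scoped Matrix

/-- A column of a code. -/
def col (e j : ℕ) : ℕ := Nat.land (Nat.shiftRight e (Nat.mul 5 j)) 31

theorem col_eq (e j : ℕ) : col e j = e / 32 ^ j % 32 := by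
  show (e >>> (5 * j)) &&& (2 ^ 5 - 1) = _
  rw [Nat.and_two_pow_sub_one_eq_mod, Nat.shiftRight_eq_div_pow, pow_mul]
  norm_num

/-- A value computed before it is used. -/
noncomputable def force {α : Type} (x : ℕ) (f : ℕ → α) : α := Nat.rec (f 0) (fun n _ => f (Nat.succ n)) x

theorem force_eq {α : Type} (x : ℕ) (f : ℕ → α) : force x f = f x := by cases x <;> rfl

/-- A bit. -/
def bit1 (v j : ℕ) : Bool := Nat.beq (Nat.land (Nat.shiftRight v j) 1) 1

theorem bit1_eq (v j : ℕ) : bit1 v j = v.testBit j := by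
  have h : Nat.land (Nat.shiftRight v j) 1 = (v >>> j) % 2 := Nat.and_one_is_mod _
  rw [bit1, h, Nat.testBit_eq_decide_div_mod_eq, ← Nat.shiftRight_eq_div_pow]
  rcases Nat.mod_two_eq_zero_or_one (v >>> j) with e | e <;> simp [e] <;> rfl

/-- Code from the columns. -/
def packCols (c : ℕ → ℕ) : ℕ :=
  Nat.add (c 0) (Nat.mul 32 (Nat.add (c 1) (Nat.mul 32 (Nat.add (c 2) (Nat.mul 32 (Nat.add (c 3) (Nat.mul 32 (c 4))))))))

theorem packCols_eq (c : ℕ → ℕ) : packCols c = c 0 + 32 * (c 1 + 32 * (c 2 + 32 * (c 3 + 32 * c 4))) := rfl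

/-- The image of a bit vector. -/
def app (e v : ℕ) : ℕ :=
  Nat.xor (Nat.xor (Nat.xor (Nat.xor (cond (bit1 v 0) (col e 0) 0) (cond (bit1 v 1) (col e 1) 0))
    (cond (bit1 v 2) (col e 2) 0)) (cond (bit1 v 3) (col e 3) 0)) (cond (bit1 v 4) (col e 4) 0)

theorem app_eq (e v : ℕ) : app e v =
  cond (v.testBit 0) (col e 0) 0 ^^^ cond (v.testBit 1) (col e 1) 0 ^^^ cond (v.testBit 2) (col e 2) 0 ^^^
    cond (v.testBit 3) (col e 3) 0 ^^^ cond (v.testBit 4) (col e 4) 0 := by
  simp only [app, bit1_eq]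
  rfl

/-- Product of codes. -/
def mulE (e f : ℕ) : ℕ := packCols fun j => app e (col f j)

/-- Code of a product of transvections. -/
def code (w : List ℕ) : ℕ := packCols fun j => w.foldr step (2 ^ j)

/-- Code of the identity. -/
def oneE : ℕ := packCols fun j => 2 ^ j

theorem col_lt (e j : ℕ) : col e j < 32 := col_eq e j ▸ Nat.mod_lt _ (by norm_num)

theorem col_packCols {c : ℕ → ℕ} (h : ∀ j < 5, c j < 32) {j : ℕ} (hj : j < 5) : col (packCols c) j = c j := by
  have := h 0 (by norm_num); have := h 1 (by norm_num); have := h 2 (by norm_num)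
  have := h 3 (by norm_num); have := h 4 (by norm_num)
  rw [col_eq, packCols_eq]
  interval_cases j <;> norm_num <;> omega

theorem step_lt (x : ℕ) {v : ℕ} (h : v < 32) : step x v < 32 := by
  unfold step
  split
  · exact Nat.xor_lt_two_pow (n := 5) h (Nat.pow_lt_pow_right (by norm_num) (rowOf x).2)
  · exact h

theorem foldr_step_lt : ∀ (w : List ℕ) {v : ℕ}, v < 32 → w.foldr step v < 32
  | [], _, h => h
  | x :: w, _, h => step_lt x (foldr_step_lt w h)

theorem app_lt (e v : ℕ) : app e v < 32 := by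
  have h : ∀ b : Bool, ∀ j : ℕ, cond b (col e j) 0 < 2 ^ 5 := fun b j => by
    cases b
    · norm_num
    · exact col_lt e j
  rw [app_eq]
  exact Nat.xor_lt_two_pow (Nat.xor_lt_two_pow (Nat.xor_lt_two_pow (Nat.xor_lt_two_pow (h _ 0) (h _ 1)) (h _ 2))
    (h _ 3)) (h _ 4)

theorem dec_xor (a b : ℕ) : dec (a ^^^ b) = dec a + dec b := by
  funext i
  simp only [dec, Nat.testBit_xor, Pi.add_apply]
  cases a.testBit i.val <;> cases b.testBit i.val <;> decide

theorem dec_inj : ∀ a < 32, ∀ b < 32, dec a = dec b → a = b := by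
  intro a ha b hb h
  refine Nat.eq_of_testBit_eq fun i => ?_
  rcases Nat.lt_or_ge i 5 with hi | hi
  · have := congrFun h ⟨i, hi⟩
    simp only [dec] at this
    cases h1 : a.testBit i <;> cases h2 : b.testBit i <;> simp_all
  · have h2 : (32 : ℕ) ≤ 2 ^ i := le_trans (by norm_num) (Nat.pow_le_pow_right (by norm_num) hi)
    rw [Nat.testBit_eq_false_of_lt (by omega), Nat.testBit_eq_false_of_lt (by omega)]

/-- The code of a matrix. -/
noncomputable def enc (M : Matrix (Fin 5) (Fin 5) (ZMod 2)) : ℕ :=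
  packCols fun j => if hj : j < 5 then Nat.ofBits fun i : Fin 5 => decide (M i ⟨j, hj⟩ = 1) else 0

theorem enc_col_lt (M : Matrix (Fin 5) (Fin 5) (ZMod 2)) (j : ℕ) :
    (if hj : j < 5 then Nat.ofBits fun i : Fin 5 => decide (M i ⟨j, hj⟩ = 1) else 0) < 32 := by
  split
  · exact Nat.ofBits_lt_two_pow _
  · norm_num

theorem dec_col_enc (M : Matrix (Fin 5) (Fin 5) (ZMod 2)) (j : Fin 5) :
    dec (col (enc M) j.val) = fun i => M i j := by
  rw [enc, col_packCols (fun k _ => enc_col_lt M k) j.2, dif_pos j.2]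
  funext i
  simp only [dec, Nat.testBit_ofBits_lt _ _ i.2]
  rcases (show ∀ z : ZMod 2, z = 0 ∨ z = 1 by decide) (M i j) with h | h <;> simp [h]

theorem eq_pack_cols {c : ℕ → ℕ} (hc : ∀ j < 5, c j < 32) {c' : ℕ → ℕ} (hc' : ∀ j < 5, c' j < 32)
    (h : ∀ j : Fin 5, dec (c j) = dec (c' j)) : packCols c = packCols c' := by
  have key : ∀ j < 5, c j = c' j := fun j hj => dec_inj _ (hc j hj) _ (hc' j hj) (h ⟨j, hj⟩)
  simp only [packCols_eq, key 0 (by norm_num), key 1 (by norm_num), key 2 (by norm_num), key 3 (by norm_num),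
    key 4 (by norm_num)]

theorem enc_eq {M : Matrix (Fin 5) (Fin 5) (ZMod 2)} {c : ℕ → ℕ} (hc : ∀ j < 5, c j < 32)
    (h : ∀ i j : Fin 5, dec (c j) i = M i j) : enc M = packCols c := by
  refine eq_pack_cols (fun k _ => enc_col_lt M k) hc fun j => ?_
  funext i
  have e := congrFun (dec_col_enc M j) i
  rw [enc, col_packCols (fun k _ => enc_col_lt M k) j.2] at e
  rw [h i j]
  exact e

theorem enc_mval (w : List ℕ) : enc (mval w : Matrix (Fin 5) (Fin 5) (ZMod 2)) = code w :=
  enc_eq (fun j hj => foldr_step_lt w (Nat.pow_lt_pow_right (by norm_num) hj)) fun i j => (mval_apply w i j).symm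

theorem enc_one : enc (1 : Matrix (Fin 5) (Fin 5) (ZMod 2)) = oneE := by
  rw [← Matrix.SpecialLinearGroup.coe_one, show (1 : Matrix.SpecialLinearGroup (Fin 5) (ZMod 2)) = mval [] from rfl,
    enc_mval]
  rfl

theorem enc_injective {M N : Matrix (Fin 5) (Fin 5) (ZMod 2)} (h : enc M = enc N) : M = N := by
  ext i j
  have hM := congrFun (dec_col_enc M j) i
  rw [h, congrFun (dec_col_enc N j) i] at hM
  exact hM.symm

theorem dec_app (M : Matrix (Fin 5) (Fin 5) (ZMod 2)) (v : ℕ) : dec (app (enc M) v) = M *ᵥ dec v := by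
  funext i
  have key : ∀ j : Fin 5, dec (cond (v.testBit j.val) (col (enc M) j.val) 0) i = M i j * dec v j := by
    intro j
    cases hv : v.testBit j.val
    · simp [dec, hv]
    · rw [cond_true, dec_col_enc]
      simp [dec, hv]
  have k0 := key 0
  have k1 := key 1
  have k2 := key 2
  have k3 := key 3
  have k4 := key 4
  simp only [Fin.isValue, Fin.val_zero, Fin.val_one, Fin.val_two, show ((3 : Fin 5).val) = 3 from rfl,
    show ((4 : Fin 5).val) = 4 from rfl] at k0 k1 k2 k3 k4
  simp only [app_eq, dec_xor, Pi.add_apply, Matrix.mulVec, dotProduct, Fin.sum_univ_five, k0, k1, k2, k3, k4]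

theorem enc_mul (M N : Matrix (Fin 5) (Fin 5) (ZMod 2)) : enc (M * N) = mulE (enc M) (enc N) := by
  refine enc_eq (fun j _ => app_lt _ _) fun i j => ?_
  rw [dec_app, dec_col_enc, Matrix.mul_apply]
  rfl

/-- Whether three vectors are independent. -/
def indep (a : ℕ) : Bool :=
  let x := a % 8
  let y := a / 8 % 8
  let z := a / 64 % 8
  !(Nat.beq x 0 || Nat.beq y 0 || Nat.beq z 0 || Nat.beq x y || Nat.beq x z || Nat.beq y z || Nat.beq z (x ^^^ y))

/-- The code with given parameters. -/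
def elt (a v r w : ℕ) : ℕ :=
  packCols fun j => match j with
    | 0 => 1
    | 1 => w + 2 + 4 * v
    | 2 => r % 2 + 4 * (a % 8)
    | 3 => r / 2 % 2 + 4 * (a / 8 % 8)
    | _ => r / 4 % 2 + 4 * (a / 64 % 8)

/-- A test at the codes with given first two parameters. -/
noncomputable def rowC (f : ℕ → Bool) (a v : ℕ) : Bool :=
  Nat.rec true (fun r ih => f (elt a v r 0) && (f (elt a v r 1) && ih)) 8

/-- A test at the codes with given first parameter. -/
noncomputable def colC (f : ℕ → Bool) (a : ℕ) : Bool :=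
  cond (indep a) (Nat.rec true (fun v ih => rowC f a v && ih) 8) true

/-- A test at all codes of the centraliser. -/
noncomputable def forallC (f : ℕ → Bool) : Bool := Nat.rec true (fun a ih => colC f a && ih) 512

theorem rec_elim {f : ℕ → Bool} : ∀ {n : ℕ},
    (Nat.rec true (fun k ih => f k && ih) n : Bool) = true → ∀ k < n, f k = true
  | 0, _, k, hk => absurd hk (Nat.not_lt_zero k)
  | n + 1, h, k, hk => by
    have h' : (f n && (Nat.rec true (fun k ih => f k && ih) n : Bool)) = true := h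
    rw [Bool.and_eq_true] at h'
    rcases Nat.lt_or_ge k n with h1 | h1
    · exact rec_elim h'.2 k h1
    · rw [show k = n by omega]; exact h'.1

theorem rec_elim₂ {f : ℕ → Bool} {g : ℕ → Bool} : ∀ {n : ℕ},
    (Nat.rec true (fun k ih => f k && (g k && ih)) n : Bool) = true → ∀ k < n, f k = true ∧ g k = true
  | 0, _, k, hk => absurd hk (Nat.not_lt_zero k)
  | n + 1, h, k, hk => by
    have h' : (f n && (g n && (Nat.rec true (fun k ih => f k && (g k && ih)) n : Bool))) = true := h
    simp only [Bool.and_eq_true] at h'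
    rcases Nat.lt_or_ge k n with h1 | h1
    · exact rec_elim₂ h'.2.2 k h1
    · rw [show k = n by omega]; exact ⟨h'.1, h'.2.1⟩

/-- A test at one eighth of the codes. -/
noncomputable def chunkC (f : ℕ → Bool) (k : ℕ) : Bool := Nat.rec true (fun a ih => colC f (64 * k + a) && ih) 64

theorem rec_intro {f : ℕ → Bool} : ∀ {n : ℕ}, (∀ k < n, f k = true) →
    (Nat.rec true (fun k ih => f k && ih) n : Bool) = true
  | 0, _ => rfl
  | n + 1, h => by
    show (f n && _) = true
    rw [Bool.and_eq_true]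
    exact ⟨h n (Nat.lt_succ_self n), rec_intro fun k hk => h k (Nat.lt_succ_of_lt hk)⟩

theorem forallC_of_chunks {f : ℕ → Bool} (h : ∀ k < 8, chunkC f k = true) : forallC f = true := by
  show (Nat.rec true (fun a ih => colC f a && ih) 512 : Bool) = true
  refine rec_intro (f := colC f) (n := 512) fun a ha => ?_
  have := rec_elim (n := 64) (f := fun b => colC f (64 * (a / 64) + b)) (h (a / 64) (by omega)) (a % 64) (by omega)
  rwa [show 64 * (a / 64) + a % 64 = a by omega] at this

theorem forallC_elt {f : ℕ → Bool} (h : forallC f = true) {a v r w : ℕ} (ha : a < 512) (hi : indep a = true)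
    (hv : v < 8) (hr : r < 8) (hw : w < 2) : f (elt a v r w) = true := by
  have h1 : colC f a = true := rec_elim h a ha
  rw [colC, hi, cond_true] at h1
  have h1' : rowC f a v = true := rec_elim h1 v hv
  have h2 := rec_elim₂ (f := fun r => f (elt a v r 0)) (g := fun r => f (elt a v r 1)) h1' r hr
  interval_cases w
  · exact h2.1
  · exact h2.2

/-- Three bits in one. -/
def bits3 (u : Fin 3 → ZMod 2) : ℕ := (u 0).val + 2 * ((u 1).val + 2 * (u 2).val)

theorem bits3_lt (u : Fin 3 → ZMod 2) : bits3 u < 8 := by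
  have := ZMod.val_lt (u 0); have := ZMod.val_lt (u 1); have := ZMod.val_lt (u 2)
  unfold bits3; omega

theorem indep_of_det : ∀ c0 c1 c2 : Fin 3 → ZMod 2,
    c0 0 * (c1 1 * c2 2 - c1 2 * c2 1) - c1 0 * (c0 1 * c2 2 - c0 2 * c2 1) +
      c2 0 * (c0 1 * c1 2 - c0 2 * c1 1) ≠ 0 →
    indep (bits3 c0 + 8 * (bits3 c1 + 8 * bits3 c2)) = true := by decide +kernel

/-- The matrix with given parameters. -/
def paramMat (w : ZMod 2) (v r c0 c1 c2 : Fin 3 → ZMod 2) : Matrix (Fin 5) (Fin 5) (ZMod 2) :=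
  !![1, w, r 0, r 1, r 2; 0, 1, 0, 0, 0; 0, v 0, c0 0, c1 0, c2 0; 0, v 1, c0 1, c1 1, c2 1;
    0, v 2, c0 2, c1 2, c2 2]

theorem colA : ∀ (x : ZMod 2) (c : Fin 3 → ZMod 2) (i : Fin 5),
    dec (x.val + 4 * bits3 c) i = ![x, 0, c 0, c 1, c 2] i := by decide +kernel

theorem colV : ∀ (x : ZMod 2) (c : Fin 3 → ZMod 2) (i : Fin 5),
    dec (x.val + 2 + 4 * bits3 c) i = ![x, 1, c 0, c 1, c 2] i := by decide +kernel

theorem bits_split : ∀ r : Fin 3 → ZMod 2,
    bits3 r % 2 = (r 0).val ∧ bits3 r / 2 % 2 = (r 1).val ∧ bits3 r / 4 % 2 = (r 2).val := by decide +kernel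

section

variable (s : Matrix.SpecialLinearGroup (Fin 5) (ZMod 2))
  (hs : (s : Matrix (Fin 5) (Fin 5) (ZMod 2)) = Matrix.transvection 0 1 1)
include hs

theorem forallC_apply {f : ℕ → Bool} (h : forallC f = true) {g : Matrix.SpecialLinearGroup (Fin 5) (ZMod 2)}
    (hg : g ∈ Subgroup.centralizer ({s} : Set (Matrix.SpecialLinearGroup (Fin 5) (ZMod 2)))) :
    f (enc g) = true := by
  obtain ⟨a1, a2, a00, a11⟩ := entries_of_mem s hs hg
  have hdet := block_invertible s hs hg
  set M := (g : Matrix (Fin 5) (Fin 5) (ZMod 2)) with hM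
  set v : Fin 3 → ZMod 2 := fun i => M i.succ.succ 1
  set r : Fin 3 → ZMod 2 := fun i => M 0 i.succ.succ
  set c0 : Fin 3 → ZMod 2 := fun i => M i.succ.succ 2
  set c1 : Fin 3 → ZMod 2 := fun i => M i.succ.succ 3
  set c2 : Fin 3 → ZMod 2 := fun i => M i.succ.succ 4
  set a := bits3 c0 + 8 * (bits3 c1 + 8 * bits3 c2)
  have h0 := bits3_lt c0
  have h1 := bits3_lt c1
  have h2 := bits3_lt c2
  have hi : indep a = true := by
    refine indep_of_det c0 c1 c2 fun h0 => hdet ?_
    rw [Matrix.det_fin_three]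
    simp only [Matrix.of_apply, c0, c1, c2] at h0 ⊢
    simp only [Fin.isValue, show (0 : Fin 3).succ.succ = (2 : Fin 5) from rfl,
      show (1 : Fin 3).succ.succ = (3 : Fin 5) from rfl, show (2 : Fin 3).succ.succ = (4 : Fin 5) from rfl] at h0 ⊢
    linear_combination h0
  have key : enc M = elt a (bits3 v) (bits3 r) (M 0 1).val := by
    obtain ⟨r0, r1, r2⟩ := bits_split r
    have e0 : a % 8 = bits3 c0 := by omega
    have e1 : a / 8 % 8 = bits3 c1 := by omega
    have e2 : a / 64 % 8 = bits3 c2 := by omega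
    refine enc_eq (fun j hj => ?_) fun i j => ?_
    · have := bits3_lt v
      have := ZMod.val_lt (M 0 1)
      interval_cases j <;> simp only [e0, e1, e2, r0, r1, r2] <;>
        (try have := ZMod.val_lt (r 0)) <;> (try have := ZMod.val_lt (r 1)) <;> (try have := ZMod.val_lt (r 2)) <;>
        omega
    · fin_cases j <;> simp only [e0, e1, e2, r0, r1, r2, colA, colV]
      · fin_cases i <;> simp [dec, a00, a1] <;> decide
      all_goals fin_cases i <;> simp [v, r, c0, c1, c2, a11, a2]
  rw [key]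
  exact forallC_elt h (by omega) hi (bits3_lt v) (bits3_lt r) (ZMod.val_lt _)

end

end CfsgLib.Recog.SporHe.Centralizer
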