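import Cfsg.Agent.Lib.Recog.SporHe.AutChunkInvol
import Cfsg.Agent.Lib.Recog.SporHe.AutChunkPair
import Cfsg.Agent.Lib.Recog.SporHe.AutChunkFix
import Cfsg.Agent.Lib.Recog.SporHe.AutChunkOuter

set_option autoImplicit false
set_option maxRecDepth 20000

/-!
Automorphisms of the centraliser of a transvection in SL(5, 2) that respect the classes of the Held group
(owner: helper22).
-/

namespace CfsgLib.Recog.SporHe.Aut

open CfsgLib.Recog.SporHe.Centralizer

/-- The transvection. -/
noncomputable def s₀ : Matrix.SpecialLinearGroup (Fin 5) (ZMod 2) :=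
  ⟨Matrix.transvection 0 1 1, Matrix.det_transvection_of_ne _ _ (by decide) _⟩

theorem hs₀ : (s₀ : Matrix (Fin 5) (Fin 5) (ZMod 2)) = Matrix.transvection 0 1 1 := rfl

/-- Its centraliser. -/
abbrev CT : Subgroup (Matrix.SpecialLinearGroup (Fin 5) (ZMod 2)) :=
  Subgroup.centralizer ({s₀} : Set (Matrix.SpecialLinearGroup (Fin 5) (ZMod 2)))

theorem mem_CT_iff {g : Matrix.SpecialLinearGroup (Fin 5) (ZMod 2)} :
    g ∈ Subgroup.closure {g | ∃ x ∈ List.range 6, g = mat x} ↔ g ∈ CT := by rw [closure_eq s₀ hs₀]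

theorem mval_mem_CT {w : List ℕ} (h : ∀ x ∈ w, x < 6) : mval w ∈ CT := mem_CT_iff.1 (mval_mem w h)

open Classical in
/-- The element of a word. -/
noncomputable def cel (w : List ℕ) : CT := if h : ∀ x ∈ w, x < 6 then ⟨mval w, mval_mem_CT h⟩ else 1

theorem cel_val {w : List ℕ} (h : ∀ x ∈ w, x < 6) : (cel w).1 = mval w := by rw [cel, dif_pos h]

theorem lt_six {w : List ℕ} (h : (w.all fun x => Nat.blt x 6) = true) : ∀ x ∈ w, x < 6 := fun x hx => by
  simpa using List.all_eq_true.1 h x hx

/-- The code of an element. -/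
noncomputable def cd (g : CT) : ℕ := enc ((g.1 : Matrix.SpecialLinearGroup (Fin 5) (ZMod 2)) : Matrix (Fin 5) (Fin 5) (ZMod 2))

theorem cd_mul (g h : CT) : cd (g * h) = mulE (cd g) (cd h) := by
  rw [cd, Subgroup.coe_mul, Matrix.SpecialLinearGroup.coe_mul, enc_mul]
  rfl

theorem cd_one : cd 1 = oneE := by
  rw [cd, Subgroup.coe_one, Matrix.SpecialLinearGroup.coe_one, enc_one]

theorem cd_inj {g h : CT} (e : cd g = cd h) : g = h := Subtype.ext (Subtype.ext (enc_injective e))

theorem cd_cel {w : List ℕ} (h : ∀ x ∈ w, x < 6) : cd (cel w) = code w := by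
  rw [cd, cel_val h, enc_mval]

theorem powE_succ (e n : ℕ) : powE e (n + 1) = mulE e (powE e n) := force_eq _ _

theorem cd_pow (g : CT) : ∀ n : ℕ, powE (cd g) n = cd (g ^ n)
  | 0 => by rw [pow_zero, cd_one]; rfl
  | n + 1 => by rw [powE_succ, cd_pow g n, ← cd_mul, ← pow_succ']

attribute [local irreducible] code mulE powE oneE enc

theorem test_of_forallC {f : ℕ → Bool} (h : forallC f = true) (g : CT) : f (cd g) = true :=
  forallC_apply s₀ hs₀ h g.2

/-- The first generator. -/
noncomputable def gX : CT := cel wX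

/-- The second generator and its outer image. -/
noncomputable def gY (ε : ℕ) : CT := cel (wYof ε)

/-- The central involution. -/
noncomputable def gD : CT := cel wD

/-- The second central element of the small centraliser. -/
noncomputable def gU : CT := cel wU

/-- The representative of a class. -/
noncomputable def gRep (i : ℕ) : CT := cel (repWord i)

theorem words_ok : (([wX, wY, wY2, wD, wU] ++ classes.map (fun c : ℕ × List ℕ × List ℕ => c.2.2) ++ invols.map (fun p : ℕ × List ℕ × ℕ => p.2.1) ++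
    matches_.map (fun p : ℕ × List ℕ × ℕ => p.2.1) ++ [[0, 1]] ++ (List.range 6).map (fun k => expand 0 (sixInTwo.getD k [])) ++
    centU.map (expand 0) ++ centU.map (expand 1)).all fun w => w.all fun x => Nat.blt x 6) = true := by decide +kernel

theorem word_lt {w : List ℕ} (h : w ∈ [wX, wY, wY2, wD, wU] ++ classes.map (fun c : ℕ × List ℕ × List ℕ => c.2.2) ++
    invols.map (fun p : ℕ × List ℕ × ℕ => p.2.1) ++ matches_.map (fun p : ℕ × List ℕ × ℕ => p.2.1) ++ [[0, 1]] ++
    (List.range 6).map (fun k => expand 0 (sixInTwo.getD k [])) ++ centU.map (expand 0) ++ centU.map (expand 1)) :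
    ∀ x ∈ w, x < 6 := lt_six (List.all_eq_true.1 words_ok w h)

theorem wX_lt : ∀ x ∈ wX, x < 6 := word_lt (by simp)

theorem wY_lt (ε : ℕ) : ∀ x ∈ wYof ε, x < 6 := by
  unfold wYof
  split <;> exact word_lt (by simp)

theorem wD_lt : ∀ x ∈ wD, x < 6 := word_lt (by simp)

theorem wU_lt : ∀ x ∈ wU, x < 6 := word_lt (by simp)

theorem rep_lt (i : ℕ) : ∀ x ∈ repWord i, x < 6 := by
  unfold repWord
  by_cases h : i < classes.length
  · rw [List.getD_eq_getElem _ _ h]
    refine word_lt ?_
    simp only [List.mem_append, List.mem_map]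
    exact .inl (.inl (.inl (.inl (.inl (.inl (.inr ⟨_, List.getElem_mem h, rfl⟩))))))
  · rw [List.getD_eq_default _ _ (by omega)]
    simp

theorem invol_word_lt {p : ℕ × List ℕ × ℕ} (h : p ∈ invols) : ∀ x ∈ p.2.1, x < 6 := by
  refine word_lt ?_
  simp only [List.mem_append, List.mem_map]
  exact .inl (.inl (.inl (.inl (.inl (.inr ⟨p, h, rfl⟩)))))

theorem match_word_lt {p : ℕ × List ℕ × ℕ} (h : p ∈ matches_) : ∀ x ∈ p.2.1, x < 6 := by
  refine word_lt ?_
  simp only [List.mem_append, List.mem_map]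
  exact .inl (.inl (.inl (.inl (.inr ⟨p, h, rfl⟩))))

theorem cel_append {u w : List ℕ} (hu : ∀ x ∈ u, x < 6) (hw : ∀ x ∈ w, x < 6) :
    cel (u ++ w) = cel u * cel w := by
  refine Subtype.ext ?_
  rw [cel_val (fun x hx => (List.mem_append.1 hx).elim (hu x) (hw x)), Subgroup.coe_mul, cel_val hu, cel_val hw]
  simp [mval]

theorem cel_reverse {w : List ℕ} (hw : ∀ x ∈ w, x < 6) : cel w.reverse = (cel w)⁻¹ := by
  have hk : ∀ k < 6, mat k * mat k = 1 := fun k hk => by
    have h : ∀ k < 6, isOne [k, k] = true := by decide +kernel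
    have := mval_eq_one (h k hk)
    simpa [mval] using this
  have key : ∀ {w : List ℕ}, (∀ x ∈ w, x < 6) → mval w.reverse * mval w = 1 := by
    intro w
    induction w with
    | nil => intro _; simp [mval]
    | cons x w ih =>
      intro h
      have ih' := ih fun y hy => h y (List.mem_cons_of_mem _ hy)
      simp only [mval, List.reverse_cons, List.map_append, List.prod_append, List.map_cons, List.map_nil,
        List.prod_cons, List.prod_nil, mul_one] at ih' ⊢
      rw [mul_assoc, ← mul_assoc (mat x), hk x (h x List.mem_cons_self), one_mul, ih']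
  refine eq_inv_of_mul_eq_one_left (Subtype.ext ?_)
  rw [Subgroup.coe_mul, cel_val (fun x hx => hw x (List.mem_reverse.1 hx)), cel_val hw]
  exact key hw

/-- Evaluation of a word in the two generators. -/
noncomputable def ev (ε : ℕ) (w : List ℕ) : CT := (w.map fun k => if k = 0 then gX else gY ε).prod

theorem cel_expand (ε : ℕ) : ∀ w : List ℕ, cel (expand ε w) = ev ε w ∧ ∀ x ∈ expand ε w, x < 6
  | [] => by
    refine ⟨Subtype.ext ?_, by simp [expand]⟩
    rw [cel_val (by simp [expand])]
    simp [expand, ev, mval]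
  | k :: w => by
    obtain ⟨ih, hlt⟩ := cel_expand ε w
    have hk : ∀ x ∈ (if k = 0 then wX else wYof ε), x < 6 := by split; exacts [wX_lt, wY_lt ε]
    have e : expand ε (k :: w) = (if k = 0 then wX else wYof ε) ++ expand ε w := List.flatMap_cons
    refine ⟨?_, fun x hx => (List.mem_append.1 (e ▸ hx)).elim (hk x) (hlt x)⟩
    rw [e, cel_append hk hlt, ih, ev, ev, List.map_cons, List.prod_cons]
    congr 1
    unfold gX gY
    split <;> rfl

theorem ev_map {M : Type*} [Monoid M] (f : CT →* M) (ε : ℕ) (w : List ℕ) :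
    f (ev ε w) = (w.map fun k => if k = 0 then f gX else f (gY ε)).prod := by
  rw [ev, map_list_prod, List.map_map]
  exact congrArg _ (List.map_congr_left fun k _ => by simp only [Function.comp_apply]; split <;> rfl)

/-- Homomorphisms agreeing on the two generators are equal. -/
theorem hom_ext {M : Type*} [Group M] {f f' : CT →* M} (hX : f gX = f' gX) (hY : f (gY 0) = f' (gY 0)) : f = f' := by
  have hgen : ∀ k < 6, f (cel [k]) = f' (cel [k]) := by
    intro k hk
    have e : cel [k] = ev 0 (sixInTwo.getD k []) := by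
      rw [← (cel_expand 0 _).1]
      apply cd_inj
      rw [cd_cel (by simpa using hk), cd_cel (cel_expand 0 _).2]
      have h := List.all_eq_true.1 six_ok k (List.mem_range.2 hk)
      exact (Nat.eq_of_beq_eq_true h).symm
    rw [e, ev_map, ev_map, hX, hY]
  refine MonoidHom.ext fun g => ?_
  obtain ⟨g, hg⟩ := g
  have hg' : g ∈ Subgroup.closure {g | ∃ x ∈ List.range 6, g = mat x} := mem_CT_iff.2 hg
  suffices h : ∀ h : g ∈ CT, f ⟨g, h⟩ = f' ⟨g, h⟩ from h hg
  induction hg' using Subgroup.closure_induction with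
  | mem x hx =>
    obtain ⟨k, hk, rfl⟩ := hx
    intro h
    have hk6 := List.mem_range.1 hk
    have e : (⟨mat k, h⟩ : CT) = cel [k] := by
      refine Subtype.ext ?_
      rw [cel_val (by simpa using hk6)]
      simp [mval]
    rw [e]
    exact hgen k hk6
  | one => intro h; exact (map_one f).trans (map_one f').symm
  | mul x y hx hy ihx ihy =>
    intro h
    have mx : x ∈ CT := mem_CT_iff.1 hx
    have my : y ∈ CT := mem_CT_iff.1 hy
    rw [show (⟨x * y, h⟩ : CT) = ⟨x, mx⟩ * ⟨y, my⟩ from rfl, map_mul, map_mul, ihx mx,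
      ihy my]
  | inv x hx ihx =>
    intro h
    have mx : x ∈ CT := mem_CT_iff.1 hx
    rw [show (⟨x⁻¹, h⟩ : CT) = (⟨x, mx⟩ : CT)⁻¹ from rfl, map_inv, map_inv, ihx mx]

/-- Every involution is conjugate to a representative. -/
theorem exists_class (g : CT) (h2 : g * g = 1) (h1 : g ≠ 1) :
    ∃ i < 8, ∃ h : CT, h * gRep i = g * h := by
  have h := test_of_forallC inv_ok g
  have c1 : Nat.beq (mulE (cd g) (cd g)) oneE = true := by rw [← cd_mul, h2, cd_one]; exact Nat.beq_refl _
  have c2 : Nat.beq (cd g) oneE = false := by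
    cases hb : Nat.beq (cd g) oneE
    · rfl
    · exact absurd (cd_inj ((Nat.eq_of_beq_eq_true hb).trans cd_one.symm)) h1
  rw [invOK, force_eq, c1, c2] at h
  simp only [Bool.not_false, Bool.and_self, cond_true, List.any_eq_true, Bool.and_eq_true, Nat.beq_eq,
    Nat.blt_eq] at h
  obtain ⟨p, hp, hc, hi, heq⟩ := h
  refine ⟨p.2.2, hi, cel p.2.1, cd_inj ?_⟩
  rw [cd_mul, cd_mul, gRep, cd_cel (invol_word_lt hp), cd_cel (rep_lt _)]
  exact heq

theorem beq_false_of_ne {g h : CT} (hne : g ≠ h) : Nat.beq (cd g) (cd h) = false := by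
  cases hb : Nat.beq (cd g) (cd h)
  · rfl
  · exact absurd (cd_inj (Nat.eq_of_beq_eq_true hb)) hne

theorem profile_self : gX * gX = 1 ∧ gY 0 ^ 7 = 1 ∧ gY 0 ≠ 1 ∧ (gX * gY 0) ^ 8 = 1 ∧ (gX * gY 0) ^ 4 ≠ 1 ∧
    (gX * (gY 0 * gY 0)) ^ 12 = 1 ∧ (gX * (gY 0 * gY 0)) ^ 6 ≠ 1 ∧ (gX * (gY 0 * gY 0)) ^ 4 ≠ 1 := by
  have h := pair_self
  rw [show code wX = cd gX from (cd_cel wX_lt).symm, show code wY = cd (gY 0) from (cd_cel (wY_lt 0)).symm] at h
  simp only [profile, force_eq, ← cd_mul, cd_pow, Bool.and_eq_true, Bool.not_eq_true', Nat.beq_eq] at h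
  obtain ⟨a, b, c, ⟨d, e, f, g, k⟩, -⟩ := h
  have ne : ∀ {u : CT}, Nat.beq (cd u) oneE = false → u ≠ 1 := fun {u} hu he => by
    rw [he, cd_one, Nat.beq_refl] at hu
    exact Bool.noConfusion hu
  rw [← cd_one] at a b d f
  exact ⟨by rw [← sq]; exact cd_inj a, cd_inj b, ne c, cd_inj d, ne e, cd_inj f, ne g, ne k⟩

/-- Automorphisms respecting the kinds of classes are known on the generators. -/
theorem local_pair (θ : CT ≃* CT) (hkind : ∀ i < 8, ∀ h : CT, h * gRep i = θ gX * h → kindOf i = 1) :
    ∃ g : CT, ∃ ε < 2, θ gX = g * gX * g⁻¹ ∧ θ (gY 0) = g * gY ε * g⁻¹ := by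
  obtain ⟨x2, y7, y1, p8, p4, q12, q6, q4⟩ := profile_self
  have hX1 : gX ≠ 1 := fun h => by rw [h, one_mul] at p8 p4; exact p4 (by
    have e := pow_gcd_eq_one.2 ⟨p8, y7⟩
    rw [show Nat.gcd 8 7 = 1 by norm_num, pow_one] at e
    rw [e, one_pow])
  obtain ⟨i, hi, h, hh⟩ := exists_class (θ gX) (by rw [← map_mul, x2, map_one]) (by simpa using hX1)
  have hk := hkind i hi h hh
  set y' := h⁻¹ * θ (gY 0) * h with hy'
  have ex : θ gX = h * gRep i * h⁻¹ := by rw [hh, mul_inv_cancel_right]
  let c : CT ≃* CT := θ.trans (MulAut.conj h⁻¹)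
  have cx : c gX = gRep i := by
    show h⁻¹ * θ gX * h⁻¹⁻¹ = _
    rw [ex]
    group
  have cy : c (gY 0) = y' := by
    show h⁻¹ * θ (gY 0) * h⁻¹⁻¹ = _
    rw [inv_inv]
  have ht := test_of_forallC pair_ok y'
  have t7 : Nat.beq (powE (cd y') 7) oneE = true := by
    rw [cd_pow, ← cy, ← map_pow, y7, map_one, cd_one]; exact Nat.beq_refl _
  have t1 : Nat.beq (cd y') oneE = false := by
    rw [← cd_one]; exact beq_false_of_ne (by rw [← cy]; simpa using y1)
  have tp : profile (code (repWord i)) (cd y') = true := by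
    rw [← cd_cel (rep_lt i), show cel (repWord i) = gRep i from rfl, ← cx, ← cy]
    have nb : ∀ {u : CT}, u ≠ 1 → Nat.beq (cd (c u)) oneE = false := fun {u} hu => by
      rw [← cd_one]; exact beq_false_of_ne (by simpa using hu)
    simp only [profile, force_eq, ← cd_mul, cd_pow, ← map_mul, ← map_pow, p8, q12, map_one, cd_one, nb p4, nb q6,
      nb q4, Nat.beq_refl, Bool.not_false, Bool.and_self]
  rw [pairOK, force_eq, t7, t1] at ht
  simp only [Bool.not_false, Bool.and_self, cond_true, List.all_eq_true, List.mem_range] at ht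
  have hti := ht i hi
  rw [force_eq, hk, tp] at hti
  simp only [Nat.beq_refl, Bool.and_self, cond_true, List.any_eq_true, Bool.and_eq_true, Nat.beq_eq,
    Nat.blt_eq] at hti
  obtain ⟨hiX, p, hp, hc, hε, e1, e2⟩ := hti
  have hrx : gRep i = gX := by
    apply cd_inj
    have hp' := pair_self
    simp only [Bool.and_eq_true, Nat.beq_eq] at hp'
    rw [hiX, gRep, gX, cd_cel (rep_lt _), cd_cel wX_lt]
    exact hp'.2.2.2.2
  refine ⟨h * cel p.2.1, p.2.2, hε, ?_, ?_⟩
  · have e : cel p.2.1 * gX = gX * cel p.2.1 := cd_inj (by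
      rw [cd_mul, cd_mul, gX, cd_cel (match_word_lt hp), cd_cel wX_lt]; exact e1)
    rw [ex, hrx, mul_inv_rev, mul_assoc h (cel p.2.1) gX, e]
    group
  · have e : cel p.2.1 * gY p.2.2 = y' * cel p.2.1 := cd_inj (by
      rw [cd_mul, cd_mul, gY, cd_cel (match_word_lt hp), cd_cel (wY_lt _)]; exact e2)
    rw [mul_inv_rev, mul_assoc h (cel p.2.1) (gY p.2.2), e, hy']
    group

/-- What fixes a small centraliser pointwise. -/
theorem local_fix (g : CT) {ε : ℕ} (hε : ε < 2) (h : ∀ w ∈ centU, g * ev ε w = ev 0 w * g) :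
    ε = 0 ∧ (g = 1 ∨ g = gD ∨ g = gU ∨ g = gD * gU) := by
  have ht := test_of_forallC fix_ok g
  simp only [fixOK, force_eq, Bool.and_eq_true] at ht
  have hall : (centU.all fun w => Nat.beq (mulE (cd g) (code (expand ε w))) (mulE (code (expand 0 w)) (cd g))) = true :=
    List.all_eq_true.2 fun w hw => by
      rw [← cd_cel (cel_expand ε w).2, ← cd_cel (cel_expand 0 w).2, ← cd_mul, ← cd_mul, (cel_expand ε w).1,
        (cel_expand 0 w).1, h w hw]
      exact Nat.beq_refl _
  interval_cases ε
  · refine ⟨rfl, ?_⟩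
    have h0 := ht.2
    rw [hall, cond_true] at h0
    simp only [List.any_cons, List.any_nil, Bool.or_false, Bool.or_eq_true, Nat.beq_eq] at h0
    have hnil : ∀ x ∈ ([] : List ℕ), x < 6 := by simp
    have hone : cel [] = 1 := Subtype.ext (by rw [cel_val hnil]; simp [mval])
    rcases h0 with e | e | e | e
    · left; rw [← hone]; exact cd_inj (by rw [cd_cel hnil]; exact e)
    · right; left; exact cd_inj (by rw [gD, cd_cel wD_lt]; exact e)
    · right; right; left; exact cd_inj (by rw [gU, cd_cel wU_lt]; exact e)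
    · right; right; right
      refine cd_inj ?_
      rw [gD, gU, ← cel_append wD_lt wU_lt,
        cd_cel (fun x hx => (List.mem_append.1 hx).elim (wD_lt x) (wU_lt x))]
      exact e
  · have h1 := ht.1
    rw [hall, cond_true] at h1
    exact Bool.noConfusion h1

/-- The outer map is not inner. -/
theorem local_outer (g : CT) (hX : g * gX = gX * g) : g * gY 0 ≠ gY 1 * g := by
  intro hY
  have ht := test_of_forallC outer_ok g
  rw [outerOK, force_eq, ← cd_cel wX_lt, show code wY = cd (gY 0) from (cd_cel (wY_lt 0)).symm,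
    show code wY2 = cd (gY 1) from (cd_cel (wY_lt 1)).symm, show cel wX = gX from rfl, ← cd_mul, ← cd_mul, ← cd_mul,
    ← cd_mul, hX, hY] at ht
  simp at ht

theorem gD_comm (g : CT) : gD * g = g * gD := by
  have hk : ∀ k < 6, Nat.beq (mulE (code wD) (code [k])) (mulE (code [k]) (code wD)) = true := by decide +kernel
  have key : (MulAut.conj gD).toMonoidHom = MonoidHom.id CT := by
    have e : ∀ k < 6, gD * cel [k] = cel [k] * gD := fun k hk6 => cd_inj (by
      rw [cd_mul, cd_mul, gD, cd_cel wD_lt, cd_cel (by simpa using hk6)]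
      exact Nat.eq_of_beq_eq_true (hk k hk6))
    have single : ∀ {w : List ℕ}, (∀ x ∈ w, x < 6) → gD * cel w = cel w * gD := by
      intro w
      induction w with
      | nil =>
        intro _
        rw [show cel [] = 1 from Subtype.ext (by rw [cel_val (by simp)]; simp [mval]), mul_one, one_mul]
      | cons x w ih =>
        intro hw
        have hx : ∀ y ∈ [x], y < 6 := by simpa using hw x List.mem_cons_self
        have hw' : ∀ y ∈ w, y < 6 := fun y hy => hw y (List.mem_cons_of_mem _ hy)
        rw [show x :: w = [x] ++ w from rfl, cel_append hx hw', ← mul_assoc, e x (hx x List.mem_cons_self),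
          mul_assoc, ih hw', mul_assoc]
    refine hom_ext ?_ ?_ <;>
      simp only [MulEquiv.coe_toMonoidHom, MonoidHom.id_apply, MulAut.conj_apply, gX, gY]
    · rw [single wX_lt, mul_inv_cancel_right]
    · rw [single (wY_lt 0), mul_inv_cancel_right]
  have h := DFunLike.congr_fun key g
  simp only [MulEquiv.coe_toMonoidHom, MonoidHom.id_apply, MulAut.conj_apply] at h
  exact mul_inv_eq_iff_eq_mul.1 h

theorem increasing_pairwise : ∀ {l : List (ℕ × List ℕ × ℕ)}, increasing l = true → l.Pairwise fun p q => p.1 < q.1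
  | [], _ => List.Pairwise.nil
  | [p], _ => List.pairwise_singleton _ p
  | p :: q :: l, h => by
    have h' : (Nat.blt p.1 q.1 && increasing (q :: l)) = true := h
    rw [Bool.and_eq_true] at h'
    have ih := increasing_pairwise h'.2
    have hpq : p.1 < q.1 := by simpa using h'.1
    refine List.pairwise_cons.2 ⟨fun r hr => ?_, ih⟩
    rcases List.mem_cons.1 hr with rfl | hr
    · exact hpq
    · exact hpq.trans ((List.pairwise_cons.1 ih).1 r hr)

/-- A class has as many elements as are listed. -/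
theorem size_mul_le (i : ℕ) :
    classSize i * Nat.card (Subgroup.centralizer ({gRep i} : Set CT)) ≤ Nat.card CT := by
  set l := invols.filter fun p => Nat.beq p.2.2 i with hl
  have hpw : l.Pairwise fun p q => p.1 < q.1 := (increasing_pairwise increasing_ok).filter _
  have key : ∀ j : Fin l.length, cd (cel l[j].2.1 * gRep i * (cel l[j].2.1)⁻¹) = l[j].1 := by
    intro j
    have hm : l[j] ∈ l := List.getElem_mem j.2
    obtain ⟨hin, hi⟩ := List.mem_filter.1 hm
    have hi' : l[j].2.2 = i := Nat.eq_of_beq_eq_true hi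
    have he := Nat.eq_of_beq_eq_true (List.all_eq_true.1 entries_ok _ hin)
    rw [hi'] at he
    have hw := invol_word_lt hin
    have hwr : ∀ x ∈ l[j].2.1.reverse, x < 6 := fun x hx => hw x (List.mem_reverse.1 hx)
    have hwi : ∀ x ∈ l[j].2.1 ++ repWord i, x < 6 :=
      fun x hx => (List.mem_append.1 hx).elim (hw x) (rep_lt i x)
    rw [← cel_reverse hw, gRep, ← cel_append hw (rep_lt i), ← cel_append hwi hwr,
      cd_cel (fun x hx => (List.mem_append.1 hx).elim (hwi x) (hwr x))]
    exact he
  let f : Fin l.length × Subgroup.centralizer ({gRep i} : Set CT) → CT := fun p => cel l[p.1].2.1 * p.2.1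
  have hf : Function.Injective f := by
    rintro ⟨j, c⟩ ⟨j', c'⟩ e
    have e' : cel l[j].2.1 * (c : CT) = cel l[j'].2.1 * (c' : CT) := e
    have cc : ∀ c : Subgroup.centralizer ({gRep i} : Set CT), (c : CT) * gRep i * (c : CT)⁻¹ = gRep i := fun c => by
      rw [Subgroup.mem_centralizer_singleton_iff.1 c.2, mul_inv_cancel_right]
    have conjEq : ∀ (j : Fin l.length) (c : Subgroup.centralizer ({gRep i} : Set CT)),
        cel l[j].2.1 * gRep i * (cel l[j].2.1)⁻¹ =
          (cel l[j].2.1 * (c : CT)) * gRep i * (cel l[j].2.1 * (c : CT))⁻¹ := fun j c => by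
      conv_lhs => rw [← cc c]
      group
    have hj : l[j].1 = l[j'].1 := by
      rw [← key j, ← key j', conjEq j c, conjEq j' c', e']
    have : j = j' := by
      by_contra hne
      rcases lt_or_gt_of_ne (fun h => hne (Fin.ext h) : j.val ≠ j'.val) with h | h
      · exact (ne_of_lt (List.pairwise_iff_getElem.1 hpw _ _ j.2 j'.2 h)) hj
      · exact (ne_of_lt (List.pairwise_iff_getElem.1 hpw _ _ j'.2 j.2 h)) hj.symm
    subst this
    exact Prod.ext rfl (Subtype.ext (mul_left_cancel e'))
  have := Nat.card_le_card_of_injective f hf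
  rwa [Nat.card_prod, Nat.card_fin] at this

end CfsgLib.Recog.SporHe.Aut
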