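import Cfsg.Agent.Lib.Recog.SporHe.AutHe

set_option autoImplicit false
set_option maxRecDepth 20000

/-!
The outer automorphism group of the Held group has order two (owner: helper22).
-/

namespace CfsgLib.Recog.SporHe.Aut

open Cfsg CfsgLib.Recog.SporBound CfsgLib.Recog.SporHe.Mult CfsgLib.Recog.SporHe.Centralizer
  CfsgLib.Recog.SporHe.Base

variable (e : ↥cent ≃* CT) (he : ∀ w, ∀ hw : (∀ x ∈ w, x < 6), e ⟨val (heWord w), heWord_mem_cent hw⟩ = cel w)

/-- The element of the Held group of an element of the matrix group. -/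
noncomputable def back (g : CT) : Spor.He := (e.symm g : Spor.He)

attribute [local irreducible] cel gX gY gD gU gRep classSize cd

theorem back_mem (g : CT) : back e g ∈ cent := (e.symm g).2

theorem back_mul (g h : CT) : back e (g * h) = back e g * back e h := by rw [back, map_mul]; rfl

theorem back_one : back e 1 = 1 := by rw [back, map_one]; rfl

theorem back_inv (g : CT) : back e g⁻¹ = (back e g)⁻¹ := by rw [back, map_inv]; rfl

theorem back_injective : Function.Injective (back e) := fun _ _ h => e.symm.injective (Subtype.ext h)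

theorem back_surj {x : Spor.He} (hx : x ∈ cent) : ∃ g, back e g = x :=
  ⟨e ⟨x, hx⟩, by rw [back, MulEquiv.symm_apply_apply]⟩

/-- The map as a homomorphism. -/
noncomputable def backHom : CT →* Spor.He := cent.subtype.comp e.symm.toMonoidHom

include he

theorem back_cel {w : List ℕ} (hw : ∀ x ∈ w, x < 6) : back e (cel w) = val (heWord w) := by
  rw [back, ← he w hw, MulEquiv.symm_apply_apply]

theorem back_gD : back e gD = el 3 := by
  have h := word_checks
  simp only [Bool.and_eq_true] at h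
  rw [gD, back_cel e he wD_lt, eq_of_fast h.1, val_single]

theorem back_gU : back e gU = (val wordH)⁻¹ * el 3 * val wordH := by
  have h := word_checks
  simp only [Bool.and_eq_true] at h
  rw [gU, back_cel e he wU_lt, eq_of_fast h.2.1, val_append, val_append, val_single, val_reverse]

theorem outer_back (ε : ℕ) (hε : ε < 2) :
    (outerAut ^ ε) (back e gX) = back e gX ∧ (outerAut ^ ε) (back e (gY 0)) = back e (gY ε) := by
  have h := word_checks
  simp only [Bool.and_eq_true] at h
  interval_cases ε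
  · simp
  · rw [pow_one, gX, gY, gY, back_cel e he wX_lt, back_cel e he (wY_lt 0), back_cel e he (wY_lt 1), outerAut_apply,
      outerAut_apply, outerHom_val, outerHom_val, show wYof 0 = wY from rfl, show wYof 1 = wY2 from rfl]
    exact ⟨eq_of_fast h.2.2.2.1, eq_of_fast h.2.2.2.2.1⟩

theorem back_rep (i : ℕ) (hi : i < 8) :
    ∃ w : Spor.He, w * (if kindOf i = 1 then el 3 else el 0) * w⁻¹ = back e (gRep i) := by
  refine ⟨val (classes.getD i (0, [], [])).2.1, ?_⟩
  have h := eq_of_fast (List.all_eq_true.1 class_checks i (List.mem_range.2 hi))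
  rw [val_append, val_append, val_single] at h
  rw [gRep, back_cel e he (rep_lt i), mul_inv_eq_iff_eq_mul]
  split_ifs with hk <;> simpa [hk] using h

theorem classX_lt : classX < 8 := by decide

theorem kind_classX : kindOf classX = 1 := by decide

theorem gRep_classX : gRep classX = gX := by
  apply cd_inj
  have h := pair_self
  simp only [Bool.and_eq_true, Nat.beq_eq] at h
  rw [gRep, gX, cd_cel (rep_lt _), cd_cel wX_lt]
  exact h.2.2.2.2

theorem rep_seven : gRep 7 = gD := by
  apply cd_inj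
  have h := rep_centre
  simp only [Bool.and_eq_true, Nat.beq_eq] at h
  rw [gRep, gD, cd_cel (rep_lt _), cd_cel wD_lt]
  exact h.1

/-- An involution commuting with a group of order 1024 is the central one. -/
theorem eq_gD_of_sylow (z : CT) (h2 : z * z = 1) (h1 : z ≠ 1) (P : Subgroup CT) (hP : Nat.card P = 1024)
    (hc : ∀ g ∈ P, g * z = z * g) : z = gD := by
  have hCT : Nat.card CT = 21504 := (Nat.card_congr e.toEquiv).symm.trans card_cent
  obtain ⟨i, hi, h, hh⟩ := exists_class z h2 h1
  rcases eq_or_ne i 7 with rfl | h7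
  · rw [rep_seven e he, ← gD_comm] at hh
    exact (mul_right_cancel hh).symm
  exfalso
  have hsz := size_mul_le i
  rw [hCT] at hsz
  have hl := Nat.eq_of_beq_eq_true (List.all_eq_true.1 sizes_ok i (List.mem_range.2 (by omega)))
  have hmap : P.map (MulAut.conj h⁻¹).toMonoidHom ≤ Subgroup.centralizer ({gRep i} : Set CT) := by
    rintro _ ⟨g, hg, rfl⟩
    refine Subgroup.mem_centralizer_singleton_iff.2 ?_
    show h⁻¹ * g * h⁻¹⁻¹ * gRep i = gRep i * (h⁻¹ * g * h⁻¹⁻¹)
    rw [show gRep i = h⁻¹ * z * h by rw [mul_assoc, ← hh, inv_mul_cancel_left]]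
    calc h⁻¹ * g * h⁻¹⁻¹ * (h⁻¹ * z * h) = h⁻¹ * (g * z) * h := by group
      _ = h⁻¹ * (z * g) * h := by rw [hc g hg]
      _ = _ := by group
  have hd1 := Subgroup.card_dvd_of_le hmap
  have hcP : Nat.card ↥(P.map (MulAut.conj h⁻¹).toMonoidHom) = 1024 :=
    (Nat.card_congr ((MulAut.conj h⁻¹).subgroupMap P).toEquiv).symm.trans hP
  rw [hcP] at hd1
  have hd2 := Subgroup.card_subgroup_dvd_card (Subgroup.centralizer ({gRep i} : Set CT))
  rw [hCT] at hd2
  obtain ⟨k, hk⟩ := hd1
  have hk0 : k ≠ 0 := by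
    rintro rfl
    exact (Nat.card_pos (α := Subgroup.centralizer ({gRep i} : Set CT))).ne' (by rw [hk, mul_zero])
  rw [hk] at hsz hd2
  have h3 : i = 2 ∨ i = 3 → 3 ∣ k := by
    intro hi23
    have hq := List.all_eq_true.1 order_three i (by simpa using hi23)
    have h01 : ∀ x ∈ [0, 1], x < 6 := by decide
    have hmem : cel [0, 1] ∈ Subgroup.centralizer ({gRep i} : Set CT) := by
      refine Subgroup.mem_centralizer_singleton_iff.2 (cd_inj ?_)
      rw [cd_mul, cd_mul, gRep, cd_cel h01, cd_cel (rep_lt i)]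
      exact Nat.eq_of_beq_eq_true hq
    have ho : orderOf (cel [0, 1]) = 3 := by
      haveI : Fact (Nat.Prime 3) := ⟨Nat.prime_three⟩
      have h := three_ok
      simp only [Bool.and_eq_true, Bool.not_eq_true', Nat.beq_eq] at h
      refine orderOf_eq_prime ?_ ?_
      · apply cd_inj
        rw [← cd_pow, cd_cel h01, cd_one]
        exact h.1
      · intro he1
        have hc1 : code [0, 1] = oneE := by rw [← cd_cel h01, he1, cd_one]
        rw [hc1, Nat.beq_refl] at h
        exact Bool.noConfusion h.2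
    have hd := Subgroup.orderOf_dvd_natCard _ hmem
    rw [ho, hk] at hd
    exact (Nat.Coprime.dvd_mul_left (by norm_num)).1 hd
  rcases (show i = 0 ∨ i = 1 ∨ i = 2 ∨ i = 3 ∨ i = 4 ∨ i = 5 ∨ i = 6 by omega) with
    rfl | rfl | rfl | rfl | rfl | rfl | rfl <;> simp only [List.getD_cons_zero, List.getD_cons_succ] at hl <;>
    rw [hl] at hsz <;> omega

/-- Automorphisms preserve the class of the two-central involution. -/
theorem exists_conj_three (φ : MulAut Spor.He) : ∃ g : Spor.He, g * φ (el 3) * g⁻¹ = el 3 := by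
  haveI : Fact (Nat.Prime 2) := ⟨Nat.prime_two⟩
  have hd : el 3 ∈ cent := Subgroup.mem_centralizer_singleton_iff.2 rfl
  have hsq : (⟨el 3, hd⟩ : cent) ^ 2 = 1 := Subtype.ext (by
    rw [Subgroup.coe_pow, sq]; exact gen_inv nodes 3)
  have hz : IsPGroup 2 (Subgroup.zpowers (⟨el 3, hd⟩ : cent)) := by
    intro x
    refine ⟨1, ?_⟩
    obtain ⟨x, j, rfl⟩ := x
    apply Subtype.ext
    show ((⟨el 3, hd⟩ : cent) ^ j) ^ (2 ^ 1) = 1
    rw [pow_one, ← zpow_natCast, ← zpow_mul, mul_comm, zpow_mul, zpow_natCast, hsq, one_zpow]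
  obtain ⟨Q, hQ⟩ := hz.exists_le_sylow
  have hQc : Nat.card Q = 1024 := by
    rw [Sylow.card_eq_multiplicity, card_cent, show (21504 : ℕ) = 2 ^ 10 * 21 by norm_num,
      Nat.factorization_mul (by norm_num) (by norm_num), Finsupp.add_apply, Nat.Prime.factorization_pow Nat.prime_two,
      Finsupp.single_eq_same, Nat.factorization_eq_zero_of_not_dvd (by norm_num : ¬2 ∣ 21)]
    norm_num
  set K : Subgroup Spor.He := (Q : Subgroup cent).map cent.subtype
  have hKc : Nat.card K = 1024 := by rw [Subgroup.card_map_of_injective cent.subtype_injective]; exact hQc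
  have hdK : el 3 ∈ K := ⟨⟨el 3, hd⟩, hQ (Subgroup.mem_zpowers _), rfl⟩
  have hKle : K ≤ cent := Subgroup.map_subtype_le _
  have hfac : 2 ^ (Nat.card Spor.He).factorization 2 = 1024 := by
    rw [card_eq, show (4030387200 : ℕ) = 2 ^ 10 * 3935925 by norm_num,
      Nat.factorization_mul (by norm_num) (by norm_num), Finsupp.add_apply, Nat.Prime.factorization_pow Nat.prime_two,
      Finsupp.single_eq_same, Nat.factorization_eq_zero_of_not_dvd (by norm_num : ¬2 ∣ 3935925)]
    norm_num
  set K' : Subgroup Spor.He := K.map φ.toMonoidHom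
  have hK'c : Nat.card K' = 1024 := by rw [Subgroup.card_map_of_injective φ.injective]; exact hKc
  let S : Sylow 2 Spor.He := Sylow.ofCard K (by rw [hKc, hfac])
  let S' : Sylow 2 Spor.He := Sylow.ofCard K' (by rw [hK'c, hfac])
  obtain ⟨g, hg⟩ := MulAction.exists_smul_eq Spor.He S' S
  have hgK : ∀ x : Spor.He, x ∈ K' → g * x * g⁻¹ ∈ K := by
    intro x hx
    have hmem : g * x * g⁻¹ ∈ ((g • S' : Sylow 2 Spor.He) : Subgroup Spor.He) := by
      rw [Sylow.smul_def, Sylow.pointwise_smul_def]
      exact ⟨x, hx, rfl⟩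
    rw [hg] at hmem
    exact hmem
  refine ⟨g, ?_⟩
  set z := g * φ (el 3) * g⁻¹ with hzdef
  have hzK : ∀ k ∈ K, k * z = z * k := by
    intro k hk
    have hmem' : g⁻¹ * k * g ∈ K' := by
      have hback : g⁻¹ * k * g⁻¹⁻¹ ∈ ((g⁻¹ • S : Sylow 2 Spor.He) : Subgroup Spor.He) := by
        rw [Sylow.smul_def, Sylow.pointwise_smul_def]
        exact ⟨k, hk, rfl⟩
      rw [← hg, inv_smul_smul, inv_inv] at hback
      exact hback
    obtain ⟨k₀, hk₀, hk₀e⟩ := hmem'
    have hcomm : k₀ * el 3 = el 3 * k₀ := Subgroup.mem_centralizer_singleton_iff.1 (hKle hk₀)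
    have e1 : k = g * φ k₀ * g⁻¹ := by rw [show φ k₀ = g⁻¹ * k * g from hk₀e]; group
    have hcomm' : φ k₀ * φ (el 3) = φ (el 3) * φ k₀ := by rw [← map_mul, hcomm, map_mul]
    rw [e1, hzdef]
    calc g * φ k₀ * g⁻¹ * (g * φ (el 3) * g⁻¹) = g * (φ k₀ * φ (el 3)) * g⁻¹ := by group
      _ = g * (φ (el 3) * φ k₀) * g⁻¹ := by rw [hcomm']
      _ = _ := by group
  have hzc : z ∈ cent := Subgroup.mem_centralizer_singleton_iff.2 (hzK _ hdK).symm
  have hz2 : z * z = 1 := by
    rw [hzdef]
    calc g * φ (el 3) * g⁻¹ * (g * φ (el 3) * g⁻¹) = g * (φ (el 3 * el 3)) * g⁻¹ := by rw [map_mul]; group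
      _ = 1 := by rw [gen_inv nodes 3, map_one, mul_one, mul_inv_cancel]
  have hz1 : z ≠ 1 := by
    intro h
    refine el_three_ne_one (φ.injective ?_)
    rw [map_one]
    exact conj_eq_one_iff.1 h
  have key : e ⟨z, hzc⟩ = gD := by
    refine eq_gD_of_sylow e he _ (by rw [← map_mul, show (⟨z, hzc⟩ : cent) * ⟨z, hzc⟩ = 1 from Subtype.ext hz2,
      map_one]) (fun h => hz1 (congrArg Subtype.val ((map_eq_one_iff _ e.injective).1 h)))
      ((Q : Subgroup cent).map e.toMonoidHom) ?_ ?_
    · rw [Subgroup.card_map_of_injective e.injective]; exact hQc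
    · rintro _ ⟨q, hq, rfl⟩
      show e q * e ⟨z, hzc⟩ = e ⟨z, hzc⟩ * e q
      rw [← map_mul, ← map_mul]
      exact congrArg e (Subtype.ext (hzK _ ⟨q, hq, rfl⟩))
  have := back_gD e he
  rw [← key, back, MulEquiv.symm_apply_apply] at this
  exact this

/-- An automorphism fixing the involution acts on its centraliser as an inner map after a power of the outer one. -/
theorem exists_on_cent (φ : MulAut Spor.He) (hφ : φ (el 3) = el 3) :
    ∃ g : CT, ∃ ε < 2, ∀ x ∈ cent, φ x = back e g * (outerAut ^ ε) x * (back e g)⁻¹ := by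
  have hmem : ∀ x ∈ cent, φ x ∈ cent := fun x hx => Subgroup.mem_centralizer_singleton_iff.2 (by
    rw [← hφ, ← map_mul, Subgroup.mem_centralizer_singleton_iff.1 hx, map_mul])
  let θ₀ : cent →* cent := (φ.toMonoidHom.comp cent.subtype).codRestrict cent fun x => hmem x x.2
  have hθ₀ : Function.Bijective θ₀ := Finite.injective_iff_bijective.1 fun x y h =>
    Subtype.ext (φ.injective (congrArg Subtype.val h))
  let θ : CT ≃* CT := e.symm.trans ((MulEquiv.ofBijective θ₀ hθ₀).trans e)
  have hθ : ∀ g, back e (θ g) = φ (back e g) := fun g => by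
    show (e.symm (e (θ₀ (e.symm g))) : Spor.He) = _
    rw [MulEquiv.symm_apply_apply]
    rfl
  have hkind : ∀ i < 8, ∀ h : CT, h * gRep i = θ gX * h → kindOf i = 1 := by
    intro i hi h hh
    by_contra hk
    obtain ⟨w, hw⟩ := back_rep e he i hi
    obtain ⟨w', hw'⟩ := back_rep e he classX (classX_lt e he)
    rw [if_neg hk] at hw
    rw [if_pos (kind_classX e he), gRep_classX e he] at hw'
    have h1 := congrArg (back e) hh
    rw [back_mul, back_mul, hθ, ← hw, ← hw', map_mul, map_mul, map_inv, hφ] at h1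
    refine not_isConj ⟨(φ w')⁻¹ * (back e h * w), ?_⟩
    calc (φ w')⁻¹ * (back e h * w) * el 0 * ((φ w')⁻¹ * (back e h * w))⁻¹
        = (φ w')⁻¹ * (back e h * (w * el 0 * w⁻¹)) * (back e h)⁻¹ * φ w' := by group
      _ = el 3 := by rw [h1]; group
  obtain ⟨g, ε, hε, hX, hY⟩ := local_pair θ hkind
  refine ⟨g, ε, hε, fun x hx => ?_⟩
  obtain ⟨ox, oy⟩ := outer_back e he ε hε
  let f : CT →* Spor.He := φ.toMonoidHom.comp (backHom e)
  let f' : CT →* Spor.He := (MulAut.conj (back e g)).toMonoidHom.comp ((outerAut ^ ε).toMonoidHom.comp (backHom e))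
  have hff : f = f' := by
    refine hom_ext ?_ ?_
    · show φ (back e gX) = back e g * (outerAut ^ ε) (back e gX) * (back e g)⁻¹
      rw [ox, ← hθ, hX, back_mul, back_mul, back_inv]
    · show φ (back e (gY 0)) = back e g * (outerAut ^ ε) (back e (gY 0)) * (back e g)⁻¹
      rw [oy, ← hθ, hY, back_mul, back_mul, back_inv]
  obtain ⟨g', rfl⟩ := back_surj e hx
  exact DFunLike.congr_fun hff g'

theorem gD_sq : el 3 * el 3 = 1 := gen_inv nodes 3

/-- An automorphism fixing the centraliser pointwise is conjugation by a power of the involution. -/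
theorem inner_of_fix (φ : MulAut Spor.He) (hφ : ∀ x ∈ cent, φ x = x) :
    φ = 1 ∨ φ = MulAut.conj (el 3) := by
  set h₀ := val wordH with hh₀
  have hw := word_checks
  simp only [Bool.and_eq_true] at hw
  have hz : h₀ * el 3 * h₀⁻¹ ∈ cent := by
    refine Subgroup.mem_centralizer_singleton_iff.2 ?_
    have h := eq_of_fast hw.2.2.2.2.2
    simp only [val_append, val_single, val_reverse, ← hh₀] at h
    exact h
  set φ₂ : MulAut Spor.He := MulAut.conj h₀⁻¹ * φ * MulAut.conj h₀ with hφ₂
  have happ : ∀ x, φ₂ x = h₀⁻¹ * φ (h₀ * x * h₀⁻¹) * h₀ := fun x => by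
    show h₀⁻¹ * φ (h₀ * x * h₀⁻¹) * h₀⁻¹⁻¹ = _
    rw [inv_inv]
  have h2d : φ₂ (el 3) = el 3 := by rw [happ, hφ _ hz]; group
  obtain ⟨g, ε, hε, hg⟩ := exists_on_cent e he φ₂ h2d
  have hfix : ∀ w ∈ centU, g * ev ε w = ev 0 w * g := by
    intro w hw'
    have hcu : ev 0 w * gU = gU * ev 0 w := by
      have h := List.all_eq_true.1 centU_comm w hw'
      apply cd_inj
      rw [cd_mul, cd_mul, ← (cel_expand 0 w).1, gU, cd_cel (cel_expand 0 w).2, cd_cel wU_lt]
      exact Nat.eq_of_beq_eq_true h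
    have hbu := congrArg (back e) hcu
    rw [back_mul, back_mul, back_gU e he, ← hh₀] at hbu
    have hv : h₀ * back e (ev 0 w) * h₀⁻¹ ∈ cent := by
      refine Subgroup.mem_centralizer_singleton_iff.2 ?_
      calc h₀ * back e (ev 0 w) * h₀⁻¹ * el 3
          = h₀ * (back e (ev 0 w) * (h₀⁻¹ * el 3 * h₀)) * h₀⁻¹ := by group
        _ = h₀ * (h₀⁻¹ * el 3 * h₀ * back e (ev 0 w)) * h₀⁻¹ := by rw [hbu]
        _ = _ := by group
    have h1 : φ₂ (back e (ev 0 w)) = back e (ev 0 w) := by rw [happ, hφ _ hv]; group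
    have h2 : (outerAut ^ ε) (back e (ev 0 w)) = back e (ev ε w) := by
      obtain ⟨ox, oy⟩ := outer_back e he ε hε
      have e0 := ev_map ((outerAut ^ ε).toMonoidHom.comp (backHom e)) 0 w
      have e1 := ev_map (backHom e) ε w
      refine Eq.trans e0 (Eq.trans ?_ e1.symm)
      refine congrArg List.prod (List.map_congr_left fun k _ => ?_)
      split
      · exact ox
      · exact oy
    rw [hg _ (back_mem e _), h2] at h1
    refine back_injective e ?_
    rw [back_mul, back_mul]
    exact mul_inv_eq_iff_eq_mul.1 h1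
  obtain ⟨rfl, hg4⟩ := local_fix g hε hfix
  simp only [pow_zero, MulAut.one_apply] at hg
  -- the centraliser of the conjugate is moved by one or by the involution
  have hcases : (∀ y ∈ cent, φ (h₀ * y * h₀⁻¹) = h₀ * y * h₀⁻¹) ∨
      ∀ y ∈ cent, φ (h₀ * y * h₀⁻¹) = el 3 * (h₀ * y * h₀⁻¹) * el 3 := by
    have hyd : ∀ y ∈ cent, el 3 * y * (el 3)⁻¹ = y := fun y hy => by
      rw [← Subgroup.mem_centralizer_singleton_iff.1 hy, mul_inv_cancel_right]
    have back_phi : ∀ y, φ (h₀ * y * h₀⁻¹) = h₀ * φ₂ y * h₀⁻¹ := fun y => by rw [happ]; group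
    rcases hg4 with rfl | rfl | rfl | rfl
    · left
      intro y hy
      rw [back_phi, hg y hy, back_one, one_mul, inv_one, mul_one]
    · left
      intro y hy
      rw [back_phi, hg y hy, back_gD e he, hyd y hy]
    · right
      intro y hy
      rw [back_phi, hg y hy, back_gU e he, ← hh₀]
      simp only [mul_inv_rev, inv_inv, el_inv]
      group
    · right
      intro y hy
      rw [back_phi, hg y hy, back_mul, back_gD e he, back_gU e he, ← hh₀]
      have hu : h₀⁻¹ * el 3 * h₀ * y * (h₀⁻¹ * el 3 * h₀)⁻¹ ∈ cent := by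
        have := back_mem e gU
        rw [back_gU e he, ← hh₀] at this
        exact mul_mem (mul_mem this hy) (inv_mem this)
      rw [show el 3 * (h₀⁻¹ * el 3 * h₀) * y * (el 3 * (h₀⁻¹ * el 3 * h₀))⁻¹ =
        el 3 * (h₀⁻¹ * el 3 * h₀ * y * (h₀⁻¹ * el 3 * h₀)⁻¹) * (el 3)⁻¹ by group, hyd _ hu]
      simp only [mul_inv_rev, inv_inv, el_inv]
      group
  have hext : ∀ φ' : MulAut Spor.He, (∀ x ∈ cent, φ' x = x) →
      (∀ y ∈ cent, φ' (h₀ * y * h₀⁻¹) = h₀ * y * h₀⁻¹) → φ' = 1 := by
    intro φ' hc hc'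
    have h12 : ∀ k < 12, φ' (val (twelve k)) = val (twelve k) := by
      intro k hk
      rcases Nat.lt_or_ge k 6 with h | h
      · rw [twelve, if_pos h]; exact hc _ (genWord_mem_cent h)
      · rw [twelve, if_neg (by omega), val_append, val_append, val_reverse, ← hh₀]
        exact hc' _ (genWord_mem_cent (by omega))
    have hw12 : ∀ w : List ℕ, (∀ k ∈ w, k < 12) → φ' (val (w.flatMap twelve)) = val (w.flatMap twelve) := by
      intro w
      induction w with
      | nil => intro _; exact map_one φ'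
      | cons k w ih =>
        intro hw'
        rw [List.flatMap_cons, val_append, map_mul, h12 k (hw' k List.mem_cons_self),
          ih fun j hj => hw' j (List.mem_cons_of_mem _ hj)]
    have hel : ∀ x < 7, φ' (el x) = el x := by
      intro x hx
      have hfrom : ∀ i < 4, φ' (el ([2, 4, 5, 6].getD i 0)) = el ([2, 4, 5, 6].getD i 0) := by
        intro i hi
        have h := List.all_eq_true.1 letters_checks i (List.mem_range.2 hi)
        rw [Bool.and_eq_true] at h
        have e1 := eq_of_fast h.1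
        rw [val_single] at e1
        rw [e1]
        exact hw12 _ fun k hk => by simpa using List.all_eq_true.1 h.2 k hk
      have hab : ∀ y ∈ [0, 1], φ' (el y) = el y := fun y hy => hc _ (by
        refine Subgroup.mem_centralizer_singleton_iff.2 ?_
        have h := eq_of_fast (List.all_eq_true.1 comm_three y hy)
        simpa [val] using h)
      interval_cases x
      · exact hab 0 (by simp)
      · exact hab 1 (by simp)
      · exact hfrom 0 (by norm_num)
      · exact hc _ (Subgroup.mem_centralizer_singleton_iff.2 rfl)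
      · exact hfrom 1 (by norm_num)
      · exact hfrom 2 (by norm_num)
      · exact hfrom 3 (by norm_num)
    refine MulEquiv.toMonoidHom_injective (PresentedGroup.ext fun y => ?_)
    show φ' (PresentedGroup.of y) = PresentedGroup.of y
    rw [← SporBound.gen_of nodes y]
    refine hel _ ?_
    have := List.idxOf_lt_length_iff.2 (nodes.mem y)
    simpa [gens] using this
  rcases hcases with h | h
  · exact Or.inl (hext φ hφ h)
  · right
    have h' := hext (MulAut.conj (el 3) * φ) (fun x hx => by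
      show el 3 * φ x * (el 3)⁻¹ = x
      rw [hφ x hx, ← Subgroup.mem_centralizer_singleton_iff.1 hx, mul_inv_cancel_right]) (fun y hy => by
      show el 3 * φ (h₀ * y * h₀⁻¹) * (el 3)⁻¹ = _
      rw [h y hy, el_inv]
      calc el 3 * (el 3 * (h₀ * y * h₀⁻¹) * el 3) * el 3
          = el 3 * el 3 * (h₀ * y * h₀⁻¹) * (el 3 * el 3) := by group
        _ = _ := by rw [gD_sq e he, one_mul, mul_one])
    have hdd : MulAut.conj (el 3) * MulAut.conj (el 3) = 1 := by rw [← map_mul, gD_sq e he, map_one]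
    calc φ = MulAut.conj (el 3) * MulAut.conj (el 3) * φ := by rw [hdd, one_mul]
      _ = MulAut.conj (el 3) := by rw [mul_assoc, h', mul_one]

theorem card_out : Nat.card (Cfsg.Out Spor.He) = 2 := by
  have hne : outerAut ∉ Cfsg.Inn Spor.He := by
    rintro ⟨h, hh⟩
    have happ : ∀ x, h * x * h⁻¹ = outerHom x := fun x => DFunLike.congr_fun hh x
    have hc : h ∈ cent := by
      refine Subgroup.mem_centralizer_singleton_iff.2 ?_
      have := happ (el 3)
      rw [outerHom_three] at this
      exact mul_inv_eq_iff_eq_mul.1 this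
    obtain ⟨g, rfl⟩ := back_surj e hc
    obtain ⟨ox, oy⟩ := outer_back e he 1 (by norm_num)
    rw [pow_one, outerAut_apply] at ox oy
    refine local_outer g (back_injective e ?_) (back_injective e ?_)
    · rw [back_mul, back_mul, ← mul_inv_eq_iff_eq_mul, happ, ox]
    · rw [back_mul, back_mul, ← mul_inv_eq_iff_eq_mul, happ, oy]
  have hall : ∀ φ : MulAut Spor.He, φ ∈ Cfsg.Inn Spor.He ∨ ∃ i ∈ Cfsg.Inn Spor.He, φ = i * outerAut := by
    intro φ
    obtain ⟨g₀, hg₀⟩ := exists_conj_three e he φ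
    obtain ⟨g, ε, hε, hg⟩ := exists_on_cent e he (MulAut.conj g₀ * φ) hg₀
    set M := MulAut.conj (back e g) * outerAut ^ ε with hM
    have hfix : ∀ x ∈ cent, (M⁻¹ * (MulAut.conj g₀ * φ)) x = x := by
      intro x hx
      show M⁻¹ ((MulAut.conj g₀ * φ) x) = x
      rw [hg x hx]
      exact M.symm_apply_apply x
    obtain ⟨c, hc⟩ : ∃ c : Spor.He, M⁻¹ * (MulAut.conj g₀ * φ) = MulAut.conj c := by
      rcases inner_of_fix e he _ hfix with h | h
      · exact ⟨1, by rw [h, map_one]⟩
      · exact ⟨el 3, h⟩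
    have hφ : φ = MulAut.conj g₀⁻¹ * MulAut.conj (back e g) * (outerAut ^ ε * MulAut.conj c) := by
      rw [← hc, map_inv, hM]
      group
    have hcomm : ∀ (ψ : MulAut Spor.He) (x : Spor.He), ψ * MulAut.conj x = MulAut.conj (ψ x) * ψ := fun ψ x => by
      refine MulEquiv.ext fun y => ?_
      show ψ (x * y * x⁻¹) = ψ x * ψ y * (ψ x)⁻¹
      rw [map_mul, map_mul, map_inv]
    rw [hcomm (outerAut ^ ε) c, ← mul_assoc, ← map_mul, ← map_mul] at hφ
    interval_cases ε
    · left
      rw [hφ, pow_zero, mul_one]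
      exact ⟨_, rfl⟩
    · right
      exact ⟨_, ⟨_, rfl⟩, by rw [hφ, pow_one]⟩
  rw [Nat.card_eq_two_iff]
  refine ⟨1, (outerAut : Cfsg.Out Spor.He), fun h => hne ((QuotientGroup.eq_one_iff _).1 h.symm), ?_⟩
  refine Set.eq_univ_iff_forall.2 fun q => ?_
  obtain ⟨φ, rfl⟩ := QuotientGroup.mk_surjective q
  rcases hall φ with h | ⟨i, hi, rfl⟩
  · exact Or.inl ((QuotientGroup.eq_one_iff _).2 h)
  · refine Or.inr (show ((i * outerAut : MulAut Spor.He) : Cfsg.Out Spor.He) = _ from ?_)
    rw [QuotientGroup.mk_mul, (QuotientGroup.eq_one_iff i).2 hi, one_mul]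

omit he in
theorem card_out_he : Nat.card (Cfsg.Out Spor.He) = 2 := by
  obtain ⟨e, he⟩ := exists_ident
  exact card_out e he

end CfsgLib.Recog.SporHe.Aut
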