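import Cfsg.Prelude.Def_Spor_He
import Cfsg.Agent.Lib.Recog.SporBound.Presented
import Cfsg.Agent.Lib.ThreeTrans.CosetIndex.He2058.Valid

set_option autoImplicit false

/-! The presented Held group: letters and the action on 2058 points (owner: lead). -/

namespace CfsgLib.Recog.SporHe

open Cfsg
open CfsgLib.ThreeTrans.CosetIndex (Fits He2058.data He2058.valid gen toPerm toPerm_gen relWords letters)

/-- The generators in order. -/
def gens : List Spor.He.Gen := [.a, .b, .c, .d, .e, .f, .g]

/-- The subgroup words. -/
def words : List (FreeGroup Spor.He.Gen) :=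
  [Spor.He.a, Spor.He.c, Spor.He.d, Spor.He.e, Spor.He.f, (Spor.He.a * Spor.He.b) ^ 2,
    (Spor.He.b * Spor.He.c * Spor.He.d * Spor.He.e) ^ 7]

theorem fits : Fits Spor.He.edges Spor.He.extra gens He2058.data words where
  nodes := fun y => by cases y <;> decide
  mem := fun y => by cases y <;> decide
  nodup := by decide
  ng := rfl
  rels := by decide +kernel
  subs := by decide +kernel

theorem nodes : SporBound.Nodes Spor.He.edges gens where
  nodes := fits.nodes
  mem := fits.mem
  small := by decide

/-- The letters as elements. -/
abbrev el : ℕ → Spor.He := gen Spor.He.edges Spor.He.extra gens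

/-- The action on the 2058 cosets. -/
noncomputable abbrev act : Spor.He →* Equiv.Perm (Fin He2058.data.n) := toPerm He2058.valid fits

theorem act_el (x : ℕ) : act (el x) = CfsgLib.ThreeTrans.CosetIndex.Data.perm He2058.valid x :=
  toPerm_gen He2058.valid fits x

theorem act_word (w : List ℕ) (c : Fin He2058.data.n) :
    He2058.data.trace c w = ((act (((w.map el).prod)⁻¹) c : Fin He2058.data.n) : ℕ) :=
  CfsgLib.ThreeTrans.CosetIndex.trace_smul He2058.valid fits c w

/-- A word that moves some point differently from another one is a different element. -/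
theorem ne_of_trace {u w : List ℕ} (c : Fin He2058.data.n)
    (h : Nat.beq (He2058.data.trace c u) (He2058.data.trace c w) = false) :
    (u.map el).prod ≠ (w.map el).prod := fun he => by
  have h1 := act_word u c
  rw [he, ← act_word w c] at h1
  rw [h1, Nat.beq_refl] at h
  exact Bool.noConfusion h

end CfsgLib.Recog.SporHe
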