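import Cfsg.Agent.Lib.Recog.SporHe.Basic
import Cfsg.Agent.Lib.Recog.SporBound.HeD.Valid
import Cfsg.Agent.Lib.Recog.SporBound.HeB3.Valid
import Cfsg.Agent.Lib.Recog.SporBound.HeK.Valid
import Cfsg.Agent.Lib.Recog.SporBound.HeL.Valid
import Cfsg.Agent.Lib.Recog.SporBound.HeTop.Valid

set_option autoImplicit false

/-!
The presented Held group has order at most 4030387200 (owner: lead).

A word in `a, c, d, e` is shown to be trivial through the enumeration of `⟨a, b, c, d, e⟩` over `⟨a⟩`; then
`|⟨a, c, d, e⟩| ≤ 120`, `|⟨a, c, d, e, f, g⟩| ≤ 80640`, the involution `(ab)²` normalises the latter, and the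
subgroup they generate has index at most 24990.
-/

namespace CfsgLib.Recog.SporHe

open Cfsg CfsgLib.Recog.SporBound
open CfsgLib.ThreeTrans.CosetIndex (relWords gen)

/-- The word `cdcdedcdcdedcde`. -/
def zWord : List ℕ := [2, 3, 2, 3, 4, 3, 2, 3, 2, 3, 4, 3, 2, 3, 4]

theorem relAll {C : Cert} (h : C.rels.all (fun w => (relWords Spor.He.edges Spor.He.extra gens).contains w) = true) :
    ∀ w ∈ C.rels, (w.map el).prod = 1 := by
  refine rels_one nodes (more := []) (fun _ hw => absurd hw List.not_mem_nil) ?_
  simpa using h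

theorem closer_mem {C : Cert} (hC : C.OK) (H : Subgroup Spor.He) (hrel : ∀ w ∈ C.rels, (w.map el).prod = 1)
    (hsub : Cert.WordsIn el H C.subs) {p : ℕ} {w : List ℕ} (hp : C.endsAt p 0 w = true)
    (h0 : CfsgLib.ThreeTrans.CosetIndex.fld p 0 = 0) : (w.map el).prod ∈ H := by
  obtain ⟨v, hv, good, -⟩ := Cert.exists_orbit (gen_inv nodes) (gen_eq nodes) hC H hrel hsub
  exact Cert.mem_of_endsAt (gen_inv nodes) (gen_eq nodes) hC hv good hp h0

theorem z_eq_one : (zWord.map el).prod = 1 := by
  have hmem : (zWord.map el).prod ∈ Subgroup.closure ({el 0} : Set Spor.He) :=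
    closer_mem HeD.ok _ (relAll (by decide +kernel)) (fun w hw => by
        have : w = [0] := by simpa [HeD.cert] using hw
        subst this
        simpa using Subgroup.subset_closure (Set.mem_singleton (el 0)))
      (p := HeD.closers.getD 0 0) (by decide +kernel) (by decide +kernel)
  obtain ⟨k, hk⟩ := Subgroup.mem_closure_singleton.1 hmem
  have h2 : el 0 ^ (2 : ℤ) = 1 := by rw [zpow_two]; exact gen_inv nodes 0
  rcases Int.even_or_odd k with ⟨j, rfl⟩ | ⟨j, rfl⟩
  · rw [← hk, ← two_mul, zpow_mul, h2, one_zpow]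
  · rw [zpow_add, zpow_mul, h2, one_zpow, one_mul, zpow_one] at hk
    exact absurd (by simpa using hk.symm : (zWord.map el).prod = ([0].map el).prod)
      (ne_of_trace ⟨8, by decide +kernel⟩ (by decide +kernel))

theorem relMore {C : Cert}
    (h : C.rels.all (fun w => (relWords Spor.He.edges Spor.He.extra gens).contains w || [zWord].contains w) = true) :
    ∀ w ∈ C.rels, (w.map el).prod = 1 := by
  refine rels_one nodes (more := [zWord]) (fun w hw => ?_) h
  rw [List.mem_singleton.1 hw]
  exact z_eq_one

theorem ucu_eq : ([0, 1, 0, 1, 2, 0, 1, 0, 1, 4, 2, 0].map el).prod = 1 :=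
  Subgroup.mem_bot.1 <| closer_mem HeB3.ok ⊥ (relAll (by decide +kernel))
    (fun w hw => by simp [HeB3.cert] at hw)
    (p := HeB3.closers.getD 0 0) (by decide +kernel) (by decide +kernel)

/-- `⟨a, c, d, e⟩`. -/
noncomputable abbrev K : Subgroup Spor.He := letterSub Spor.He.edges Spor.He.extra gens HeK.cert.kl

/-- `⟨a, c, d, e, f, g⟩`. -/
noncomputable abbrev L : Subgroup Spor.He := letterSub Spor.He.edges Spor.He.extra gens HeL.cert.kl

theorem card_K : Finite K ∧ Nat.card K ≤ 120 := by
  obtain ⟨h1, h2⟩ := tower_step nodes (m := 1) HeK.ok (⊥ : Subgroup Spor.He) (by simp)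
    (relMore (by decide +kernel)) (fun w hw => by simp [HeK.cert] at hw)
  exact ⟨h1, h2.trans (by decide +kernel)⟩

theorem card_L : Finite L ∧ Nat.card L ≤ 80640 := by
  haveI := card_K.1
  obtain ⟨h1, h2⟩ := tower_step nodes HeL.ok K card_K.2 (relMore (by decide +kernel))
    (wordsIn_letterSub (by decide +kernel))
  exact ⟨h1, h2.trans (by decide +kernel)⟩

/-- The element `(ab)²`. -/
noncomputable def u : Spor.He := ([0, 1, 0, 1].map el).prod

theorem u_comm {x : ℕ} (hx : x = 0 ∨ x = 3 ∨ x = 4 ∨ x = 5 ∨ x = 6) : u * el x = el x * u := by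
  have hw : ∀ p q : ℕ, (relWords Spor.He.edges Spor.He.extra gens).contains [p, q, p, q] = true →
      el p * el q = el q * el p := fun p q h => by
    have h1 : ([p, q, p, q].map el).prod = 1 := relWord_one nodes (List.contains_iff_mem.1 h)
    simp only [List.map_cons, List.map_nil, List.prod_cons, List.prod_nil, mul_one] at h1
    have hp : (el p)⁻¹ = el p := inv_eq_of_mul_eq_one_right (gen_inv nodes p)
    have hq : (el q)⁻¹ = el q := inv_eq_of_mul_eq_one_right (gen_inv nodes q)
    calc el p * el q = (el p * el q)⁻¹ := eq_inv_of_mul_eq_one_left (by rw [mul_assoc]; exact h1)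
      _ = el q * el p := by rw [mul_inv_rev, hp, hq]
  have comm_u : ∀ q : ℕ, (relWords Spor.He.edges Spor.He.extra gens).contains [0, q, 0, q] = true →
      (relWords Spor.He.edges Spor.He.extra gens).contains [1, q, 1, q] = true → u * el q = el q * u := by
    intro q h0 h1
    have ha : Commute (el 0) (el q) := hw 0 q h0
    have hb : Commute (el 1) (el q) := hw 1 q h1
    have hc := (ha.mul_left hb).mul_left (ha.mul_left hb)
    rw [show u = el 0 * el 1 * (el 0 * el 1) by simp [u, mul_assoc]]
    exact hc.eq
  rcases hx with rfl | rfl | rfl | rfl | rfl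
  · have h1 : ([0, 1, 0, 1, 0, 1, 0, 1].map el).prod = 1 := relWord_one nodes (by decide +kernel)
    simp only [List.map_cons, List.map_nil, List.prod_cons, List.prod_nil, mul_one] at h1
    have ha : (el 0)⁻¹ = el 0 := inv_eq_of_mul_eq_one_right (gen_inv nodes 0)
    have hb : (el 1)⁻¹ = el 1 := inv_eq_of_mul_eq_one_right (gen_inv nodes 1)
    have hu : u = el 0 * el 1 * (el 0 * el 1) := by simp [u, mul_assoc]
    have hu2 : u = el 1 * el 0 * (el 1 * el 0) := by
      calc u = u⁻¹ := eq_inv_of_mul_eq_one_left (by rw [hu]; simpa [mul_assoc] using h1)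
        _ = _ := by rw [hu, mul_inv_rev, mul_inv_rev, ha, hb]
    conv_rhs => rw [hu2]
    rw [hu]
    group
  all_goals exact comm_u _ (by decide +kernel) (by decide +kernel)

theorem u_inv : u⁻¹ = u := by
  have h1 : ([0, 1, 0, 1, 0, 1, 0, 1].map el).prod = 1 := relWord_one nodes (by decide +kernel)
  refine inv_eq_of_mul_eq_one_right ?_
  rw [u, ← List.prod_append, ← List.map_append]
  exact h1

theorem u_conj_mem {l : Spor.He} (hl : l ∈ L) : u * l * u ∈ L := by
  have key : ∀ x ∈ HeL.cert.kl, u * el x * u ∈ L := by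
    intro x hx
    have hmem : el x ∈ L := Subgroup.subset_closure ⟨x, hx, rfl⟩
    have hx' : x = 2 ∨ (x = 0 ∨ x = 3 ∨ x = 4 ∨ x = 5 ∨ x = 6) := by
      simp [HeL.cert] at hx
      omega
    rcases hx' with rfl | hx'
    · have h : u * el 2 * u = (([4, 2, 0] : List ℕ).map el).prod⁻¹ := by
        refine eq_inv_of_mul_eq_one_left ?_
        have := ucu_eq
        simpa [u, mul_assoc] using this
      rw [h]
      exact inv_mem (mem_letterSub (by decide +kernel))
    · rw [u_comm hx', mul_assoc]
      nth_rewrite 1 [← u_inv]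
      rw [inv_mul_cancel, mul_one]
      exact hmem
  have hl' : l ∈ Subgroup.closure {g | ∃ x ∈ HeL.cert.kl, g = el x} := hl
  induction hl' using Subgroup.closure_induction with
  | mem g hg => obtain ⟨x, hx, rfl⟩ := hg; exact key x hx
  | one =>
    rw [mul_one]
    nth_rewrite 1 [← u_inv]
    rw [inv_mul_cancel]
    exact one_mem _
  | mul g g' hg hg' ih ih' =>
    have : u * (g * g') * u = u * g * u * (u * g' * u) := by
      nth_rewrite 4 [← u_inv]
      group
    rw [this]
    exact mul_mem (ih hg) (ih' hg')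
  | inv g hg ih =>
    have : u * g⁻¹ * u = (u * g * u)⁻¹ := by rw [mul_inv_rev, mul_inv_rev, u_inv, mul_assoc]
    rw [this]
    exact inv_mem (ih hg)

/-- `⟨a, c, d, e, f, g, (ab)²⟩`. -/
noncomputable def C : Subgroup Spor.He where
  carrier := {x | x ∈ L ∨ x * u ∈ L}
  one_mem' := Or.inl (one_mem L)
  mul_mem' := by
    have huu : u * u = 1 := by nth_rewrite 1 [← u_inv]; exact inv_mul_cancel u
    rintro x y (hx | hx) (hy | hy)
    · exact Or.inl (mul_mem hx hy)
    · exact Or.inr (by rw [mul_assoc]; exact mul_mem hx hy)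
    · refine Or.inr ?_
      have : x * y * u = (x * u) * (u * y * u) := by
        rw [show x * u * (u * y * u) = x * (u * u) * y * u by group, huu, mul_one]
      rw [this]
      exact mul_mem hx (u_conj_mem hy)
    · refine Or.inl ?_
      have : x * y = (x * u) * (u * (y * u) * u) := by
        rw [show x * u * (u * (y * u) * u) = x * (u * u) * y * (u * u) by group, huu, mul_one, mul_one]
      rw [this]
      exact mul_mem hx (u_conj_mem hy)
  inv_mem' := by
    rintro x (hx | hx)
    · exact Or.inl (inv_mem hx)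
    · refine Or.inr ?_
      have : x⁻¹ * u = u * (x * u)⁻¹ * u := by
        rw [mul_inv_rev, u_inv]
        have huu : u * u = 1 := by nth_rewrite 1 [← u_inv]; exact inv_mul_cancel u
        rw [show u * (u * x⁻¹) * u = u * u * x⁻¹ * u by group, huu, one_mul]
      rw [this]
      exact u_conj_mem (inv_mem hx)

theorem card_C : Finite C ∧ Nat.card C ≤ 161280 := by
  classical
  haveI := card_L.1
  let f : C → L × Bool := fun x => if h : (x : Spor.He) ∈ L then (⟨x, h⟩, true) else
    (⟨(x : Spor.He) * u, x.2.resolve_left h⟩, false)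
  have hf : Function.Injective f := by
    intro x y h
    unfold f at h
    split_ifs at h with h1 h2 h2 <;> simp only [Prod.mk.injEq, Subtype.mk.injEq, Bool.false_eq_true, Bool.true_eq_false, and_false, and_true] at h
    · exact Subtype.ext h
    · exact Subtype.ext (mul_right_cancel h)
  refine ⟨Finite.of_injective f hf, ?_⟩
  have := Nat.card_le_card_of_injective f hf
  rw [Nat.card_prod, Nat.card_eq_fintype_card (α := Bool), Fintype.card_bool] at this
  have := card_L.2
  omega

/-- The order of the presented group is at most 4030387200. -/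
theorem card_le : Finite Spor.He ∧ Nat.card Spor.He ≤ 4030387200 := by
  haveI := card_C.1
  have hsub : Cert.WordsIn el C HeTop.cert.subs := by
    intro w hw
    have hw' : w = [0, 1, 0, 1] ∨ w.all (HeL.cert.kl.contains ·) = true := by
      have : HeTop.cert.subs.all (fun v => v == [0, 1, 0, 1] || v.all (HeL.cert.kl.contains ·)) = true := by
        decide +kernel
      simpa using List.all_eq_true.1 this w hw
    rcases hw' with rfl | hw'
    · refine Or.inr ?_
      show u * u ∈ L
      nth_rewrite 1 [← u_inv]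
      rw [inv_mul_cancel]
      exact one_mem _
    · exact Or.inl (mem_letterSub fun x hx => List.contains_iff_mem.1 (List.all_eq_true.1 hw' x hx))
  obtain ⟨h1, h2⟩ := Cert.card_le (gen_inv nodes) (gen_eq nodes) HeTop.ok C ⊤ (relAll (by decide +kernel)) hsub
    (by
      rw [show HeTop.cert.kl = List.range gens.length from rfl]
      exact (letterSub_range nodes).ge)
  haveI : Finite Spor.He := Finite.of_equiv (⊤ : Subgroup Spor.He) Subgroup.topEquiv.toEquiv
  refine ⟨inferInstance, ?_⟩
  rw [← Subgroup.card_top (G := Spor.He)]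
  exact h2.trans ((Nat.mul_le_mul_left _ card_C.2).trans (by decide +kernel))

end CfsgLib.Recog.SporHe
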