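import Cfsg.Agent.Lib.Recog.SporHe.MultBasic
import Cfsg.Agent.Lib.Recog.SporHe.CentOrbit
import Cfsg.Agent.Lib.Recog.SporHe.CentData

set_option autoImplicit false
set_option Elab.async false
set_option maxRecDepth 20000

/-!
Checks for an involution centraliser of the Held group (owner: helper22).
-/

namespace CfsgLib.Recog.SporHe.Centralizer

open Cfsg CfsgLib.Recog.SporBound CfsgLib.Recog.SporHe.Mult
open CfsgLib.ThreeTrans.CosetIndex (He2058.data forallFrom at16)

/-- The mask of a list of points. -/
noncomputable def mask (L : List ℕ) : ℕ := L.foldl (fun m p => Nat.lor m (Nat.shiftLeft 1 p)) 0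

/-- The points of a node. -/
noncomputable def pts (i : ℕ) : List ℕ :=
  (List.range 42).map (at16 ((ptsT.get (i / 128)).getD (i % 128) 0))

/-- Parent and word of a node. -/
noncomputable def par (i : ℕ) : ℕ := at16 (parents.getD (i / 128) 0) (i % 128)

/-- The nodes by increasing mask. -/
noncomputable def ord (i : ℕ) : ℕ := at16 (ordering.getD (i / 128) 0) (i % 128)

/-- A node is the image of an earlier one. -/
noncomputable def nodeOK (i : ℕ) : Bool :=
  Nat.blt (par i / 8) i && (Nat.blt (par i % 8) 7 &&
    Nat.beq (mask (pts i))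
      (mask ((pts (par i / 8)).map fun p => He2058.data.trace p (stabWords.getD (par i % 8) []))))

/-- Consecutive nodes have increasing masks. -/
noncomputable def ordOK (i : ℕ) : Bool :=
  Nat.blt (ord i) 3825 && (Nat.blt (ord (i + 1)) 3825 && Nat.blt (mask (pts (ord i))) (mask (pts (ord (i + 1)))))

theorem nodes0_p0 : forallFrom nodeOK 1 239 = true := by decide +kernel

theorem nodes0_p1 : forallFrom nodeOK 240 239 = true := by decide +kernel

theorem nodes0_p2 : forallFrom nodeOK 479 239 = true := by decide +kernel

theorem nodes0_p3 : forallFrom nodeOK 718 239 = true := by decide +kernel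

theorem nodes0 : forallFrom nodeOK 1 956 = true := by
  have h0 := nodes0_p0
  have h1 : forallFrom nodeOK 1 478 = true :=
    forallFrom_add (f := nodeOK) (s := 1) (l₁ := 239) (l₂ := 239) h0 nodes0_p1
  have h2 : forallFrom nodeOK 1 717 = true :=
    forallFrom_add (f := nodeOK) (s := 1) (l₁ := 478) (l₂ := 239) h1 nodes0_p2
  have h3 : forallFrom nodeOK 1 956 = true :=
    forallFrom_add (f := nodeOK) (s := 1) (l₁ := 717) (l₂ := 239) h2 nodes0_p3
  exact h3

theorem nodes1_p0 : forallFrom nodeOK 957 239 = true := by decide +kernel

theorem nodes1_p1 : forallFrom nodeOK 1196 239 = true := by decide +kernel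

theorem nodes1_p2 : forallFrom nodeOK 1435 239 = true := by decide +kernel

theorem nodes1_p3 : forallFrom nodeOK 1674 239 = true := by decide +kernel

theorem nodes1 : forallFrom nodeOK 957 956 = true := by
  have h0 := nodes1_p0
  have h1 : forallFrom nodeOK 957 478 = true :=
    forallFrom_add (f := nodeOK) (s := 957) (l₁ := 239) (l₂ := 239) h0 nodes1_p1
  have h2 : forallFrom nodeOK 957 717 = true :=
    forallFrom_add (f := nodeOK) (s := 957) (l₁ := 478) (l₂ := 239) h1 nodes1_p2
  have h3 : forallFrom nodeOK 957 956 = true :=
    forallFrom_add (f := nodeOK) (s := 957) (l₁ := 717) (l₂ := 239) h2 nodes1_p3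
  exact h3

theorem nodes2_p0 : forallFrom nodeOK 1913 239 = true := by decide +kernel

theorem nodes2_p1 : forallFrom nodeOK 2152 239 = true := by decide +kernel

theorem nodes2_p2 : forallFrom nodeOK 2391 239 = true := by decide +kernel

theorem nodes2_p3 : forallFrom nodeOK 2630 239 = true := by decide +kernel

theorem nodes2 : forallFrom nodeOK 1913 956 = true := by
  have h0 := nodes2_p0
  have h1 : forallFrom nodeOK 1913 478 = true :=
    forallFrom_add (f := nodeOK) (s := 1913) (l₁ := 239) (l₂ := 239) h0 nodes2_p1
  have h2 : forallFrom nodeOK 1913 717 = true :=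
    forallFrom_add (f := nodeOK) (s := 1913) (l₁ := 478) (l₂ := 239) h1 nodes2_p2
  have h3 : forallFrom nodeOK 1913 956 = true :=
    forallFrom_add (f := nodeOK) (s := 1913) (l₁ := 717) (l₂ := 239) h2 nodes2_p3
  exact h3

theorem nodes3_p0 : forallFrom nodeOK 2869 239 = true := by decide +kernel

theorem nodes3_p1 : forallFrom nodeOK 3108 239 = true := by decide +kernel

theorem nodes3_p2 : forallFrom nodeOK 3347 239 = true := by decide +kernel

theorem nodes3_p3 : forallFrom nodeOK 3586 239 = true := by decide +kernel

theorem nodes3 : forallFrom nodeOK 2869 956 = true := by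
  have h0 := nodes3_p0
  have h1 : forallFrom nodeOK 2869 478 = true :=
    forallFrom_add (f := nodeOK) (s := 2869) (l₁ := 239) (l₂ := 239) h0 nodes3_p1
  have h2 : forallFrom nodeOK 2869 717 = true :=
    forallFrom_add (f := nodeOK) (s := 2869) (l₁ := 478) (l₂ := 239) h1 nodes3_p2
  have h3 : forallFrom nodeOK 2869 956 = true :=
    forallFrom_add (f := nodeOK) (s := 2869) (l₁ := 717) (l₂ := 239) h2 nodes3_p3
  exact h3

theorem order_ok_p0 : forallFrom ordOK 0 239 = true := by decide +kernel

theorem order_ok_p1 : forallFrom ordOK 239 239 = true := by decide +kernel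

theorem order_ok_p2 : forallFrom ordOK 478 239 = true := by decide +kernel

theorem order_ok_p3 : forallFrom ordOK 717 239 = true := by decide +kernel

theorem order_ok_p4 : forallFrom ordOK 956 239 = true := by decide +kernel

theorem order_ok_p5 : forallFrom ordOK 1195 239 = true := by decide +kernel

theorem order_ok_p6 : forallFrom ordOK 1434 239 = true := by decide +kernel

theorem order_ok_p7 : forallFrom ordOK 1673 239 = true := by decide +kernel

theorem order_ok_p8 : forallFrom ordOK 1912 239 = true := by decide +kernel

theorem order_ok_p9 : forallFrom ordOK 2151 239 = true := by decide +kernel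

theorem order_ok_p10 : forallFrom ordOK 2390 239 = true := by decide +kernel

theorem order_ok_p11 : forallFrom ordOK 2629 239 = true := by decide +kernel

theorem order_ok_p12 : forallFrom ordOK 2868 239 = true := by decide +kernel

theorem order_ok_p13 : forallFrom ordOK 3107 239 = true := by decide +kernel

theorem order_ok_p14 : forallFrom ordOK 3346 239 = true := by decide +kernel

theorem order_ok_p15 : forallFrom ordOK 3585 239 = true := by decide +kernel

theorem order_ok : forallFrom ordOK 0 3824 = true := by
  have h0 := order_ok_p0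
  have h1 : forallFrom ordOK 0 478 = true :=
    forallFrom_add (f := ordOK) (s := 0) (l₁ := 239) (l₂ := 239) h0 order_ok_p1
  have h2 : forallFrom ordOK 0 717 = true :=
    forallFrom_add (f := ordOK) (s := 0) (l₁ := 478) (l₂ := 239) h1 order_ok_p2
  have h3 : forallFrom ordOK 0 956 = true :=
    forallFrom_add (f := ordOK) (s := 0) (l₁ := 717) (l₂ := 239) h2 order_ok_p3
  have h4 : forallFrom ordOK 0 1195 = true :=
    forallFrom_add (f := ordOK) (s := 0) (l₁ := 956) (l₂ := 239) h3 order_ok_p4
  have h5 : forallFrom ordOK 0 1434 = true :=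
    forallFrom_add (f := ordOK) (s := 0) (l₁ := 1195) (l₂ := 239) h4 order_ok_p5
  have h6 : forallFrom ordOK 0 1673 = true :=
    forallFrom_add (f := ordOK) (s := 0) (l₁ := 1434) (l₂ := 239) h5 order_ok_p6
  have h7 : forallFrom ordOK 0 1912 = true :=
    forallFrom_add (f := ordOK) (s := 0) (l₁ := 1673) (l₂ := 239) h6 order_ok_p7
  have h8 : forallFrom ordOK 0 2151 = true :=
    forallFrom_add (f := ordOK) (s := 0) (l₁ := 1912) (l₂ := 239) h7 order_ok_p8
  have h9 : forallFrom ordOK 0 2390 = true :=
    forallFrom_add (f := ordOK) (s := 0) (l₁ := 2151) (l₂ := 239) h8 order_ok_p9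
  have h10 : forallFrom ordOK 0 2629 = true :=
    forallFrom_add (f := ordOK) (s := 0) (l₁ := 2390) (l₂ := 239) h9 order_ok_p10
  have h11 : forallFrom ordOK 0 2868 = true :=
    forallFrom_add (f := ordOK) (s := 0) (l₁ := 2629) (l₂ := 239) h10 order_ok_p11
  have h12 : forallFrom ordOK 0 3107 = true :=
    forallFrom_add (f := ordOK) (s := 0) (l₁ := 2868) (l₂ := 239) h11 order_ok_p12
  have h13 : forallFrom ordOK 0 3346 = true :=
    forallFrom_add (f := ordOK) (s := 0) (l₁ := 3107) (l₂ := 239) h12 order_ok_p13
  have h14 : forallFrom ordOK 0 3585 = true :=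
    forallFrom_add (f := ordOK) (s := 0) (l₁ := 3346) (l₂ := 239) h13 order_ok_p14
  have h15 : forallFrom ordOK 0 3824 = true :=
    forallFrom_add (f := ordOK) (s := 0) (l₁ := 3585) (l₂ := 239) h14 order_ok_p15
  exact h15

theorem root_ok : forallFrom (fun c =>
    (mask (pts 0)).testBit c == Nat.beq (He2058.data.trace c [3]) c) 0 2058 = true := by decide +kernel

theorem root_small : ((pts 0).all fun p => Nat.blt p 2058) = true := by decide +kernel

theorem stabWords_fix : (stabWords.all fun w => Nat.beq (He2058.data.trace 0 w) 0) = true := by decide +kernel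

theorem genWords_comm0 : (((genWords.drop 0).take 3).all fun w => same (w ++ [3]) ([3] ++ w)) = true := by decide +kernel

theorem genWords_comm1 : (((genWords.drop 3).take 3).all fun w => same (w ++ [3]) ([3] ++ w)) = true := by decide +kernel

theorem genWords_comm : (genWords.all fun w => same (w ++ [3]) ([3] ++ w)) = true := by
  rw [show genWords = (genWords.drop 0).take 3 ++ (genWords.drop 3).take 3 from rfl]
  simp only [List.all_append, Bool.and_eq_true]
  exact ⟨genWords_comm0, genWords_comm1⟩

end CfsgLib.Recog.SporHe.Centralizer
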