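import Cfsg.Agent.Lib.Recog.SporBound.Reach

set_option autoImplicit false

/-! Certificate data for the multiplier of the Held group (owner: helper22). -/

namespace CfsgLib.Recog.SporHe.Mult
open CfsgLib.Recog.SporBound

/-- Pairs of commuting letters `(x, y, t, n, m)`: `t` commutes with `x`, `(y t)^n = 1`, `t^m = 1`, both odd. -/
def pairs : List (ℕ × ℕ × List ℕ × ℕ × ℕ) :=
  [(0,2,[3,4],5,3),
   (0,3,[4,3,5,6],7,7),
   (0,4,[3,5,6],7,7),
   (0,5,[3,6],7,3),
   (0,6,[3,5],7,3),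
   (1,3,[4,3,5,6],7,7),
   (1,4,[3,5,6],7,7),
   (1,5,[3,6],7,3),
   (1,6,[3,5],7,3),
   (2,4,[3,2,3,5,2,3,6,1,2,3,5,4,3,2,1,2,3,0,1,2,3,4,5,3,2,1,6,3,2,5,3,2,3],5,5),
   (2,5,[3,2,3,5,2,3,6,1,2,3,5,4,3,2,1,4,3,1,2,3,4,5,3,2,1,6,3,2,5,3,2,3],5,3),
   (2,6,[3,2,3,5,2,3,6,1,2,3,5,4,3,2,1,4,2,3,1,2,3,4,5,3,2,1,6,3,2,5,3,2,3],5,5)]

/-- Conjugacies `(x, y, w)`: `w x w⁻¹ = y`. -/
def conjs : List (List ℕ × List ℕ × List ℕ) :=
  [([0],[1],[2,3,1,2,3,5,2,3,6,1,2,3,5,4,3,2,1]),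
   ([0],[2],[3,2,3,5,2,3,6,1,2,3,5,4,3,2,1]),
   ([0],[0,1,0,1],[2,3,5,2,3,2,3,5,3,2,3,2,1]),
   ([0],[0,3],[5,3,6,1,2,3,5,4,3,2,1]),
   ([3],[1,3],[4,3,2,3,0,1,2,3,2]),
   ([3],[4],[3,4]),
   ([3],[5],[3,5]),
   ([3],[6],[3,6]),
   ([3],[2,3,5,6,2,3,5,6],[4,2,3,6,5,2])]

/-- Orbit chain of the subgroup of the first five letters. -/
noncomputable def levelsU : List Level :=
  [(22, [[0],[1],[2],[3],[4]],
    [(22,1),(22,2),(37,0),(37,2),(37,4),(25,3),(70,1),(70,2),(70,4),(34,1),(34,3),(28,3),(52,2),(75,4),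
    (66,3),(66,4),(54,3),(31,3),(68,2),(68,4),(57,2),(98,1),(98,3),(50,3),(121,2),(121,4),(60,3),(101,2),
    (63,2),(63,4),(125,1),(125,3),(125,4),(107,1),(107,3),(169,0),(169,3),(170,4),(94,2),(217,1),(217,3),
    (217,4),(218,3),(110,2),(175,1),(175,3),(116,1),(116,3),(116,4),(224,0),(224,3),(224,4),(225,4),(226,
    3),(184,3),(185,2),(185,4),(274,3),(279,2),(279,4),(163,3),(379,0),(379,3),(379,4),(380,4),(381,3),
    (191,2),(190,1),(190,3),(287,3),(288,2),(288,4),(204,3),(205,2),(205,4),(206,3),(354,3),(389,2),(389,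
    4),(352,3),(391,3),(394,2),(304,2),(304,4),(305,1),(305,3),(305,4),(452,2),(452,4),(456,3),(456,4),
    (275,2),(542,3),(648,2),(648,4),(540,3),(393,3),(619,2),(321,3),(319,3),(320,4),(469,2),(469,4),(470,
    1),(470,4),(353,2),(353,4),(356,1),(356,4),(357,3),(610,2),(610,4),(661,3),(661,4),(662,3),(604,2),
    (546,2),(669,1),(669,3),(505,1),(505,3),(505,4),(509,0),(509,3),(747,1),(747,3),(750,2),(750,4),(735,
    3),(914,2),(914,4),(1057,3),(1057,4),(664,3),(908,2),(359,2),(1018,1),(547,2),(541,2),(541,4),(775,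
    1),(775,3),(775,4),(779,0),(606,1),(606,3),(606,4),(613,0),(613,4),(1008,1),(1008,3),(1073,2),(1073,
    4),(1074,3),(913,2),(995,1),(995,3),(869,1),(1087,0),(854,0),(854,3),(855,2),(855,4),(856,3),(864,2),
    (1168,3),(1180,2),(1180,4),(1181,1),(1181,3),(1181,4),(1182,3),(1173,2),(1378,1),(1378,3),(1512,2),
    (1512,4),(1076,3),(609,2),(1371,1),(1371,3),(910,3),(910,4),(1218,0),(1218,3),(1219,4),(1220,3),(998,
    0),(998,3),(998,4),(999,2),(999,4),(1000,3),(1464,3),(1468,2),(1468,4),(1139,1),(1139,3),(1139,4),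
    (1137,3),(1521,2),(1376,1),(1376,3),(1444,0),(1444,3),(1445,4),(1315,3),(1316,2),(1316,4),(1319,1),
    (1319,4),(1320,3),(1321,2),(1334,3),(1622,2),(1622,4),(1630,1),(1630,4),(930,0),(930,3),(930,4),
    (1633,4),(1500,3),(1497,2),(1498,1),(1498,3),(1470,3),(1529,2),(1529,4),(1473,1),(1473,4),(1585,3),
    (1103,2),(1002,3),(1757,3),(1758,2),(1758,4),(1373,2),(1373,4),(1374,3),(1648,3),(1649,2),(1649,4),
    (1457,3),(1652,2),(1450,3),(1451,2),(1451,4),(1452,3),(1454,1),(1454,4),(1455,3),(1458,2),(1824,2),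
    (1824,4),(1557,1),(1557,4),(714,0),(714,3),(714,4),(1596,4),(708,3),(1593,2),(1115,1),(1115,3),(1740,
    3),(1764,2),(1764,4),(1742,3),(1798,2),(1798,4),(1715,2),(1715,4),(1717,1),(1717,3),(1717,4),(1511,
    0),(1511,4),(1721,3),(1723,2),(1722,1),(1722,3),(1741,2),(1741,4),(1787,1),(1787,3),(1787,4),(1369,
    0),(1369,4),(1793,3),(639,3),(1389,2),(1389,4),(1044,3),(1811,3),(1042,3),(1539,2),(1539,4),(1082,1),
    (1082,4),(1027,0),(1027,4),(1145,3),(1551,2),(687,1),(687,3),(1462,2),(1462,4),(1979,2),(1979,4),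
    (1893,1),(1893,4),(1759,1),(1759,4),(1760,3),(1501,2),(1923,2),(1923,4),(1753,3),(1753,4),(1814,2),
    (1869,1),(1869,3),(1803,2),(1803,4),(1783,1),(1783,3),(1783,4),(1782,3),(1807,2),(1393,0),(1393,4),
    (1387,3),(1812,2),(1815,1),(1815,3),(1567,1),(1567,3),(1567,4),(1122,0),(1122,4),(1111,3),(695,3),
    (1150,2),(1150,4),(417,3),(1503,3),(692,3),(1968,2),(1968,4),(1989,1),(1989,3),(1989,4),(1840,2),
    (1840,4),(1519,3),(1519,4),(1774,1),(1774,3),(1774,4),(1415,0),(1415,3),(1415,4),(1706,2),(1706,4),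
    (1397,3),(1507,3),(1506,3),(1969,1),(1969,3),(1969,4),(1435,3),(1440,3),(1043,2),(1357,3),(1357,4),
    (1770,3),(1508,2),(1505,2),(1098,1),(1098,3),(1098,4),(673,0),(673,4),(1530,3),(712,3),(1601,2),
    (1106,3),(410,3),(587,2),(587,4),(1421,1),(2004,1),(2004,3),(2004,4),(2011,0),(2011,4),(1891,3),
    (1981,0),(1981,4),(1724,2),(1040,1),(1974,1),(1974,3),(1974,4),(1352,2),(1352,4),(1834,3),(1574,3),
    (1752,1),(1752,4),(1420,0),(1420,3),(1420,4),(1748,4),(1419,3),(1996,2),(2003,1),(2003,3),(932,3),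
    (1590,3),(1518,3),(701,3),(1124,2),(1068,3),(1068,4),(1050,3),(530,2),(1119,2),(2041,1),(2041,4),
    (2025,3),(1509,1),(1509,3),(1509,4),(1064,4),(1398,3),(1416,3),(1533,4),(1399,3),(1482,3),(1298,2),
    (1298,4),(1417,3),(1939,1),(1939,4),(1336,3),(939,2),(1606,2),(1708,2),(1800,0),(1800,3),(1800,4),
    (1799,4),(1971,3),(1795,2),(1702,2),(958,3),(886,2),(886,4),(1486,3),(1841,2),(1794,3),(1709,3),(705,
    3),(1091,3),(1149,2),(1898,1),(342,2),(342,4),(637,1),(1816,0),(1816,3),(1816,4),(2055,4),(2001,3),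
    (1867,3),(1755,3),(1749,4),(1833,3),(1351,1),(1351,4),(1350,3),(1481,2),(1576,2),(1781,3),(1510,3),
    (1485,2),(1485,4),(962,3),(1346,3),(961,2),(1809,3),(1820,3),(2054,4),(559,2),(1892,2),(1572,2),(683,
    2),(1423,3),(656,2),(656,4),(957,3),(895,2),(314,3),(1234,3),(2045,3),(2031,2),(1048,3),(1065,4),
    (1771,3),(1088,2),(1088,4),(1401,3),(942,2),(1019,2),(1019,4),(827,1),(827,3),(827,4),(868,3),(1071,
    2),(1684,0),(1684,4),(1743,3),(566,1),(1700,3),(1303,3),(1460,3),(1446,2),(1446,4),(1761,3),(1775,3),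
    (1643,3),(1289,3),(578,2),(578,4),(1288,1),(1288,4),(888,3),(1021,2),(1647,3),(1433,2),(1433,4),
    (1642,2),(1642,4),(641,2),(1535,2),(874,1),(874,3),(199,1),(199,3),(199,4),(1962,3),(2012,2),(2012,
    4),(1965,2),(1484,2),(1484,4),(1480,3),(1479,2),(884,4),(1810,1),(1707,3),(1067,2),(1067,4),(1778,3),
    (1778,4),(1055,3),(584,2),(967,1),(2013,2),(2013,4),(328,3),(1661,3),(1667,3),(968,2),(896,4),(576,
    2),(531,3),(188,2),(188,4),(786,2),(786,4),(1931,3),(657,2),(657,4),(670,3),(670,4),(618,1),(618,3),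
    (618,4),(1259,0),(1259,3),(1259,4),(490,4),(545,3),(1072,2),(949,1),(949,3),(1375,3),(1283,2),(1283,
    4),(835,2),(835,4),(1001,2),(1001,4),(996,3),(996,4),(1765,3),(1984,2),(1201,4),(819,4),(955,1),(955,
    4),(1286,4),(1280,3),(1022,2),(621,1),(621,3),(1212,2),(1212,4),(982,1),(982,4),(1365,1),(1365,4),
    (1342,3),(1331,3),(517,2),(517,4),(213,3),(114,2),(114,4),(343,3),(1987,2),(1826,3),(1826,4),(1738,
    3),(1405,3),(1405,4),(1301,2),(1301,4),(1409,3),(1413,4),(341,1),(1922,3),(1922,4),(216,2),(216,4),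
    (1226,2),(1226,4),(1666,4),(312,1),(312,4),(527,1),(527,4),(1789,2),(1789,4),(1031,2),(1031,4),(917,
    3),(1004,3),(763,4),(358,3),(1007,3),(799,2),(799,4),(912,3),(296,3),(1408,2),(1763,2),(1046,3),
    (1046,4),(496,1),(608,3),(1447,2),(1447,4),(1377,3),(1990,2),(1945,3),(956,3),(816,3),(1699,2),(622,
    3),(1006,3),(769,1),(1237,0),(1237,4),(598,3),(1636,0),(1636,4),(1340,4),(862,2),(862,4),(339,1),
    (339,4),(124,2),(124,4),(197,1),(197,4),(1466,4),(1949,3),(1735,2),(1735,4),(1391,1),(1391,4),(1905,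
    2),(1905,4),(1686,3),(378,1),(378,4),(1657,1),(1657,3),(1657,4),(521,0),(521,4),(882,0),(1427,4),
    (844,1),(1189,4),(463,3),(479,3),(1262,2),(1442,1),(1986,3),(1005,4),(1801,1),(1801,4),(1917,4),
    (1467,2),(1327,1),(1327,4),(570,0),(583,3),(223,1),(332,0),(332,4),(1170,3),(1904,2),(1731,1),(1731,
    4),(1354,0),(1354,3),(1927,4),(1655,3),(1916,2),(1916,4),(946,0),(1325,3),(1957,1),(1402,0),(1402,4),
    (1750,3),(1754,2),(1754,4)]),
   (27, [[0],[3],[4,2]],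
    [(27,0),(27,1),(27,2),(53,1),(53,2),(55,2),(33,1),(99,2),(65,1),(178,1),(67,2),(283,1),(120,2),(297,
    2),(222,1),(464,2),(377,1),(823,1),(1206,1)])]

/-- Orbit chain of the subgroup of all letters but the second. -/
noncomputable def levelsL : List Level :=
  [(8, [[0],[2],[3],[4],[5],[6]],
    [(8,0),(8,1),(8,3),(8,4),(8,5),(26,1),(26,3),(26,4),(26,5),(9,2),(9,4),(9,5),(11,2),(11,4),(11,5),
    (27,2),(27,5),(28,2),(28,4),(29,2),(29,4),(29,5),(35,2),(35,4),(35,5),(53,2),(53,5),(54,2),(54,4),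
    (10,4),(10,5),(30,2),(30,5),(31,2),(31,4),(12,4),(36,2),(55,1),(55,3),(55,5),(56,2),(57,1),(32,4),
    (32,5),(59,2),(59,5),(60,2),(60,4),(13,4),(69,2),(99,1),(99,3),(99,5),(100,2),(101,1),(33,2),(34,2),
    (61,1),(61,3),(61,5),(62,2),(63,1),(63,3),(63,4),(64,2),(38,2),(71,1),(71,3),(103,2),(103,3),(103,5),
    (104,5),(105,2),(105,4),(106,1),(107,2),(65,2),(66,2),(108,1),(108,3),(108,5),(109,2),(110,1),(110,
    3),(110,4),(111,2),(39,2),(128,1),(128,3),(171,2),(171,3),(171,5),(173,2),(174,1),(175,2),(67,1),(67,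
    3),(67,5),(68,1),(68,3),(68,4),(112,2),(112,3),(112,5),(113,5),(114,2),(114,4),(115,1),(115,3),(115,
    4),(116,2),(116,3),(116,4),(117,4),(118,2),(118,5),(119,1),(119,3),(119,5),(72,1),(72,3),(72,5),(129,
    2),(129,3),(177,1),(177,3),(177,4),(177,5),(178,2),(178,5),(179,2),(179,4),(181,1),(183,2),(185,1),
    (185,3),(185,4),(185,5),(120,1),(120,3),(120,5),(121,1),(121,3),(121,4),(186,2),(186,3),(186,5),(187,
    5),(188,2),(188,4),(189,1),(189,3),(189,4),(190,2),(190,3),(190,4),(191,4),(192,2),(192,5),(193,1),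
    (193,3),(193,5),(73,1),(228,2),(228,3),(282,1),(282,3),(282,4),(282,5),(283,2),(284,2),(285,1),(286,
    2),(288,1),(288,3),(288,4),(288,5),(122,2),(122,3),(122,5),(125,2),(125,3),(125,4),(195,1),(195,3),
    (195,4),(195,5),(196,2),(196,5),(197,2),(197,4),(198,2),(199,1),(199,3),(199,4),(200,2),(201,2),(201,
    3),(201,4),(202,4),(203,5),(205,1),(205,3),(205,4),(205,5),(206,2),(206,4),(207,2),(207,5),(208,2),
    (209,1),(209,3),(209,5),(210,2),(211,2),(211,3),(211,5),(212,5),(213,4),(131,2),(131,3),(131,5),(231,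
    3),(231,5),(232,2),(293,2),(293,3),(293,4),(293,5),(294,2),(294,4),(294,5),(295,5),(296,2),(296,4),
    (297,1),(297,4),(297,5),(298,2),(299,3),(299,4),(300,2),(303,1),(303,3),(303,4),(305,2),(305,3),(305,
    4),(305,5),(306,4),(306,5),(307,5),(308,4),(214,2),(214,3),(214,5),(217,2),(217,3),(217,4),(310,3),
    (310,4),(310,5),(311,2),(311,5),(312,2),(312,4),(313,2),(314,1),(314,3),(314,4),(315,2),(316,2),(316,
    3),(316,4),(317,4),(318,5),(320,3),(320,4),(320,5),(321,2),(321,4),(322,2),(322,5),(323,2),(324,1),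
    (324,3),(324,5),(325,2),(326,2),(326,3),(326,5),(327,5),(328,4),(134,2),(397,3),(397,5),(398,2),(460,
    3),(460,4),(460,5),(461,2),(461,4),(461,5),(462,5),(463,2),(463,4),(464,1),(464,4),(464,5),(465,3),
    (465,4),(468,1),(468,3),(468,4),(470,3),(470,4),(470,5),(471,4),(471,5),(472,5),(473,4),(221,1),(221,
    3),(221,4),(222,2),(225,3),(225,4),(225,5),(226,2),(227,2),(333,3),(333,4),(333,5),(334,2),(334,4),
    (334,5),(335,5),(336,2),(336,4),(337,1),(337,4),(339,3),(341,1),(341,3),(341,4),(342,2),(342,3),(344,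
    2),(345,1),(345,3),(347,1),(347,3),(347,4),(347,5),(348,2),(349,2),(350,2),(351,2),(356,3),(356,4),
    (356,5),(357,2),(357,4),(357,5),(358,2),(358,5),(359,4),(360,4),(360,5),(361,2),(362,3),(363,2),(364,
    1),(364,3),(365,3),(367,2),(368,1),(370,3),(370,5),(371,2),(371,5),(372,2),(372,4),(234,1),(234,3),
    (234,5),(235,2),(236,2),(402,2),(404,4),(484,3),(484,4),(484,5),(485,2),(485,4),(485,5),(486,2),(486,
    5),(487,2),(487,4),(488,1),(488,4),(488,5),(489,2),(490,2),(491,2),(492,3),(492,4),(493,2),(494,2),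
    (494,4),(494,5),(495,5),(496,2),(496,4),(497,1),(497,3),(497,4),(498,4),(499,2),(500,5),(502,2),(502,
    3),(502,4),(503,4),(504,5),(510,3),(510,4),(510,5),(511,5),(512,2),(514,2),(515,2),(516,2),(517,2),
    (376,3),(377,2),(380,4),(382,2),(522,2),(522,4),(522,5),(523,5),(524,2),(524,4),(525,1),(525,4),(527,
    3),(529,1),(529,3),(529,4),(530,2),(530,3),(533,3),(535,3),(535,4),(535,5),(536,2),(537,2),(538,2),
    (539,2),(545,5),(546,4),(547,4),(548,2),(550,2),(551,1),(551,3),(552,3),(554,2),(555,1),(557,3),(557,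
    5),(558,2),(559,2),(238,1),(238,3),(238,5),(758,2),(758,4),(758,5),(759,2),(759,5),(760,2),(760,4),
    (761,1),(761,4),(761,5),(762,2),(764,2),(766,2),(767,2),(767,4),(767,5),(768,5),(769,4),(770,4),(772,
    3),(772,4),(780,5),(781,2),(783,2),(784,2),(785,2),(786,2),(385,3),(386,2),(386,4),(388,1),(388,4),
    (391,4),(392,2),(393,4),(394,1),(395,1),(395,3),(395,5),(572,2),(572,4),(572,5),(573,2),(573,5),(574,
    2),(574,4),(576,2),(577,2),(578,2),(580,2),(581,2),(584,2),(586,5),(410,1),(410,3),(410,5),(588,2),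
    (590,3),(596,3),(596,4),(596,5),(597,2),(597,4),(597,5),(598,2),(598,5),(599,4),(600,1),(600,5),(601,
    1),(601,5),(602,1),(602,5),(603,1),(603,3),(614,2),(614,4),(615,2),(615,5),(616,4),(621,2),(623,2),
    (625,1),(625,3),(625,5),(628,1),(628,3),(628,4),(629,2),(629,3),(632,2),(635,2),(638,2),(638,5),(639,
    2),(639,4),(640,1),(640,4),(640,5),(641,2),(642,1),(642,3),(642,4),(408,3),(408,5),(409,2),(409,5),
    (411,2),(411,4),(412,1),(412,4),(412,5),(413,1),(413,3),(815,4),(815,5),(816,2),(816,5),(811,2),(811,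
    4),(819,2),(820,1),(820,3),(820,5),(821,2),(814,1),(814,3),(814,4),(822,2),(823,2),(823,4),(823,5),
    (824,2),(826,5),(827,1),(830,2),(833,3),(834,5),(835,2),(835,4),(838,2),(839,4),(840,4),(842,2),(849,
    3),(849,4),(849,5),(850,2),(850,4),(852,2),(853,2),(868,2),(868,5),(660,1),(871,1),(871,5),(872,4),
    (873,3),(873,4),(874,1),(874,3),(874,5),(646,2),(647,1),(647,4),(650,2),(651,1),(651,3),(651,5),(884,
    2),(885,2),(886,2),(417,1),(417,3),(417,5),(901,4),(901,5),(902,2),(902,5),(903,4),(904,5),(905,1),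
    (906,1),(907,3),(919,5),(921,2),(921,3),(926,2),(929,2),(930,2),(931,1),(931,4),(931,5),(932,3),(415,
    3),(416,5),(1201,2),(1204,1),(1204,3),(1206,2),(1206,4),(1206,5),(1207,2),(1208,5),(1210,3),(1211,5),
    (1212,2),(1213,2),(1028,2),(1056,1),(1231,1),(1231,5),(1232,4),(1233,3),(1234,1),(1234,3),(1234,5),
    (655,4),(656,2),(658,4),(659,5),(667,1),(667,5),(671,3),(672,5),(952,2),(953,2),(954,3),(810,1),(810,
    3),(810,4),(956,2),(957,5),(938,1),(958,3),(958,4),(962,3),(695,2),(966,5),(968,2),(978,4),(978,5),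
    (979,5),(980,4),(981,5),(983,2),(984,5),(985,2),(986,2),(987,5),(989,5),(990,4),(991,2),(1019,2),
    (1020,1),(1020,3),(1020,5),(1021,2),(717,2),(1032,1),(1032,3),(1032,5),(1033,2),(1034,1),(1036,1),
    (1036,3),(1036,4),(1041,5),(1042,2),(1043,3),(1043,4),(1044,2),(1045,5),(1047,4),(705,3),(1048,3),
    (1049,4),(1050,5),(694,1),(694,4),(694,5),(696,2),(699,2),(700,2),(702,4),(703,2),(1287,3),(483,3),
    (1280,2),(1289,1),(1289,3),(1290,3),(1290,5),(1285,5),(950,4),(1303,1),(1303,3),(1305,2),(1306,2),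
    (1310,4),(1310,5),(1198,5),(1311,4),(1312,5),(1313,1),(1314,1),(1072,1),(948,2),(1337,2),(1337,5),
    (1149,3),(1342,5),(1343,4),(1062,5),(1356,1),(1357,4),(1366,2),(1184,2),(1368,2),(1370,2),(1383,2),
    (1385,1),(1385,3),(1385,4),(1388,5),(1389,3),(1389,4),(715,2),(1643,1),(1643,3),(1403,4),(1647,1),
    (1647,3),(1404,2),(1663,2),(1663,5),(1119,3),(1070,5),(1083,2),(1411,5),(1412,1),(1412,3),(1245,2),
    (1414,5),(1209,2),(1436,4),(1438,1),(1438,3),(1441,4),(1381,3),(1381,4),(1152,5),(1505,4),(1508,5),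
    (1123,2),(1125,1),(1196,2),(1714,2),(1676,4),(1603,1),(1932,4)]),
   (141, [[3,0],[2,4,3,2],[4,3,6,3,4],[6,3,5,3,6,0]],
    [(141,0),(141,1),(141,2),(141,3),(430,1),(430,2),(430,3),(720,0),(720,1),(720,2),(720,3),(452,1),
    (452,3),(239,0),(239,1),(1372,0),(1372,1),(1372,2),(1372,3),(169,1),(448,1),(724,1),(724,2),(724,3),
    (725,0),(725,2),(1073,1),(1073,3),(1136,0),(1787,0),(1787,1),(1787,2),(1787,3),(277,1),(443,1),(1096,
    0),(1096,2),(543,2),(543,3),(997,2),(1570,1),(1570,3),(289,0),(505,0),(505,1),(505,2),(505,3),(291,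
    0),(291,2),(355,1),(355,2),(355,3),(1008,1),(1867,1),(1612,1),(1612,2),(1612,3),(1539,1),(894,0),
    (894,1),(894,3),(2031,1),(1549,1),(1838,1),(1838,2),(1838,3),(1793,0),(587,3),(1255,0),(476,0),(1910,
    0),(1910,2),(1101,1),(996,1),(1601,1),(1764,1),(1005,1),(290,1),(1219,2),(1219,3),(1373,3),(1448,2),
    (1530,1),(1000,1),(1826,0),(1826,2),(1474,2),(1076,1),(1724,3),(1111,1),(1638,0),(1657,0),(1272,0),
    (1272,2),(1652,3)])]

end CfsgLib.Recog.SporHe.Mult
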