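import Cfsg.Prelude.Def_KGroupFacts
import Cfsg.Agent.Lib.Recog.SporHe.Simple
import Cfsg.Agent.Lib.Recog.SporHe.MultData
import Cfsg.Agent.Lib.Sporadic.MultiplierEngine
import Cfsg.Agent.Lib.Schur.Corestriction

set_option autoImplicit false
set_option maxRecDepth 20000

/-!
Stem extensions of the presented Held group: equalities of words, and general facts about lifts of
involutions in a central extension with kernel of prime exponent (owner: helper22).
-/

namespace CfsgLib.Recog.SporHe.Mult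

open Cfsg CfsgLib.Recog.SporBound
open scoped commutatorElement
open CfsgLib.ThreeTrans.CosetIndex (He2058.data He2058.valid forallFrom forallFrom_elim gen relWords)

/-- Two words move all points in the same way. -/
noncomputable def same (u w : List ℕ) : Bool :=
  forallFrom (fun c => Nat.beq (He2058.data.trace c u) (He2058.data.trace c w)) 0 2058

/-- The element of a word. -/
noncomputable def val (w : List ℕ) : Spor.He := (w.map el).prod

theorem eq_of_same {u w : List ℕ} (h : same u w = true) : val u = val w := by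
  have key : act (val u)⁻¹ = act (val w)⁻¹ := Equiv.ext fun c => Fin.ext (by
    rw [val, val, ← act_word u c, ← act_word w c]
    exact Nat.eq_of_beq_eq_true (forallFrom_elim h (i := c.1) (Nat.zero_le _)
      (by have := c.2; simpa [show He2058.data.n = 2058 by decide +kernel] using this)))
  exact inv_injective (act_injective key)

/-- A word repeated. -/
def rep (n : ℕ) (w : List ℕ) : List ℕ := (List.replicate n w).flatten

theorem val_append (u w : List ℕ) : val (u ++ w) = val u * val w := by simp [val]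

theorem val_single (x : ℕ) : val [x] = el x := by simp [val]

theorem val_rep : ∀ (n : ℕ) (w : List ℕ), val (rep n w) = val w ^ n
  | 0, w => by simp [rep, val]
  | n + 1, w => by
    rw [pow_succ', ← val_rep n w, ← val_append]
    simp [rep, List.replicate_succ]

theorem val_nil : val [] = 1 := rfl

theorem el_inv (x : ℕ) : (el x)⁻¹ = el x :=
  inv_eq_of_mul_eq_one_right (gen_inv nodes x)

section Lifts

variable {Γ G : Type*} [Group Γ] [Group G] (τ : Γ →* G)

theorem mem_ker_mul_inv {X Y : Γ} (h : τ X = τ Y) : X * Y⁻¹ ∈ τ.ker := by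
  rw [MonoidHom.mem_ker, map_mul, map_inv, h, mul_inv_cancel]

variable (hc : τ.ker ≤ Subgroup.center Γ)
include hc

theorem comm_ker {z : Γ} (hz : z ∈ τ.ker) (g : Γ) : Commute g z := Subgroup.mem_center_iff.1 (hc hz) g

theorem mul_ker_pow {z : Γ} (hz : z ∈ τ.ker) (X : Γ) (n : ℕ) : (X * z) ^ n = X ^ n * z ^ n :=
  (comm_ker τ hc hz X).mul_pow n

/-- In exponent two, lifts of conjugate elements have equal squares. -/
theorem sq_eq_sq (hs : Function.Surjective τ) (he : ∀ z ∈ τ.ker, z ^ 2 = 1) {g x y : G}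
    (h : g * x = y * g) (hx : x * x = 1) {X Y : Γ} (hX : τ X = x) (hY : τ Y = y) : Y ^ 2 = X ^ 2 := by
  obtain ⟨c, hcy⟩ := CfsgLib.Sporadic.Mult.pow_lift_conj τ hs hc he h hX hY
  have hk : X ^ 2 ∈ τ.ker := by rw [MonoidHom.mem_ker, map_pow, hX, sq, hx]
  rw [hcy, (comm_ker τ hc hk c).eq, mul_inv_cancel_right]

/-- An involution inverting an element makes a central power of it a square root of one. -/
theorem sq_dihedral {U V : Γ} (hU : U * U = 1) (hV : V * V = 1) {n : ℕ} (hk : (U * V) ^ n ∈ τ.ker) :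
    ((U * V) ^ n) ^ 2 = 1 := by
  have iU : U⁻¹ = U := inv_eq_of_mul_eq_one_right hU
  have iV : V⁻¹ = V := inv_eq_of_mul_eq_one_right hV
  have e : U * (U * V) * U⁻¹ = (U * V)⁻¹ := by
    rw [iU, mul_inv_rev, iU, iV, ← mul_assoc, hU, one_mul]
  have e' : ((U * V) ^ n)⁻¹ = (U * V) ^ n := by
    rw [← inv_pow, ← e, conj_pow, (comm_ker τ hc hk U).eq, mul_inv_cancel_right]
  rw [sq]
  exact inv_eq_iff_mul_eq_one.1 e'

/-- Lifts squaring to one of commuting involutions have a commutator squaring to one. -/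
theorem commute_of_sq {r : ℕ} (hr : Odd r) (he : ∀ z ∈ τ.ker, z ^ r = 1) {X Y : Γ} (hX : X * X = 1) (hY : Y * Y = 1)
    (h : τ X * τ Y = τ Y * τ X) : Commute X Y := by
  have iX : X⁻¹ = X := inv_eq_of_mul_eq_one_right hX
  have iY : Y⁻¹ = Y := inv_eq_of_mul_eq_one_right hY
  have hk : (X * Y) ^ 2 ∈ τ.ker := by
    rw [MonoidHom.mem_ker, map_pow, sq, map_mul]
    calc τ X * τ Y * (τ X * τ Y) = τ Y * τ X * (τ X * τ Y) := by rw [h]
      _ = τ Y * τ (X * X) * τ Y := by rw [map_mul]; group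
      _ = 1 := by rw [hX, map_one, mul_one, ← map_mul, hY, map_one]
  have h2 := sq_dihedral τ hc hX hY hk
  have h1 : (X * Y) ^ 2 = 1 := by
    obtain ⟨j, rfl⟩ := hr
    have := he _ hk
    rwa [pow_add, pow_mul, h2, one_pow, one_mul, pow_one] at this
  show X * Y = Y * X
  calc X * Y = (X * Y) * 1 := (mul_one _).symm
    _ = (X * Y) * ((X * Y) ^ 2)⁻¹ := by rw [h1, inv_one]
    _ = (X * Y)⁻¹ := by rw [sq]; group
    _ = Y * X := by rw [mul_inv_rev, iX, iY]

/-- Every involution has a lift squaring to one when the kernel has odd exponent. -/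
theorem exists_sq_one (hs : Function.Surjective τ) {r : ℕ} (hr : Odd r) (he : ∀ z ∈ τ.ker, z ^ r = 1) {x : G}
    (hx : x * x = 1) : ∃ X : Γ, τ X = x ∧ X * X = 1 := by
  obtain ⟨X, rfl⟩ := hs x
  have hk : X * X ∈ τ.ker := by rw [MonoidHom.mem_ker, map_mul, hx]
  obtain ⟨j, rfl⟩ := hr
  refine ⟨X * (X * X) ^ j, by rw [map_mul, MonoidHom.mem_ker.1 (pow_mem hk j), mul_one], ?_⟩
  rw [← sq, mul_ker_pow τ hc (pow_mem hk j), ← pow_mul, sq, ← pow_succ', ← he _ hk]
  congr 1
  ring

/-- The commutator subgroup of a product with central elements lies in the first factor. -/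
theorem commutator_le {H S : Subgroup Γ} (h : ∀ u ∈ H, ∃ s ∈ S, ∃ c ∈ τ.ker, u = s * c) :
    ⁅H, H⁆ ≤ S := by
  rw [Subgroup.commutator_le]
  intro x hx y hy
  obtain ⟨s, hs, c, hc1, rfl⟩ := h x hx
  obtain ⟨t, ht, d, hd1, rfl⟩ := h y hy
  have e : ⁅s * c, t * d⁆ = ⁅s, t⁆ := by
    simp only [commutatorElement_def, mul_inv_rev]
    calc s * c * (t * d) * (c⁻¹ * s⁻¹) * (d⁻¹ * t⁻¹)
        = s * (c * (t * d)) * c⁻¹ * s⁻¹ * (d⁻¹ * t⁻¹) := by group
      _ = s * ((t * d) * c) * c⁻¹ * s⁻¹ * (d⁻¹ * t⁻¹) := by rw [(comm_ker τ hc hc1 (t * d)).eq]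
      _ = s * t * (d * s⁻¹) * d⁻¹ * t⁻¹ := by group
      _ = s * t * (s⁻¹ * d) * d⁻¹ * t⁻¹ := by rw [(comm_ker τ hc hd1 s⁻¹).eq]
      _ = _ := by group
  rw [e, commutatorElement_def]
  exact mul_mem (mul_mem (mul_mem hs ht) (inv_mem hs)) (inv_mem ht)

end Lifts

end CfsgLib.Recog.SporHe.Mult
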