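import Cfsg.Agent.Lib.Recog.SporHe.MultHom
import Cfsg.Agent.Lib.Recog.SporHe.MultChecks

set_option autoImplicit false
set_option maxRecDepth 20000

/-!
Stem extensions of the Held group with kernel of exponent two are trivial (owner: helper22).
-/

namespace CfsgLib.Recog.SporHe.Mult

open Cfsg

variable {Δ : Type*} [Group Δ] (τ : Δ →* Spor.He)

theorem word_eq {u w : List ℕ} (h : same u w = true) : (u.map el).prod = (w.map el).prod := eq_of_same h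

theorem el_sq (x : ℕ) : el x * el x = 1 := SporBound.gen_inv nodes x

theorem commute_of_pair (hs : Function.Surjective τ) (hc : τ.ker ≤ Subgroup.center Δ)
    (he : ∀ z ∈ τ.ker, z ^ 2 = 1) {x y n m : ℕ} {t : List ℕ} (hp : (x, y, t, n, m) ∈ pairs) {X Y : Δ}
    (hX : τ X = el x) (hY : τ Y = el y) : Commute X Y := by
  have h := List.all_eq_true.1 pairs_ok _ hp
  simp only [Bool.and_eq_true, Nat.beq_eq] at h
  obtain ⟨hxy, hcx, hn, hm, hno, hmo⟩ := h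
  have e1 : el y * el x = el x * el y := by
    have := eq_of_same hxy
    simpa [val] using this
  have e2 : val t * el x = el x * val t := by
    have := eq_of_same hcx
    rwa [val_append, val_append, val_single] at this
  have e3 : (el y * val t) ^ n = 1 := by
    have := eq_of_same hn
    rwa [val_rep, val_nil, val_append, val_single] at this
  have e4 : val t ^ m = 1 := by
    have := eq_of_same hm
    rwa [val_rep, val_nil] at this
  refine CfsgLib.Sporadic.Mult.commute_lifts τ hs hc he [el y * val t, (val t)⁻¹] hX (H := Y) ?_ ?_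
  · simp [hY]
  · intro o ho
    simp only [List.mem_cons, List.not_mem_nil, or_false] at ho
    rcases ho with rfl | rfl
    · refine ⟨?_, n, Nat.coprime_two_right.2 (Nat.odd_iff.2 hno), e3⟩
      rw [← mul_assoc, ← e1, mul_assoc, ← e2, mul_assoc]
    · exact ⟨(Commute.inv_right (e2.symm : Commute (el x) (val t))).eq, m,
        Nat.coprime_two_right.2 (Nat.odd_iff.2 hmo), by rw [inv_pow, e4, inv_one]⟩

theorem sq_of_conj (hs : Function.Surjective τ) (hc : τ.ker ≤ Subgroup.center Δ)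
    (he : ∀ z ∈ τ.ker, z ^ 2 = 1) {x y w : List ℕ} (h : (x, y, w) ∈ conjs) (hx : val x * val x = 1)
    {X Y : Δ} (hX : τ X = val x) (hY : τ Y = val y) : Y ^ 2 = X ^ 2 :=
  sq_eq_sq τ hc hs he (conj_of_mem h) hx hX hY

theorem ker_eq_bot_two (hτ : IsStemExtension τ) (he : ∀ z ∈ τ.ker, z ^ 2 = 1) : τ.ker = ⊥ := by
  obtain ⟨hs, hc, hd⟩ := hτ
  have hone : ∀ {X : Δ} {x : ℕ}, τ X = el x → τ X = val [x] := fun h => by rw [h, val_single]
  have hinv1 : ∀ x : ℕ, val [x] * val [x] = 1 := fun x => by rw [val_single]; exact el_sq x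
  -- lifts of the conjugates of the first and of the fourth letter square to one
  obtain ⟨A₀, hA₀⟩ := hs (el 0)
  obtain ⟨B₀, hB₀⟩ := hs (el 1)
  obtain ⟨C₀, hC₀⟩ := hs (el 2)
  obtain ⟨D₀, hD₀⟩ := hs (el 3)
  obtain ⟨E₀, hE₀⟩ := hs (el 4)
  obtain ⟨F₀, hF₀⟩ := hs (el 5)
  obtain ⟨G₀, hG₀⟩ := hs (el 6)
  have hA2 : ∀ {Y : Δ} {y w : List ℕ}, ([0], y, w) ∈ conjs → τ Y = val y → Y ^ 2 = A₀ ^ 2 :=
    fun h hY => sq_of_conj τ hs hc he h (hinv1 0) (hone hA₀) hY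
  have hD2 : ∀ {Y : Δ} {y w : List ℕ}, ([3], y, w) ∈ conjs → τ Y = val y → Y ^ 2 = D₀ ^ 2 :=
    fun h hY => sq_of_conj τ hs hc he h (hinv1 3) (hone hD₀) hY
  have dD : D₀ ^ 2 = 1 := by
    have hcm := commute_of_pair τ hs hc he (x := 0) (y := 3) (t := [4,3,5,6]) (n := 7) (m := 7) (by decide) hA₀ hD₀
    have h := hA2 (Y := A₀ * D₀) (y := [0, 3]) (w := [5, 3, 6, 1, 2, 3, 5, 4, 3, 2, 1]) (by decide)
      (by rw [map_mul, hA₀, hD₀]; simp [val])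
    rwa [hcm.mul_pow, mul_eq_left] at h
  have dA : A₀ ^ 2 = 1 := by
    have hcm := commute_of_pair τ hs hc he (x := 1) (y := 3) (t := [4,3,5,6]) (n := 7) (m := 7) (by decide) hB₀ hD₀
    have h := hD2 (Y := B₀ * D₀) (y := [1, 3]) (w := [4, 3, 2, 3, 0, 1, 2, 3, 2]) (by decide)
      (by rw [map_mul, hB₀, hD₀]; simp [val])
    rw [hcm.mul_pow, dD, mul_one] at h
    rw [← hA2 (Y := B₀) (y := [1]) (w := [2,3,1,2,3,5,2,3,6,1,2,3,5,4,3,2,1]) (by decide) (hone hB₀)]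
    exact h
  have sqA : ∀ {Y : Δ} {y w : List ℕ}, ([0], y, w) ∈ conjs → τ Y = val y → Y * Y = 1 :=
    fun h hY => by rw [← sq, hA2 h hY, dA]
  have sqD : ∀ {Y : Δ} {y w : List ℕ}, ([3], y, w) ∈ conjs → τ Y = val y → Y * Y = 1 :=
    fun h hY => by rw [← sq, hD2 h hY, dD]
  have sA : ∀ {Y : Δ}, τ Y = el 0 → Y * Y = 1 := by
    intro Y hY
    rw [← sq, sq_eq_sq τ hc hs he (g := (1 : Spor.He)) (by rw [one_mul, mul_one]) (el_sq 0) hA₀ hY, dA]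
  have sD : ∀ {Y : Δ}, τ Y = el 3 → Y * Y = 1 := by
    intro Y hY
    rw [← sq, sq_eq_sq τ hc hs he (g := (1 : Spor.He)) (by rw [one_mul, mul_one]) (el_sq 3) hD₀ hY, dD]
  have sB : ∀ {Y : Δ}, τ Y = el 1 → Y * Y = 1 := fun hY =>
    sqA (y := [1]) (w := [2,3,1,2,3,5,2,3,6,1,2,3,5,4,3,2,1]) (by decide) (hone hY)
  have sC : ∀ {Y : Δ}, τ Y = el 2 → Y * Y = 1 := fun hY =>
    sqA (y := [2]) (w := [3,2,3,5,2,3,6,1,2,3,5,4,3,2,1]) (by decide) (hone hY)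
  have sE : ∀ {Y : Δ}, τ Y = el 4 → Y * Y = 1 := fun hY => sqD (y := [4]) (w := [3,4]) (by decide) (hone hY)
  have sF : ∀ {Y : Δ}, τ Y = el 5 → Y * Y = 1 := fun hY => sqD (y := [5]) (w := [3,5]) (by decide) (hone hY)
  have sG : ∀ {Y : Δ}, τ Y = el 6 → Y * Y = 1 := fun hY => sqD (y := [6]) (w := [3,6]) (by decide) (hone hY)
  -- braid relations
  have braid : ∀ {X Y₀ : Δ} {x y : ℕ}, τ X = el x → τ Y₀ = el y → same [x, y, x, y, x, y] [] = true →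
      ∃ Y : Δ, τ Y = el y ∧ (X * Y) ^ 3 = 1 := by
    intro X Y₀ x y hX hY h
    have hk : (X * Y₀) ^ 3 ∈ τ.ker := by
      rw [MonoidHom.mem_ker, map_pow, map_mul, hX, hY]
      simpa [val, pow_succ, mul_assoc] using eq_of_same h
    refine ⟨Y₀ * (X * Y₀) ^ 3, by rw [map_mul, MonoidHom.mem_ker.1 hk, mul_one, hY], ?_⟩
    rw [← mul_assoc, mul_ker_pow τ hc hk, ← pow_succ']
    rw [show (3 + 1 : ℕ) = 2 * 2 from rfl, pow_mul, he _ hk, one_pow]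
  obtain ⟨E₁, hE₁, de₁⟩ := braid hD₀ hE₀ (by decide +kernel)
  obtain ⟨F₁, hF₁, df₁⟩ := braid hD₀ hF₀ (by decide +kernel)
  obtain ⟨G₁, hG₁, dg₁⟩ := braid hD₀ hG₀ (by decide +kernel)
  have e1 : el 4 = (el 5 * el 6) ^ 2 := by
    have h : same [4] [5, 6, 5, 6] = true := by decide +kernel
    simpa [val, pow_succ, mul_assoc] using eq_of_same h
  obtain ⟨k₁, hk₁def⟩ : ∃ x, x = E₁ * ((F₁ * G₁) ^ 2)⁻¹ := ⟨_, rfl⟩
  have hk₁ : k₁ ∈ τ.ker := hk₁def ▸ mem_ker_mul_inv τ (by rw [map_pow, map_mul, hE₁, hF₁, hG₁, e1])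
  have k₁2 : k₁ * k₁ = 1 := by rw [← sq]; exact he _ hk₁
  have mul2 : ∀ {z : Δ}, z ∈ τ.ker → ∀ X Y : Δ, X * z * (Y * z) = X * Y := by
    intro z hz X Y
    rw [mul_assoc X, ← mul_assoc z, ← (comm_ker τ hc hz Y).eq, mul_assoc Y, ← sq, he _ hz, mul_one]
  have tmap : ∀ {z : Δ}, z ∈ τ.ker → ∀ X : Δ, τ (X * z) = τ X := fun hz X => by
    rw [map_mul, MonoidHom.mem_ker.1 hz, mul_one]
  obtain ⟨D, hDdef⟩ : ∃ x, x = D₀ * k₁ := ⟨_, rfl⟩
  obtain ⟨E, hEdef⟩ : ∃ x, x = E₁ * k₁ := ⟨_, rfl⟩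
  obtain ⟨F, hFdef⟩ : ∃ x, x = F₁ * k₁ := ⟨_, rfl⟩
  obtain ⟨G, hGdef⟩ : ∃ x, x = G₁ * k₁ := ⟨_, rfl⟩
  have mD : τ D = el 3 := by rw [hDdef, tmap hk₁, hD₀]
  have mE : τ E = el 4 := by rw [hEdef, tmap hk₁, hE₁]
  have mF : τ F = el 5 := by rw [hFdef, tmap hk₁, hF₁]
  have mG : τ G = el 6 := by rw [hGdef, tmap hk₁, hG₁]
  have r1 : E = (F * G) ^ 2 := by
    rw [hEdef, hFdef, hGdef]
    have : (F₁ * G₁) ^ 2 * (F₁ * G₁) ^ 2 = 1 :=
      sE (by rw [map_pow, map_mul, hF₁, hG₁, e1])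
    rw [mul2 hk₁, hk₁def, ← mul_assoc, sE hE₁, one_mul, inv_eq_of_mul_eq_one_left this]
  have e2 : el 4 = (el 0 * el 1 * el 2) ^ 3 := by
    have h : same [4] [0, 1, 2, 0, 1, 2, 0, 1, 2] = true := by decide +kernel
    simpa [val, pow_succ, mul_assoc] using eq_of_same h
  have e3 : el 0 = (el 2 * el 3) ^ 5 := by
    have h : same [0] [2, 3, 2, 3, 2, 3, 2, 3, 2, 3] = true := by decide +kernel
    simpa [val, pow_succ, mul_assoc] using eq_of_same h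
  obtain ⟨B₁, hB₁, cb₁⟩ := braid hC₀ hB₀ (by decide +kernel)
  obtain ⟨k₂, hk₂def⟩ : ∃ x, x = E * ((A₀ * B₁ * C₀) ^ 3)⁻¹ := ⟨_, rfl⟩
  have hk₂ : k₂ ∈ τ.ker := hk₂def ▸ mem_ker_mul_inv τ (by rw [map_pow, map_mul, map_mul, mE, hA₀, hB₁, hC₀, e2])
  obtain ⟨A, hAdef⟩ : ∃ x, x = A₀ * k₂ := ⟨_, rfl⟩
  have mA : τ A = el 0 := by rw [hAdef, tmap hk₂, hA₀]
  obtain ⟨k₃, hk₃def⟩ : ∃ x, x = A * ((C₀ * D) ^ 5)⁻¹ := ⟨_, rfl⟩
  have hk₃ : k₃ ∈ τ.ker := hk₃def ▸ mem_ker_mul_inv τ (by rw [map_pow, map_mul, mA, hC₀, mD, e3])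
  obtain ⟨B, hBdef⟩ : ∃ x, x = B₁ * k₃ := ⟨_, rfl⟩
  obtain ⟨C, hCdef⟩ : ∃ x, x = C₀ * k₃ := ⟨_, rfl⟩
  have mB : τ B = el 1 := by rw [hBdef, tmap hk₃, hB₁]
  have mC : τ C = el 2 := by rw [hCdef, tmap hk₃, hC₀]
  have pow_odd : ∀ {z : Δ}, z ∈ τ.ker → ∀ (X : Δ) (j : ℕ), (X * z) ^ (2 * j + 1) = X ^ (2 * j + 1) * z := by
    intro z hz X j
    rw [mul_ker_pow τ hc hz, pow_succ z, pow_mul, he _ hz, one_pow, one_mul]
  have r2 : E = (A * B * C) ^ 3 := by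
    have h1 : A * B * C = A₀ * B₁ * C₀ * k₂ := by
      rw [hAdef, hBdef, hCdef]
      rw [mul_assoc (A₀ * k₂), mul2 hk₃, mul_assoc A₀, ← (comm_ker τ hc hk₂ (B₁ * C₀)).eq]
      group
    have hk : Commute ((A₀ * B₁ * C₀) ^ 3) k₂ := comm_ker τ hc hk₂ _
    rw [h1, show (3 : ℕ) = 2 * 1 + 1 from rfl, pow_odd hk₂, ← show (3 : ℕ) = 2 * 1 + 1 from rfl, hk.eq, hk₂def,
      inv_mul_cancel_right]
  have r3 : A = (C * D) ^ 5 := by
    have h1 : C * D = C₀ * D * k₃ := by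
      rw [hCdef]
      rw [mul_assoc, ← (comm_ker τ hc hk₃ D).eq, mul_assoc]
    have hk : Commute ((C₀ * D) ^ 5) k₃ := comm_ker τ hc hk₃ _
    rw [h1, show (5 : ℕ) = 2 * 2 + 1 from rfl, pow_odd hk₃, ← show (5 : ℕ) = 2 * 2 + 1 from rfl, hk.eq, hk₃def,
      inv_mul_cancel_right]
  refine ker_eq_bot τ (A := A) (B := B) (C := C) (D := D) (E := E) (F := F) (G := G) ?_ hc hd
  have hcm : ∀ {x y n m : ℕ} {t : List ℕ}, (x, y, t, n, m) ∈ pairs → ∀ {X Y : Δ}, τ X = el x → τ Y = el y →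
      Commute X Y := fun hp _ _ hX hY => commute_of_pair τ hs hc he hp hX hY
  have fgfg : (F * G) ^ 4 = 1 := by
    rw [pow_mul (F * G) 2 2, sq ((F * G) ^ 2), ← r1]
    exact sE mE
  have iF : F⁻¹ = F := inv_eq_of_mul_eq_one_right (sF mF)
  have iG : G⁻¹ = G := inv_eq_of_mul_eq_one_right (sG mG)
  have efF : Commute E F := by
    show E * F = F * E
    rw [r1]
    calc (F * G) ^ 2 * F = F * (G * F) ^ 2 := by rw [sq, sq]; group
      _ = F * ((F * G) ^ 2)⁻¹ := by rw [← inv_pow, mul_inv_rev, iF, iG]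
      _ = F * (F * G) ^ 2 := by
        rw [inv_eq_of_mul_eq_one_left (by rw [← pow_add]; exact fgfg : (F * G) ^ 2 * (F * G) ^ 2 = 1)]
  have efG : Commute E G := by
    show E * G = G * E
    rw [r1]
    have h' : (G * F) ^ 2 = (F * G) ^ 2 := by
      rw [show G * F = (F * G)⁻¹ by rw [mul_inv_rev, iF, iG], inv_pow]
      exact inv_eq_of_mul_eq_one_left (by rw [← pow_add]; exact fgfg)
    calc (F * G) ^ 2 * G = (G * F) ^ 2 * G := by rw [h']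
      _ = G * (F * G) ^ 2 := by rw [sq, sq]; group
  have braid_shift : ∀ {z : Δ}, z ∈ τ.ker → ∀ {X Y : Δ}, (X * Y) ^ 3 = 1 → (X * z * (Y * z)) ^ 3 = 1 :=
    fun hz X Y h => by rw [mul2 hz, h]
  have eab : val [0, 1, 0, 1] = (el 0 * el 1) ^ 2 := by simp [val, pow_succ, mul_assoc]
  have ecdfg : val [2, 3, 5, 6, 2, 3, 5, 6] = (el 2 * el 3 * el 5 * el 6) ^ 2 := by
    simp [val, pow_succ, mul_assoc]
  exact
  { mA, mB, mC, mD, mE, mF, mG
    sA := sA mA, sB := sB mB, sC := sC mC, sD := sD mD, sE := sE mE, sF := sF mF, sG := sG mG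
    ac := hcm (x := 0) (y := 2) (t := [3,4]) (n := 5) (m := 3) (by decide) mA mC
    ad := hcm (x := 0) (y := 3) (t := [4,3,5,6]) (n := 7) (m := 7) (by decide) mA mD
    ae := hcm (x := 0) (y := 4) (t := [3,5,6]) (n := 7) (m := 7) (by decide) mA mE
    af := hcm (x := 0) (y := 5) (t := [3,6]) (n := 7) (m := 3) (by decide) mA mF
    ag := hcm (x := 0) (y := 6) (t := [3,5]) (n := 7) (m := 3) (by decide) mA mG
    bd := hcm (x := 1) (y := 3) (t := [4,3,5,6]) (n := 7) (m := 7) (by decide) mB mD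
    be := hcm (x := 1) (y := 4) (t := [3,5,6]) (n := 7) (m := 7) (by decide) mB mE
    bf := hcm (x := 1) (y := 5) (t := [3,6]) (n := 7) (m := 3) (by decide) mB mF
    bg := hcm (x := 1) (y := 6) (t := [3,5]) (n := 7) (m := 3) (by decide) mB mG
    ce := hcm (x := 2) (y := 4)
      (t := [3,2,3,5,2,3,6,1,2,3,5,4,3,2,1,2,3,0,1,2,3,4,5,3,2,1,6,3,2,5,3,2,3]) (n := 5) (m := 5) (by decide) mC mE
    cf := hcm (x := 2) (y := 5) (t := (pairs[10]).2.2.1) (n := 5) (m := 3) (by decide) mC mF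
    cg := hcm (x := 2) (y := 6) (t := (pairs[11]).2.2.1) (n := 5) (m := 5) (by decide) mC mG
    ef := efF, eg := efG
    ab := by
      rw [pow_mul (A * B) 2 2, sq ((A * B) ^ 2)]
      exact sqA (y := [0, 1, 0, 1]) (w := [2,3,5,2,3,2,3,5,3,2,3,2,1]) (by decide)
        (by rw [map_pow, map_mul, mA, mB, eab])
    bc := by
      rw [hBdef, hCdef]
      rw [mul2 hk₃]
      exact swap_pow cb₁
    cd := by
      rw [pow_mul (C * D) 5 2, ← r3, sq]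
      exact sA mA
    de := by rw [hDdef, hEdef]; exact braid_shift hk₁ de₁
    df := by rw [hDdef, hFdef]; exact braid_shift hk₁ df₁
    fg := fgfg
    gd := by rw [hDdef, hGdef]; exact braid_shift hk₁ dg₁
    r1, r2, r3
    r4 := by
      rw [pow_mul (C * D * F * G) 2 2, sq ((C * D * F * G) ^ 2)]
      exact sqD (y := [2, 3, 5, 6, 2, 3, 5, 6]) (w := [4,2,3,6,5,2]) (by decide)
        (by rw [map_pow, map_mul, map_mul, map_mul, mC, mD, mF, mG, ecdfg]) }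

end CfsgLib.Recog.SporHe.Mult
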