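import Cfsg.Agent.Lib.Recog.SporHe.MultTwo
import Cfsg.Agent.Lib.Recog.SporHe.MultOdd
import Cfsg.Agent.Lib.Schur.Multiplier

set_option autoImplicit false

/-!
The Schur multiplier of the presented Held group is trivial (owner: helper22).
-/

namespace CfsgLib.Recog.SporHe.Mult

open Cfsg

theorem multiplier_trivial : HasCyclicSchurMultiplier Spor.He 1 := by
  refine CfsgLib.Schur.hasCyclicSchurMultiplier_one_of_forall fun Γ _ _ σ hσ => ?_
  rw [Subgroup.eq_bot_iff_forall]
  intro z hz
  rw [← orderOf_eq_one_iff, Nat.eq_one_iff_not_exists_prime_dvd]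
  intro r hr
  haveI := Fact.mk hr
  refine CfsgLib.Sporadic.Mult.kills_prime σ hσ r (fun Δ _ _ τ hτ he => ?_) hz
  refine ⟨⊤, by rw [Subgroup.index_top]; exact hr.not_dvd_one, fun z _ hk _ => ?_⟩
  have hbot : τ.ker = ⊥ := by
    rcases eq_or_ne r 2 with rfl | h2
    · exact ker_eq_bot_two τ hτ he
    rcases eq_or_ne r 3 with rfl | h3
    · exact ker_eq_bot_three τ hτ he
    · have h5 : 5 ≤ r := by
        have := hr.two_le
        rcases Nat.lt_or_ge r 5 with h | h
        · interval_cases r <;> first | omega | exact absurd hr (by norm_num)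
        · exact h
      exact ker_eq_bot_five τ hτ hr h5 he
  rw [hbot] at hk
  exact hk

end CfsgLib.Recog.SporHe.Mult
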